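import Cfsg.Agent.H808.RV.FTw_m3
import Cfsg.Agent.H553.OddHall_m3
import Mathlib.GroupTheory.Sylow
import Mathlib.GroupTheory.PGroup
import Mathlib.GroupTheory.Index
import Cfsg.Agent.H170.HL.OmRows_m3
import Cfsg.Agent.S0293
import Mathlib.LinearAlgebra.Dimension.Constructions
import Mathlib.LinearAlgebra.DFinsupp
import Mathlib.Algebra.DirectSum.Module
import Mathlib.Data.Fintype.Basic
import Mathlib
import Cfsg.Agent.LieClassical.SLGen
import Cfsg.Agent.S0242
import Cfsg.Agent.OddOrderLocal.HallPi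
import Cfsg.Agent.S0296
import Cfsg.Agent.H554.LieD
import Cfsg.Agent.H76.PermFour
import Cfsg.Agent.ClassicalGeometry.CartanDieudonne
import Cfsg.Agent.ClassicalGeometry.GenReflections
import Cfsg.Agent.ClassicalGeometry.SpinorSign
import Cfsg.Prelude.Def_Blocks
import Cfsg.Agent.H540.ClassNum
import Cfsg.Agent.H481.TBound
import Cfsg.Agent.S0799
import Cfsg.Agent.ClassicalGeometry.PSL2Solvable
import Cfsg.Agent.UGT.A7.Five
import Cfsg.Agent.H408.Hall.SpTwo
import Cfsg.Agent.H947.Sy.Psl2A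
import Cfsg.Agent.ClassicalGeometry.AutPSL.Main
import Cfsg.Agent.OddHalf.Known
import Cfsg.Agent.Lib.FastPerm
import Cfsg.Agent.FastGrp
import Cfsg.Agent.Prune
set_option linter.all false

section
prune_inst 0x7f00000000000000000000000000000000000000000000000000000000000000000000000000000000000000000000000000000000000000000000000000000000000000000000000000000000000000003ffffffffffffffffffffff7ffffbeffbdffffffff

-- part: H561/D4/Boxes
section
prune_inst 0x8000000000000000000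
set_option linter.all false
open scoped Cfsg.Agent.FastGrp

-- part: H561/D4/Base
section
/-!
# S4311, the row `PΩ₈⁺(q)`, `2, 3 ∈ π`, `p ∉ π`: definitions (helper561)

`G = Cfsg.Omega F Q`, `dim V = 8`, plus type, with an orthonormal frame `E : Fin 2 × A4 → V` (helper556's `Frame`:
`B(e,e) = 2`, i.e. `Q(e) = 1`); `H ≤ G` is the preimage of a Hall `π`-subgroup of `PΩ`.
The plan with complete paper proofs: `tools/plans/S4311_D4.md`.
-/

set_option autoImplicit false
set_option linter.unusedSectionVars false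

namespace Cfsg.Agent.H561.D4

open Module QuadraticMap Cfsg.Agent.H167.OP Cfsg.Agent.H170.HL Cfsg.Agent.H170.HL.OmRow Cfsg.Agent.H556.Om
open Cfsg Subgroup Cfsg.Agent.H485.RV Cfsg.Agent.H561.RV

universe u

variable {F : Type} [Field F] {ι : Type} [Fintype ι] [DecidableEq ι] {Q : QuadraticForm F (ι → F)}

/-- the standing hypotheses on the form -/
structure Q8 (Q : QuadraticForm F (ι → F)) : Prop where
  two : (2 : F) ≠ 0
  three : (3 : F) ≠ 0
  gq : GoodQ Q
  dim : Fintype.card ι = 8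
  frame : ∃ E : Fin 2 × A4 → ι → F, Frame (polarBilin Q) E
  /-- `|PΩ| = q¹² (q² - 1) (q⁴ - 1)² (q⁶ - 1) / 4` (the order of `PΩ₈⁺(q)`, `q` odd) -/
  card : ∀ [Finite F], Nat.card (Cfsg.Omega F (⇑Q)) * 2 =
    (Nat.card F) ^ 12 * ((Nat.card F) ^ 2 - 1) * ((Nat.card F) ^ 4 - 1) ^ 2 * ((Nat.card F) ^ 6 - 1)

/-- the standing hypotheses on the subgroup `H ≤ Ω` (preimage of a Hall `π`-subgroup of `PΩ`, `2, 3 ∈ π`, `p ∉ π`) -/
structure HD (H : Subgroup (Cfsg.Omega F (⇑Q))) : Prop where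
  q8 : Q8 Q
  /-- `p ∤ |H|` -/
  char : (Nat.card H : F) ≠ 0
  hall : (Nat.card H).Coprime H.index
  two : 2 ∣ Nat.card H
  three : 3 ∣ Nat.card H
  cen : Subgroup.center (Cfsg.Omega F (⇑Q)) ≤ H

/-- four mutually orthogonal planes, each the support of an element of order `3` -/
structure Dec (Q : QuadraticForm F (ι → F)) (U : Fin 4 → Submodule F (ι → F)) : Prop where
  orth : ∀ i j, i ≠ j → ∀ u ∈ U i, ∀ v ∈ U j, polarBilin Q u v = 0
  rank : ∀ i, Module.finrank F (U i) = 2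
  top : ⨆ i, U i = ⊤
  typ : ∀ i, ∃ x : Cfsg.Omega F (⇑Q), x ^ 3 = 1 ∧ x ≠ 1 ∧ LinearMap.range (rep (inc (⇑Q)) x - 1) = U i

/-- the stabiliser of a decomposition -/
def StD (Q : QuadraticForm F (ι → F)) (U : Fin 4 → Submodule F (ι → F)) : Subgroup (Cfsg.Omega F (⇑Q)) where
  carrier := {g | (∀ i, ∃ j, (U i).map (rep (inc (⇑Q)) g) = U j) ∧ ∀ i, ∃ j, (U i).map (rep (inc (⇑Q)) g⁻¹) = U j}
  one_mem' := by
    refine ⟨fun i => ⟨i, ?_⟩, fun i => ⟨i, ?_⟩⟩
    · rw [map_one]; exact Submodule.map_id _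
    · rw [inv_one, map_one]; exact Submodule.map_id _
  mul_mem' := by
    rintro a b ⟨ha, ha'⟩ ⟨hb, hb'⟩
    refine ⟨fun i => ?_, fun i => ?_⟩
    · obtain ⟨j, hj⟩ := hb i
      obtain ⟨k, hk⟩ := ha j
      refine ⟨k, ?_⟩
      rw [map_mul, Module.End.mul_eq_comp, Submodule.map_comp, hj, hk]
    · obtain ⟨j, hj⟩ := ha' i
      obtain ⟨k, hk⟩ := hb' j
      refine ⟨k, ?_⟩
      rw [mul_inv_rev, map_mul, Module.End.mul_eq_comp, Submodule.map_comp, hj, hk]
  inv_mem' := by
    rintro a ⟨ha, ha'⟩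
    exact ⟨ha', by rw [inv_inv]; exact ha⟩

/-- **BOX A** -/
def BoxA (Q : QuadraticForm F (ι → F)) : Prop :=
  ∀ H : Subgroup (Cfsg.Omega F (⇑Q)), HD H → NTwo H → ∃ U, Dec Q U ∧ H ≤ StD Q U

/-- **BOX B1**: two decompositions are conjugate -/
def BoxB1 (Q : QuadraticForm F (ι → F)) : Prop :=
  ∀ U U', Dec Q U → Dec Q U' → ∃ g : Cfsg.Omega F (⇑Q), ∀ i, (U i).map (rep (inc (⇑Q)) g) = U' i

/-- **BOX B2**: the stabiliser is solvable -/
def BoxB2 (Q : QuadraticForm F (ι → F)) : Prop :=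
  ∀ U, Dec Q U → Group.IsSolvable (StD Q U)

/-- **BOX C**: `O₂(H) = 1` implies `H / Z = PΩ₈⁺(2)` -/
def BoxC (Q : QuadraticForm F (ι → F)) : Prop :=
  ∀ H : Subgroup (Cfsg.Omega F (⇑Q)), HD H → ¬ NTwo H →
    Nonempty (H.map (QuotientGroup.mk' (Subgroup.center (Cfsg.Omega F (⇑Q)))) ≃*
      Cfsg.POmega (ZMod 2) (Cfsg.quadFormPlus 4 (ZMod 2))) ∧
    ¬ 2 ^ 14 ∣ Nat.card (Cfsg.Omega F (⇑Q))

/-- **BOX D1**: four subgroups over a Sylow `2`-subgroup -/
def BoxD1 (T : Type u) [Group T] : Prop :=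
  ∀ P : Sylow 2 T, ∃ M : Fin 4 → Subgroup T, Function.Injective M ∧ (∀ i, (P : Subgroup T) ≤ M i) ∧
    (∀ i, (P : Subgroup T).relIndex (M i) = 3) ∧ ⨆ i, M i = ⊤

/-- the overgroups of index three of `P` centralising `z` -/
def MZ {S : Type u} [Group S] (P : Subgroup S) (z : S) : Set (Subgroup S) :=
  {M | P ≤ M ∧ P.relIndex M = 3 ∧ ∀ m ∈ M, m * z = z * m}

/-- the overgroups of index three of `P` not centralising `z` -/
def MN {S : Type u} [Group S] (P : Subgroup S) (z : S) : Set (Subgroup S) :=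
  {M | P ≤ M ∧ P.relIndex M = 3 ∧ ¬ ∀ m ∈ M, m * z = z * m}

/-- **BOX D** -/
def BoxD (S : Type u) [Group S] : Prop :=
  ∃ (P : Sylow 2 S) (z : S), z ≠ 1 ∧ z ∈ P ∧ (MZ (P : Subgroup S) z).encard ≤ 4 ∧ (MN (P : Subgroup S) z).encard ≤ 1

end Cfsg.Agent.H561.D4
end

-- part: H561/D4/Two
section
/-!
# S4311, the row `PΩ₈⁺(q)`: the monomial 2-group `PM` (helper561)

`PP` : the Sylow 2-subgroup `D₈ wr C₂` of `Sym(Fin 2 × A4)`; `PM` : the monomial elements of `Ω` with permutation in `PP`.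
-/

set_option autoImplicit false
set_option linter.unusedSectionVars false

namespace Cfsg.Agent.H561.D4

open Module QuadraticMap Cfsg.Agent.H167.OP Cfsg.Agent.H170.HL Cfsg.Agent.H170.HL.OmRow Cfsg.Agent.H556.Om
open Cfsg Subgroup Cfsg.Agent.H485.RV Cfsg.Agent.H561.RV

theorem a_inv {X : Type*} (σ : Equiv.Perm X) (x : X) : σ (σ⁻¹ x) = x := σ.apply_symm_apply x

theorem inv_a {X : Type*} (σ : Equiv.Perm X) (x : X) : σ⁻¹ (σ x) = x := σ.symm_apply_apply x

/-- identity or the exchange of the two coordinates -/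
def lin (b : Bool) (a : A4) : A4 := if b then (a.2, a.1) else a

theorem lin_lin (b c : Bool) (a : A4) : lin b (lin c a) = lin (xor b c) a := by
  cases b <;> cases c <;> simp [lin]

theorem lin_add (b : Bool) (a a' : A4) : lin b (a + a') = lin b a + lin b a' := by
  cases b <;> simp [lin]

/-- the permutations `(k, a) ↦ (τ k, lin (b k) a + c k)` -/
def IsPP (σ : Equiv.Perm (Fin 2 × A4)) : Prop :=
  ∃ (τ : Equiv.Perm (Fin 2)) (b : Fin 2 → Bool) (c : Fin 2 → A4), ∀ k a, σ (k, a) = (τ k, lin (b k) a + c k)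

theorem IsPP.mul {σ σ' : Equiv.Perm (Fin 2 × A4)} (h : IsPP σ) (h' : IsPP σ') : IsPP (σ * σ') := by
  obtain ⟨τ, b, c, h⟩ := h
  obtain ⟨τ', b', c', h'⟩ := h'
  refine ⟨τ * τ', fun k => xor (b (τ' k)) (b' k), fun k => lin (b (τ' k)) (c' k) + c (τ' k), fun k a => ?_⟩
  rw [Equiv.Perm.mul_apply, h', h, Equiv.Perm.mul_apply, lin_add, lin_lin, add_assoc]

theorem IsPP.inv {σ : Equiv.Perm (Fin 2 × A4)} (h : IsPP σ) : IsPP σ⁻¹ := by
  obtain ⟨τ, b, c, h⟩ := h
  refine ⟨τ⁻¹, fun k => b (τ⁻¹ k), fun k => lin (b (τ⁻¹ k)) (c (τ⁻¹ k)), fun k a => ?_⟩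
  rw [Equiv.Perm.inv_eq_iff_eq, h, lin_add, lin_lin, lin_lin, a_inv]
  show (k, a) = (k, lin (xor (b (τ⁻¹ k)) (b (τ⁻¹ k))) a + lin (xor (b (τ⁻¹ k)) (b (τ⁻¹ k))) (c (τ⁻¹ k)) + c (τ⁻¹ k))
  have h1 : ∀ x : Bool, xor x x = false := by decide
  rw [h1]
  have h2 : ∀ x y : A4, lin false x + lin false y + y = x := by
    intro x y
    simp only [lin, Bool.false_eq_true, if_false]
    rw [add_assoc, CharTwo.add_self_eq_zero, add_zero]
  rw [h2]

/-- the Sylow 2-subgroup `D₈ wr C₂` of `Sym(8)` -/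
def PP : Subgroup (Equiv.Perm (Fin 2 × A4)) where
  carrier := {σ | IsPP σ}
  one_mem' := ⟨1, fun _ => false, 0, fun k a => by simp [lin]⟩
  mul_mem' := fun h h' => h.mul h'
  inv_mem' := fun h => h.inv

/-- the permutation with parameters `τ, b, c` -/
def pp (τ : Equiv.Perm (Fin 2)) (b : Fin 2 → Bool) (c : Fin 2 → A4) : Equiv.Perm (Fin 2 × A4) where
  toFun x := (τ x.1, lin (b x.1) x.2 + c x.1)
  invFun x := (τ⁻¹ x.1, lin (b (τ⁻¹ x.1)) (x.2 + c (τ⁻¹ x.1)))
  left_inv x := by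
    obtain ⟨k, a⟩ := x
    simp only [inv_a]
    have h2 : ∀ x y : A4, x + y + y = x := by
      intro x y
      rw [add_assoc, CharTwo.add_self_eq_zero, add_zero]
    rw [h2, lin_lin]
    cases b k <;> simp [lin]
  right_inv x := by
    obtain ⟨k, a⟩ := x
    simp only [a_inv]
    have h2 : ∀ x y : A4, x + y + y = x := by
      intro x y
      rw [add_assoc, CharTwo.add_self_eq_zero, add_zero]
    rw [lin_lin]
    have h3 : ∀ (x : Bool) (y : A4), lin (xor x x) y = y := by
      intro x y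
      cases x <;> simp [lin]
    rw [h3, h2]

theorem pp_apply (τ : Equiv.Perm (Fin 2)) (b : Fin 2 → Bool) (c : Fin 2 → A4) (k : Fin 2) (a : A4) :
    pp τ b c (k, a) = (τ k, lin (b k) a + c k) := rfl

theorem pp_mem (τ : Equiv.Perm (Fin 2)) (b : Fin 2 → Bool) (c : Fin 2 → A4) : pp τ b c ∈ PP := ⟨τ, b, c, fun _ _ => rfl⟩

theorem mem_PP_iff {σ : Equiv.Perm (Fin 2 × A4)} : σ ∈ PP ↔ ∃ τ b c, σ = pp τ b c := by
  constructor
  · rintro ⟨τ, b, c, h⟩
    exact ⟨τ, b, c, Equiv.ext fun x => h x.1 x.2⟩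
  · rintro ⟨τ, b, c, rfl⟩
    exact pp_mem τ b c

/-- every element of `PP` has order dividing `8` -/
theorem pp_pow {σ : Equiv.Perm (Fin 2 × A4)} (h : σ ∈ PP) : σ ^ 8 = 1 := by
  obtain ⟨τ, b, c, rfl⟩ := mem_PP_iff.1 h
  have h1 : pp τ b c ^ 2 ∈ PP ∧ ∀ k a, ((pp τ b c ^ 2) (k, a)).1 = k := by
    refine ⟨PP.pow_mem h 2, fun k a => ?_⟩
    rw [pow_two, Equiv.Perm.mul_apply, pp_apply, pp_apply]
    show τ (τ k) = k
    clear h a b c
    revert k τ
    decide
  obtain ⟨h1, h2⟩ := h1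
  obtain ⟨τ', b', c', h3⟩ := mem_PP_iff.1 h1
  have h4 : ∀ k, τ' k = k := by
    intro k
    have := h2 k 0
    rw [h3] at this
    exact this
  have h5 : ∀ k a, (pp τ' b' c' ^ 2) (k, a) = (k, a + (c' k + lin (b' k) (c' k))) := by
    intro k a
    rw [pow_two, Equiv.Perm.mul_apply, pp_apply, pp_apply, h4, lin_add, lin_lin]
    have h6 : ∀ (x : Bool) (y : A4), lin (xor x x) y = y := by
      intro x y
      cases x <;> simp [lin]
    dsimp only
    rw [h4, h6, add_assoc, add_comm (lin _ _)]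
  have h7 : pp τ b c ^ 8 = (pp τ' b' c' ^ 2) * (pp τ' b' c' ^ 2) := by
    rw [← h3, ← pow_mul, ← pow_add]
  rw [h7]
  ext x : 1
  obtain ⟨k, a⟩ := x
  rw [Equiv.Perm.mul_apply, h5, h5, add_assoc, CharTwo.add_self_eq_zero, add_zero, Equiv.Perm.one_apply]

variable {F : Type} [Field F] {ι : Type} [Fintype ι] [DecidableEq ι] {Q : QuadraticForm F (ι → F)}
  {E : Fin 2 × A4 → ι → F}

/-- the monomial 2-group -/
def PM (h2 : (2 : F) ≠ 0) (hF : Frame (polarBilin Q) E) : Subgroup (Cfsg.Omega F (⇑Q)) where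
  carrier := {x | ∃ (s : Fin 2 × A4 → F) (σ : Equiv.Perm (Fin 2 × A4)), (∀ j, s j * s j = 1) ∧ σ ∈ PP ∧
    rep (inc (⇑Q)) x = mono (polarBilin Q) E s σ}
  one_mem' := ⟨fun _ => 1, 1, fun _ => one_mul 1, PP.one_mem, by
    rw [map_one]
    exact (mono_one hF h2 (fun _ => rfl) fun j => rfl).symm⟩
  mul_mem' := by
    rintro x y ⟨s, σ, hs, hσ, hx⟩ ⟨t, τ, ht, hτ, hy⟩
    refine ⟨fun j => t j * s (τ j), σ * τ, fun j => ?_, PP.mul_mem hσ hτ, ?_⟩
    · rw [mul_mul_mul_comm, ht, hs, one_mul]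
    · rw [map_mul, hx, hy, mono_mul hF h2]
      rfl
  inv_mem' := by
    rintro x ⟨s, σ, hs, hσ, hx⟩
    refine ⟨fun j => s (σ⁻¹ j), σ⁻¹, fun j => hs _, PP.inv_mem hσ, ?_⟩
    have h3 : mono (polarBilin Q) E (fun j => s (σ⁻¹ j)) (σ⁻¹ : Equiv.Perm _) * rep (inc (⇑Q)) x = 1 := by
      rw [hx, mono_mul hF h2]
      refine mono_one hF h2 (fun j => ?_) fun j => ?_
      · rw [inv_a, hs]
      · exact inv_a σ j
    have h4 : rep (inc (⇑Q)) x * rep (inc (⇑Q)) x⁻¹ = 1 := by rw [← map_mul, mul_inv_cancel, map_one]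
    calc rep (inc (⇑Q)) x⁻¹ = (mono (polarBilin Q) E (fun j => s (σ⁻¹ j)) (σ⁻¹ : Equiv.Perm _) *
          rep (inc (⇑Q)) x) * rep (inc (⇑Q)) x⁻¹ := by rw [h3, one_mul]
      _ = _ := by rw [mul_assoc, h4, mul_one]

theorem rep_pow_mono (h2 : (2 : F) ≠ 0) (hF : Frame (polarBilin Q) E) {x : Cfsg.Omega F (⇑Q)}
    {s : Fin 2 × A4 → F} {σ : Equiv.Perm (Fin 2 × A4)} (hs : ∀ j, s j * s j = 1)
    (hx : rep (inc (⇑Q)) x = mono (polarBilin Q) E s σ) (n : ℕ) :
    ∃ t : Fin 2 × A4 → F, (∀ j, t j * t j = 1) ∧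
      rep (inc (⇑Q)) (x ^ n) = mono (polarBilin Q) E t (σ ^ n : Equiv.Perm (Fin 2 × A4)) := by
  induction n with
  | zero =>
    refine ⟨fun _ => 1, fun _ => one_mul 1, ?_⟩
    rw [pow_zero, pow_zero, map_one]
    exact (mono_one hF h2 (fun _ => rfl) fun j => rfl).symm
  | succ n ih =>
    obtain ⟨t, ht, hn⟩ := ih
    refine ⟨fun j => s j * t (σ j), fun j => ?_, ?_⟩
    · rw [mul_mul_mul_comm, hs, ht, one_mul]
    · rw [pow_succ, map_mul, hn, hx, mono_mul hF h2, pow_succ]
      rfl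

theorem PM_isPGroup (h2 : (2 : F) ≠ 0) (hF : Frame (polarBilin Q) E) : IsPGroup 2 (PM h2 hF) := by
  rintro ⟨x, s, σ, hs, hσ, hx⟩
  refine ⟨4, Subtype.ext ?_⟩
  show x ^ 2 ^ 4 = 1
  obtain ⟨t, ht, h8⟩ := rep_pow_mono h2 hF hs hx 8
  rw [pp_pow hσ] at h8
  have h3 : x ^ 2 ^ 4 = x ^ 8 * x ^ 8 := by rw [← pow_add]; norm_num only []
  rw [h3]
  apply rep_inj
  rw [map_mul, h8, mono_mul hF h2, map_one]
  exact mono_one hF h2 (fun j => ht j) fun j => rfl

/-- the sign changes with two `-1` belong to `PM` -/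
theorem sg_mem_PM (h2 : (2 : F) ≠ 0) (hF : Frame (polarBilin Q) E) {j k : Fin 2 × A4} {x : Cfsg.Omega F (⇑Q)}
    (hx : rep (inc (⇑Q)) x = mono (polarBilin Q) E (H556.Om.sg F j k) id) : x ∈ PM h2 hF :=
  ⟨_, 1, fun i => by
    simp only [H556.Om.sg]
    split_ifs <;> norm_num, PP.one_mem, hx⟩

/-- the even permutations in `PP` belong to `PM` -/
theorem perm_mem_PM (h2 : (2 : F) ≠ 0) (hF : Frame (polarBilin Q) E) {σ : Equiv.Perm (Fin 2 × A4)} (hσ : σ ∈ PP)
    {x : Cfsg.Omega F (⇑Q)} (hx : rep (inc (⇑Q)) x = mono (polarBilin Q) E (fun _ => 1) σ) : x ∈ PM h2 hF :=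
  ⟨_, σ, fun _ => one_mul 1, hσ, hx⟩

theorem sign_pp (τ : Equiv.Perm (Fin 2)) (b : Bool) (c : Fin 2 → A4) :
    Equiv.Perm.sign (pp τ (fun _ => b) c) = 1 := by
  revert τ b c
  decide +kernel

end Cfsg.Agent.H561.D4
end

-- part: H561/D4/Boxes
section
/-!
# S4311, the row `PΩ₈⁺(q)`: the statements of the boxes C1, C2, D2, D3, D4, N, Z (helper561)
-/

set_option autoImplicit false
set_option linter.unusedSectionVars false

namespace Cfsg.Agent.H561.D4

open Module QuadraticMap Cfsg.Agent.H167.OP Cfsg.Agent.H170.HL Cfsg.Agent.H170.HL.OmRow Cfsg.Agent.H556.Om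
open Cfsg Subgroup Cfsg.Agent.H485.RV Cfsg.Agent.H561.RV

universe u

variable {F : Type} [Field F] {ι : Type} [Fintype ι] [DecidableEq ι] {Q : QuadraticForm F (ι → F)}
  {E : Fin 2 × A4 → ι → F}

/-- **BOX C1** -/
def BoxC1 (Q : QuadraticForm F (ι → F)) : Prop :=
  ∀ H : Subgroup (Cfsg.Omega F (⇑Q)), HD H → ¬ NTwo H →
    ∃ T : Subgroup (H.map (QuotientGroup.mk' (Subgroup.center (Cfsg.Omega F (⇑Q))))),
      T.Normal ∧ IsSimpleGroup T ∧ ¬ IsMulCommutative T ∧ ∀ g, (∀ t ∈ T, g * t = t * g) → g = 1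

/-- **BOX C2** (no orthogonal groups: the list in degree `8` and the numbers) -/
def BoxC2 (F : Type) [Field F] : Prop :=
  ∀ (X : Type) [Group X] [Finite X] (T : Subgroup X), T.Normal → IsSimpleGroup T → ¬ IsMulCommutative T →
    (∀ g : X, (∀ t ∈ T, g * t = t * g) → g = 1) → (Nat.card X : F) ≠ 0 →
    (∃ b, 3 ≤ b ∧ (Nat.card X).factorization 2 = 4 * b) →
    (∃ a, 1 ≤ a ∧ (Nat.card X).factorization 3 = 4 * a + 1) →
    (∃ (L : Type) (_ : Group L) (f : L →* T) (ρ : L →* Matrix.GeneralLinearGroup (Fin 8) F), Function.Surjective f ∧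
      (∀ x, f x = 1 → ∀ y, x * y = y * x) ∧ Nat.card f.ker = 2 ∧ Function.Injective ρ) →
    Nonempty (X ≃* Cfsg.POmega (ZMod 2) (Cfsg.quadFormPlus 4 (ZMod 2)))

/-- **BOX N**: the 2-part and the 3-part of `|PΩ₈⁺(q)|` -/
def BoxN (Q : QuadraticForm F (ι → F)) : Prop :=
  ∃ a b, 1 ≤ a ∧ 3 ≤ b ∧ (Nat.card (Cfsg.Omega F (⇑Q))).factorization 2 = 4 * b + 1 ∧
    (Nat.card (Cfsg.Omega F (⇑Q))).factorization 3 = 4 * a + 1 ∧
    3 ^ a ∣ (Nat.card F) ^ 2 - 1 ∧ ¬ 3 ^ (a + 1) ∣ (Nat.card F) ^ 2 - 1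

/-- `-1` on the first block -/
def s0 (F : Type) [Field F] (j : Fin 2 × A4) : F := if j.1 = 0 then -1 else 1

/-- `z` is the element `-1` on the first block, `1` on the second -/
def IsZ (Q : QuadraticForm F (ι → F)) (E : Fin 2 × A4 → ι → F) (z : Cfsg.Omega F (⇑Q)) : Prop :=
  rep (inc (⇑Q)) z = mono (polarBilin Q) E (s0 F) id

/-- **BOX Z**: the centre of `PM / Z` is generated by `z` -/
def BoxZ (Q : QuadraticForm F (ι → F)) : Prop :=
  ∀ (h : Q8 Q) (E : Fin 2 × A4 → ι → F) (hF : Frame (polarBilin Q) E), (∃ z, IsZ Q E z) ∧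
    ∀ z g : Cfsg.Omega F (⇑Q), IsZ Q E z →
      (∀ x ∈ PM h.two hF, g * x * g⁻¹ * x⁻¹ ∈ Subgroup.center (Cfsg.Omega F (⇑Q))) →
      g ∈ Subgroup.center (Cfsg.Omega F (⇑Q)) ∨ g * z⁻¹ ∈ Subgroup.center (Cfsg.Omega F (⇑Q))

/-- the hypotheses of BOX D2 -/
structure LL {S : Type u} [Group S] (P : Subgroup S) (L : Fin 4 → Subgroup S) : Prop where
  comm : ∀ i j, i ≠ j → ∀ x ∈ L i, ∀ y ∈ L j, x * y = y * x
  inj : Function.Injective L
  perm : ∀ g ∈ P, ∀ i, ∃ j, (L i).map (MulAut.conj g).toMonoidHom = L j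
  trans : ∀ i, ∃ g ∈ P, (L 0).map (MulAut.conj g).toMonoidHom = L i
  reg : ∀ g ∈ P, (L 0).map (MulAut.conj g).toMonoidHom = L 0 → ∀ i, (L i).map (MulAut.conj g).toMonoidHom = L i
  syl : ∀ i, ¬ 2 ∣ (P ⊓ L i).relIndex (L i)
  three : ∀ i, (P ⊓ L i).relIndex (normalizer ((P ⊓ L i : Subgroup S) : Set S) ⊓ L i) ∣ 3
  disj : ∀ i, ∀ x ∈ L i, x ∈ ⨆ j : {j // j ≠ i}, L j.1 → ∃ k, x ^ 2 ^ k = 1
  inter : ∀ x ∈ P, x ∈ ⨆ i, L i → x ∈ ⨆ i, P ⊓ L i

/-- **BOX D2** -/
def BoxD2 (S : Type u) [Group S] : Prop :=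
  ∀ (P : Sylow 2 S) (L : Fin 4 → Subgroup S), LL (P : Subgroup S) L →
    {M : Subgroup S | (P : Subgroup S) ≤ M ∧ (P : Subgroup S).relIndex M = 3 ∧
      M ≤ (P : Subgroup S) ⊔ ⨆ i, L i}.encard ≤ 4

/-- the image of `PM` in `PΩ` -/
noncomputable def PMS (h2 : (2 : F) ≠ 0) (hF : Frame (polarBilin Q) E) : Subgroup (Cfsg.POmega F (⇑Q)) :=
  (PM h2 hF).map (QuotientGroup.mk' (Subgroup.center (Cfsg.Omega F (⇑Q))))

/-- **BOX D3** -/
def BoxD3 (Q : QuadraticForm F (ι → F)) : Prop :=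
  ∀ (h : Q8 Q) (E : Fin 2 × A4 → ι → F) (hF : Frame (polarBilin Q) E) (z : Cfsg.Omega F (⇑Q)), IsZ Q E z →
    ¬ 2 ^ 14 ∣ Nat.card (Cfsg.Omega F (⇑Q)) →
    ∃ L : Fin 4 → Subgroup (Cfsg.POmega F (⇑Q)), LL (PMS h.two hF) L ∧
      ∀ y : Cfsg.POmega F (⇑Q), y ^ 3 = 1 → y * QuotientGroup.mk z = QuotientGroup.mk z * y → y ∈ ⨆ i, L i

/-- **BOX D4** -/
def BoxD4 (Q : QuadraticForm F (ι → F)) : Prop :=
  ∀ (h : Q8 Q) (E : Fin 2 × A4 → ι → F) (hF : Frame (polarBilin Q) E) (z : Cfsg.Omega F (⇑Q)), IsZ Q E z →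
    ¬ 2 ^ 14 ∣ Nat.card (Cfsg.Omega F (⇑Q)) → (MN (PMS h.two hF) (QuotientGroup.mk z : Cfsg.POmega F (⇑Q))).encard ≤ 1

end Cfsg.Agent.H561.D4
end

private theorem dce_d4dcfcaa40a1 : _root_.True := by
  try have : _root_.True := by simp only [_root_.Cfsg.Agent.H561.D4.lin.eq_1]
  exact _root_.True.intro
end

-- part: H561/D4/Low
section
set_option linter.all false
open scoped Cfsg.Agent.FastGrp

-- part: H778/D4/Abs
section
/-!
# S4311, BOX D4: the abstract part (helper778)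

`P` a maximal 2-subgroup of `S` with `C_S(P) = ⟨z⟩` of order two.  If an overgroup `M` of `P` of index three does not
centralise `z` then `z` has three conjugates `z, v, z v` in `M`; if the elements of odd order centralising `z, v` and
normalising `C_P(v)` are trivial then `M` is determined by `v`.
-/

set_option autoImplicit false
set_option linter.unusedSectionVars false

namespace Cfsg.Agent.H778.D4

universe u

variable {S : Type u} [Group S] [Finite S]

/-- the hypotheses -/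
structure Hyp (P : Subgroup S) (z v : S) : Prop where
  two : IsPGroup 2 P
  max : ∀ Q : Subgroup S, IsPGroup 2 Q → P ≤ Q → Q ≤ P
  mem : z ∈ P
  ne : z ≠ 1
  sq : z * z = 1
  comm : ∀ x ∈ P, x * z = z * x
  cen : ∀ w, (∀ x ∈ P, x * w = w * x) → w = 1 ∨ w = z
  card : 2 < Nat.card P
  ml : ∀ w ∈ P, w ≠ 1 → w ≠ z → (∀ x ∈ P, x * w * x⁻¹ = w ∨ x * w * x⁻¹ = z * w) → w = v ∨ w = z * v
  ol : ∀ (y : S) (n : ℕ), Odd n → y ^ n = 1 → y * z = z * y → y * v = v * y →
    (∀ r ∈ P, r * v = v * r → y * r * y⁻¹ ∈ P) → y = 1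

/-- the overgroups of index three not centralising `z` -/
structure Ov (P : Subgroup S) (z : S) (M : Subgroup S) : Prop where
  le : P ≤ M
  idx : P.relIndex M = 3
  nc : ¬ ∀ m ∈ M, m * z = z * m

variable {P : Subgroup S} {z v : S} {M : Subgroup S}

/-- `C_M(z) = P` -/
theorem Ov.mem_of_comm (h : Hyp P z v) (hM : Ov P z M) {m : S} (hm : m ∈ M) (hmz : m * z = z * m) : m ∈ P := by
  set C : Subgroup S := M ⊓ Subgroup.centralizer {z} with hC
  have hPC : P ≤ C := by
    intro x hx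
    refine ⟨hM.le hx, Subgroup.mem_centralizer_iff.2 ?_⟩
    rintro y rfl
    exact (h.comm x hx).symm
  have hCM : C ≤ M := inf_le_left
  have h1 := Subgroup.relIndex_mul_relIndex P C M hPC hCM
  rw [hM.idx] at h1
  have h2 : C.relIndex M ≠ 1 := by
    intro h2
    rw [Subgroup.relIndex_eq_one] at h2
    refine hM.nc fun m hm => ?_
    exact (Subgroup.mem_centralizer_iff.1 (h2 hm).2 z rfl).symm
  have h3 : C.relIndex M = 3 := by
    have h4 : C.relIndex M ∣ 3 := ⟨_, by rw [mul_comm]; exact h1.symm⟩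
    exact ((Nat.dvd_prime Nat.prime_three).1 h4).resolve_left h2
  rw [h3] at h1
  have h4 : P.relIndex C = 1 := by omega
  rw [Subgroup.relIndex_eq_one] at h4
  refine h4 ⟨hm, Subgroup.mem_centralizer_iff.2 ?_⟩
  rintro y rfl
  exact hmz.symm

/-- the three conjugates of `z` -/
theorem Ov.exists_conj (h : Hyp P z v) (hM : Ov P z M) : ∃ w w' : S, w ≠ z ∧ w' ≠ z ∧ w ≠ w' ∧
    (∃ m ∈ M, m * z * m⁻¹ = w) ∧ (∃ m ∈ M, m * z * m⁻¹ = w') ∧
    ∀ m ∈ M, m * z * m⁻¹ = z ∨ m * z * m⁻¹ = w ∨ m * z * m⁻¹ = w' := by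
  set f : M → S := fun m => (m : S) * z * (m : S)⁻¹ with hf
  have hiff : ∀ a b : M, f a = f b ↔ a⁻¹ * b ∈ P.subgroupOf M := by
    intro a b
    rw [Subgroup.mem_subgroupOf]
    constructor
    · intro hab
      refine hM.mem_of_comm h (a⁻¹ * b).2 ?_
      have h1 : (a : S) * z * (a : S)⁻¹ = (b : S) * z * (b : S)⁻¹ := hab
      push_cast
      calc (a : S)⁻¹ * b * z = (a : S)⁻¹ * ((b : S) * z * (b : S)⁻¹) * b := by group
        _ = (a : S)⁻¹ * ((a : S) * z * (a : S)⁻¹) * b := by rw [h1]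
        _ = z * ((a : S)⁻¹ * b) := by group
    · intro hab
      have h1 := h.comm _ hab
      push_cast at h1
      show (a : S) * z * (a : S)⁻¹ = (b : S) * z * (b : S)⁻¹
      have h2 : (b : S) * z * (b : S)⁻¹ = (a : S) * ((a : S)⁻¹ * b * z) * (b : S)⁻¹ := by group
      rw [h2, h1]
      group
  set g : M ⧸ P.subgroupOf M → S := fun q => Quotient.liftOn' q f fun a b hab => (hiff a b).2
    (QuotientGroup.leftRel_apply.1 hab) with hg
  have hgm : ∀ a : M, g (QuotientGroup.mk a) = f a := fun a => rfl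
  have hinj : Function.Injective g := by
    intro p q
    induction p using QuotientGroup.induction_on with | _ a => ?_
    induction q using QuotientGroup.induction_on with | _ b => ?_
    intro hab
    rw [hgm, hgm, hiff] at hab
    exact QuotientGroup.eq.2 hab
  have h3 : (Set.range g).ncard = 3 := by
    rw [← Set.image_univ, Set.ncard_image_of_injective _ hinj, Set.ncard_univ]
    exact hM.idx
  have hz : z ∈ Set.range g := ⟨QuotientGroup.mk 1, by rw [hgm]; simp only [hf, _root_.OneMemClass.coe_one, _root_.one_mul, _root_.inv_one, _root_.mul_one]⟩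
  have hmem : ∀ x, x ∈ Set.range g ↔ ∃ m ∈ M, m * z * m⁻¹ = x := by
    intro x
    constructor
    · rintro ⟨q, rfl⟩
      induction q using QuotientGroup.induction_on with | _ a => ?_
      exact ⟨a, a.2, rfl⟩
    · rintro ⟨m, hm, rfl⟩
      exact ⟨QuotientGroup.mk ⟨m, hm⟩, rfl⟩
  have h4 : (Set.range g \ {z}).ncard = 2 := by
    have := Set.ncard_sdiff_singleton_add_one hz (Set.toFinite _)
    omega
  obtain ⟨w, w', hne, hww⟩ := Set.ncard_eq_two.1 h4
  have hw : w ∈ Set.range g \ {z} := by rw [hww]; exact Or.inl rfl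
  have hw' : w' ∈ Set.range g \ {z} := by rw [hww]; exact Or.inr rfl
  refine ⟨w, w', hw.2, hw'.2, hne, (hmem w).1 hw.1, (hmem w').1 hw'.1, fun m hm => ?_⟩
  by_cases h5 : m * z * m⁻¹ = z
  · exact Or.inl h5
  · have h6 : m * z * m⁻¹ ∈ Set.range g \ {z} := ⟨(hmem _).2 ⟨m, hm, rfl⟩, h5⟩
    rw [hww] at h6
    exact Or.inr h6

/-- a normal subgroup of index at most two of `P` contains `z` -/
theorem Hyp.mem_of_normal (h : Hyp P z v) {K : Subgroup S} (hK : K ≤ P) (hn : ∀ x ∈ P, ∀ k ∈ K, x * k * x⁻¹ ∈ K)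
    (h2 : ∃ a ∈ P, ∀ x ∈ P, x ∈ K ∨ a * x ∈ K) : z ∈ K := by
  classical
  -- `K ≠ 1`
  have hK1 : Nat.card K ≠ 1 := by
    intro h1
    have hbot : K = ⊥ := Subgroup.card_eq_one.1 h1
    obtain ⟨a, ha, hx⟩ := h2
    have hle : Nat.card P ≤ 2 := by
      have hsub : ((P : Set S)) ⊆ {1, a⁻¹} := by
        intro x hxP
        rcases hx x hxP with h3 | h3
        · rw [hbot, Subgroup.mem_bot] at h3
          exact Or.inl h3
        · rw [hbot, Subgroup.mem_bot] at h3
          exact Or.inr (eq_inv_of_mul_eq_one_right h3)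
      calc Nat.card P = (P : Set S).ncard := rfl
        _ ≤ ({1, a⁻¹} : Set S).ncard := Set.ncard_le_ncard hsub (Set.toFinite _)
        _ ≤ ({a⁻¹} : Set S).ncard + 1 := Set.ncard_insert_le _ _
        _ = 2 := by rw [Set.ncard_singleton]
    have := h.card
    omega
  have hKp : IsPGroup 2 K := h.two.to_le hK
  have hdvd : 2 ∣ Nat.card K := by
    have : Fact (Nat.Prime 2) := ⟨Nat.prime_two⟩
    obtain ⟨n, hn⟩ := hKp.exists_card_eq
    rcases Nat.eq_zero_or_pos n with h0 | h0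
    · rw [h0, pow_zero] at hn
      exact absurd hn hK1
    · rw [hn]
      exact dvd_pow_self 2 h0.ne'
  -- `P` acts on `K` by conjugation
  let act : MulAction P K :=
    { smul := fun x k => ⟨(x : S) * k * (x : S)⁻¹, hn x x.2 k k.2⟩
      one_smul := fun k => Subtype.ext (by show (1 : S) * k * (1 : S)⁻¹ = k; simp)
      mul_smul := fun x y k => Subtype.ext (by
        show ((x : S) * y) * k * ((x : S) * y)⁻¹ = x * (y * k * (y : S)⁻¹) * (x : S)⁻¹
        group) }
  have : Fact (Nat.Prime 2) := ⟨Nat.prime_two⟩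
  have hfix : (1 : K) ∈ MulAction.fixedPoints P K := by
    intro x
    apply Subtype.ext
    show (x : S) * (1 : S) * (x : S)⁻¹ = 1
    simp
  obtain ⟨b, hb, hb1⟩ := h.two.exists_fixed_point_of_prime_dvd_card_of_fixed_point K hdvd hfix
  have hbc : ∀ x ∈ P, x * (b : S) = b * x := by
    intro x hx
    have h5 : (x : S) * b * (x : S)⁻¹ = b := congrArg Subtype.val (hb ⟨x, hx⟩)
    calc x * (b : S) = (x * b * x⁻¹) * x := by group
      _ = b * x := by rw [h5]
  rcases h.cen _ hbc with h6 | h6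
  · exact absurd (Subtype.ext h6.symm) hb1
  · rw [← h6]
    exact b.2

theorem conj_inj {a b m : S} (h : m * a * m⁻¹ = m * b * m⁻¹) : a = b :=
  mul_left_cancel (mul_right_cancel h)

/-- **the conjugates of `z` are `z, v, z v`** -/
theorem Ov.conj_eq (h : Hyp P z v) (hM : Ov P z M) :
    (v ≠ z ∧ v ≠ 1 ∧ v ∈ P ∧ v * v = 1) ∧ (∃ m ∈ M, m * z * m⁻¹ = v) ∧ (∃ m ∈ M, m * z * m⁻¹ = z * v) ∧
    (∀ m ∈ M, m * z * m⁻¹ = z ∨ m * z * m⁻¹ = v ∨ m * z * m⁻¹ = z * v) := by
  obtain ⟨w, w', hwz, hwz', hww, ⟨m₁, hm₁, hmw⟩, ⟨m₂, hm₂, hmw'⟩, hall⟩ := hM.exists_conj h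
  have hzM : z ∈ M := hM.le h.mem
  -- the set of the conjugates
  set T : Set S := {z, w, w'} with hT
  have hTmem : ∀ x, x ∈ T ↔ ∃ m ∈ M, m * z * m⁻¹ = x := by
    intro x
    constructor
    · rintro (rfl | rfl | rfl)
      · exact ⟨1, M.one_mem, by simp⟩
      · exact ⟨m₁, hm₁, hmw⟩
      · exact ⟨m₂, hm₂, hmw'⟩
    · rintro ⟨m, hm, rfl⟩
      exact hall m hm
  have hTconj : ∀ m ∈ M, ∀ x ∈ T, m * x * m⁻¹ ∈ T := by
    intro m hm x hx
    obtain ⟨k, hk, rfl⟩ := (hTmem x).1 hx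
    refine (hTmem _).2 ⟨m * k, M.mul_mem hm hk, by group⟩
  -- the kernel
  set K : Subgroup S := M ⊓ Subgroup.centralizer T with hK
  have hKmem : ∀ x, x ∈ K ↔ x ∈ M ∧ ∀ t ∈ T, t * x = x * t := by
    intro x
    rw [hK, Subgroup.mem_inf, Subgroup.mem_centralizer_iff]
  have hKP : K ≤ P := fun x hx => hM.mem_of_comm h hx.1 (((hKmem x).1 hx).2 z (Or.inl rfl)).symm
  have hKn : ∀ m ∈ M, ∀ k ∈ K, m * k * m⁻¹ ∈ K := by
    intro m hm k hk
    obtain ⟨hkM, hkT⟩ := (hKmem k).1 hk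
    refine (hKmem _).2 ⟨M.mul_mem (M.mul_mem hm hkM) (M.inv_mem hm), fun t ht => ?_⟩
    have h1 := hkT _ (hTconj m⁻¹ (M.inv_mem hm) t ht)
    rw [inv_inv] at h1
    calc t * (m * k * m⁻¹) = m * ((m⁻¹ * t * m) * k) * m⁻¹ := by group
      _ = m * (k * (m⁻¹ * t * m)) * m⁻¹ := by rw [h1]
      _ = m * k * m⁻¹ * t := by group
  -- elements of `P` fix or swap `w, w'`
  have hPz : ∀ x ∈ P, x * z * x⁻¹ = z := fun x hx => by rw [h.comm x hx]; group
  have hPw : ∀ x ∈ P, (x * w * x⁻¹ = w ∧ x * w' * x⁻¹ = w') ∨ (x * w * x⁻¹ = w' ∧ x * w' * x⁻¹ = w) := by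
    intro x hx
    have h1 := hTconj x (hM.le hx) w (Or.inr (Or.inl rfl))
    have h2 := hTconj x (hM.le hx) w' (Or.inr (Or.inr rfl))
    have h3 : x * w * x⁻¹ ≠ z := fun h3 => hwz (conj_inj (h3.trans (hPz x hx).symm))
    have h4 : x * w' * x⁻¹ ≠ z := fun h4 => hwz' (conj_inj (h4.trans (hPz x hx).symm))
    have h5 : x * w * x⁻¹ ≠ x * w' * x⁻¹ := fun h5 => hww (conj_inj h5)
    rcases h1 with h1 | h1 | h1
    · exact absurd h1 h3
    · rcases h2 with h2 | h2 | h2
      · exact absurd h2 h4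
      · exact absurd (h1.trans h2.symm) h5
      · exact Or.inl ⟨h1, h2⟩
    · rcases h2 with h2 | h2 | h2
      · exact absurd h2 h4
      · exact Or.inr ⟨h1, h2⟩
      · exact absurd (h1.trans h2.symm) h5
  have hmemK : ∀ x ∈ P, x * w * x⁻¹ = w → x ∈ K := by
    intro x hx hxw
    have h1 : x * w' * x⁻¹ = w' := by
      rcases hPw x hx with h2 | h2
      · exact h2.2
      · exact absurd (hxw.symm.trans h2.1) hww
    refine (hKmem x).2 ⟨hM.le hx, ?_⟩
    have h0 : ∀ t, x * t * x⁻¹ = t → t * x = x * t := by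
      intro t ht
      calc t * x = (x * t * x⁻¹) * x := by rw [ht]
        _ = x * t := by group
    rintro t (rfl | rfl | rfl)
    · exact h0 _ (hPz x hx)
    · exact h0 _ hxw
    · exact h0 _ h1
  -- `z ∈ K`
  have hzK : z ∈ K := by
    refine h.mem_of_normal hKP (fun x hx => hKn x (hM.le hx)) ?_
    by_cases h1 : ∃ a ∈ P, a * w * a⁻¹ = w'
    · obtain ⟨a, ha, haw⟩ := h1
      refine ⟨a, ha, fun x hx => ?_⟩
      rcases hPw x hx with h2 | h2
      · exact Or.inl (hmemK x hx h2.1)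
      · refine Or.inr (hmemK _ (P.mul_mem ha hx) ?_)
        have h3 : a * w' * a⁻¹ = w := by
          rcases hPw a ha with h4 | h4
          · exact absurd (h4.1.symm.trans haw) hww
          · exact h4.2
        calc a * x * w * (a * x)⁻¹ = a * (x * w * x⁻¹) * a⁻¹ := by group
          _ = w := by rw [h2.1, h3]
    · push Not at h1
      refine ⟨1, P.one_mem, fun x hx => Or.inl (hmemK x hx ?_)⟩
      rcases hPw x hx with h2 | h2
      · exact h2.1
      · exact absurd h2.1 (h1 x hx)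
  -- the conjugates commute
  have hzT : ∀ t ∈ T, t * z = z * t := ((hKmem z).1 hzK).2
  have hTT : ∀ s ∈ T, ∀ t ∈ T, t * s = s * t := by
    intro s hs t ht
    obtain ⟨m, hm, rfl⟩ := (hTmem s).1 hs
    have h1 := hzT _ (hTconj m⁻¹ (M.inv_mem hm) t ht)
    rw [inv_inv] at h1
    calc t * (m * z * m⁻¹) = m * ((m⁻¹ * t * m) * z) * m⁻¹ := by group
      _ = m * (z * (m⁻¹ * t * m)) * m⁻¹ := by rw [h1]
      _ = m * z * m⁻¹ * t := by group
  have hTM : ∀ t ∈ T, t ∈ M := by
    intro t ht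
    obtain ⟨m, hm, rfl⟩ := (hTmem t).1 ht
    exact M.mul_mem (M.mul_mem hm hzM) (M.inv_mem hm)
  have hTP : ∀ t ∈ T, t ∈ P := fun t ht => hM.mem_of_comm h (hTM t ht) (hzT t ht)
  have hTsq : ∀ t ∈ T, t * t = 1 := by
    intro t ht
    obtain ⟨m, hm, rfl⟩ := (hTmem t).1 ht
    calc m * z * m⁻¹ * (m * z * m⁻¹) = m * (z * z) * m⁻¹ := by group
      _ = 1 := by rw [h.sq]; group
  have hTne : ∀ t ∈ T, t ≠ 1 := by
    intro t ht h1
    obtain ⟨m, hm, rfl⟩ := (hTmem t).1 ht
    apply h.ne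
    calc z = m⁻¹ * (m * z * m⁻¹) * m := by group
      _ = 1 := by rw [h1]; group
  have hwT : w ∈ T := Or.inr (Or.inl rfl)
  have hwT' : w' ∈ T := Or.inr (Or.inr rfl)
  have hzT' : z ∈ T := Or.inl rfl
  -- the product of the three conjugates
  have hprod : w' = z * w := by
    have h1 : ∀ x ∈ P, x * (z * w * w') = (z * w * w') * x := by
      intro x hx
      have h2 : x * (z * w * w') * x⁻¹ = z * w * w' := by
        calc x * (z * w * w') * x⁻¹ = (x * z * x⁻¹) * (x * w * x⁻¹) * (x * w' * x⁻¹) := by group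
          _ = z * w * w' := by
            rw [hPz x hx]
            rcases hPw x hx with h3 | h3
            · rw [h3.1, h3.2]
            · rw [h3.1, h3.2, mul_assoc, mul_assoc, hTT w hwT w' hwT']
      calc x * (z * w * w') = (x * (z * w * w') * x⁻¹) * x := by group
        _ = _ := by rw [h2]
    have hinv : w⁻¹ = w := inv_eq_of_mul_eq_one_right (hTsq w hwT)
    rcases h.cen _ h1 with h2 | h2
    · have h3 : w' = (z * w)⁻¹ := (inv_eq_of_mul_eq_one_right h2).symm
      rw [h3, mul_inv_rev, hinv, inv_eq_of_mul_eq_one_right h.sq]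
      exact (hTT z hzT' w hwT)
    · exfalso
      apply hww
      have h3 : w * w' = 1 := by
        have h4 : z * (w * w') = z * 1 := by rw [mul_one, ← mul_assoc, h2]
        exact mul_left_cancel h4
      calc w = w⁻¹ := hinv.symm
        _ = w' := inv_eq_of_mul_eq_one_right h3
  -- the element `w` is `v` or `z v`
  have hw1 : w = v ∨ w = z * v := by
    refine h.ml w (hTP w hwT) (hTne w hwT) hwz fun x hx => ?_
    rcases hPw x hx with h2 | h2
    · exact Or.inl h2.1
    · exact Or.inr (h2.1.trans hprod)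
  have hzz : ∀ x : S, z * (z * x) = x := fun x => by rw [← mul_assoc, h.sq, one_mul]
  have hcase : (w = v ∧ w' = z * v) ∨ (w = z * v ∧ w' = v) := by
    rcases hw1 with h2 | h2
    · exact Or.inl ⟨h2, by rw [hprod, h2]⟩
    · exact Or.inr ⟨h2, by rw [hprod, h2, hzz]⟩
  rcases hcase with ⟨rfl, rfl⟩ | ⟨rfl, rfl⟩
  · exact ⟨⟨hwz, hTne _ hwT, hTP _ hwT, hTsq _ hwT⟩, ⟨m₁, hm₁, hmw⟩, ⟨m₂, hm₂, hmw'⟩, hall⟩
  · exact ⟨⟨hwz', hTne _ hwT', hTP _ hwT', hTsq _ hwT'⟩, ⟨m₂, hm₂, hmw'⟩, ⟨m₁, hm₁, hmw⟩,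
      fun m hm => (hall m hm).imp_right Or.symm⟩

/-- **at most one overgroup of index three does not centralise `z`** -/
theorem Ov.le_of (h : Hyp P z v) {M M' : Subgroup S} (hM : Ov P z M) (hM' : Ov P z M') : M' ≤ M := by
  classical
  obtain ⟨⟨hvz, hv1, hvP, hvv⟩, hcv, hczv, hall⟩ := hM.conj_eq h
  obtain ⟨-, -, -, hall'⟩ := hM'.conj_eq h
  have hzv : v * z = z * v := h.comm v hvP
  have hzz : ∀ x : S, z * (z * x) = x := fun x => by rw [← mul_assoc, h.sq, one_mul]
  -- `P` swaps `v` and `z v`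
  have hPv : ∀ x ∈ P, x * v * x⁻¹ = v ∨ x * v * x⁻¹ = z * v := by
    intro x hx
    obtain ⟨m, hm, hmv⟩ := hcv
    have h1 := hall (x * m) (M.mul_mem (hM.le hx) hm)
    have h2 : x * m * z * (x * m)⁻¹ = x * v * x⁻¹ := by rw [← hmv]; group
    rw [h2] at h1
    rcases h1 with h1 | h1 | h1
    · exfalso
      apply hvz
      apply conj_inj (m := x)
      rw [h1, h.comm x hx]
      group
    · exact Or.inl h1
    · exact Or.inr h1
  -- the subgroup `R`
  set R : Subgroup S := P ⊓ Subgroup.centralizer {v} with hR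
  have hRmem : ∀ x, x ∈ R ↔ x ∈ P ∧ x * v = v * x := by
    intro x
    rw [hR, Subgroup.mem_inf, Subgroup.mem_centralizer_iff]
    constructor
    · rintro ⟨h1, h2⟩
      exact ⟨h1, (h2 v rfl).symm⟩
    · rintro ⟨h1, h2⟩
      refine ⟨h1, ?_⟩
      rintro y rfl
      exact h2.symm
  -- conjugates of `z, v, z v` by elements of an overgroup
  have hset : ∀ {N : Subgroup S}, Ov P z N → ∀ g ∈ N, ∀ t, (t = z ∨ t = v ∨ t = z * v) →
      (g * t * g⁻¹ = z ∨ g * t * g⁻¹ = v ∨ g * t * g⁻¹ = z * v) := by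
    intro N hN g hg t ht
    obtain ⟨-, hcv, hczv, hall⟩ := hN.conj_eq h
    rcases ht with rfl | rfl | rfl
    · exact hall g hg
    · obtain ⟨m, hm, hmv⟩ := hcv
      have h1 := hall (g * m) (N.mul_mem hg hm)
      have h2 : g * m * z * (g * m)⁻¹ = g * t * g⁻¹ := by rw [← hmv]; group
      rwa [h2] at h1
    · obtain ⟨m, hm, hmv⟩ := hczv
      have h1 := hall (g * m) (N.mul_mem hg hm)
      have h2 : g * m * z * (g * m)⁻¹ = g * (z * v) * g⁻¹ := by rw [← hmv]; group
      rwa [h2] at h1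
  -- elements commuting with `z` and `v` commute with the three
  have hRc : ∀ x ∈ R, ∀ t, (t = z ∨ t = v ∨ t = z * v) → x * t = t * x := by
    intro x hx t ht
    obtain ⟨h1, h2⟩ := (hRmem x).1 hx
    rcases ht with rfl | rfl | rfl
    · exact h.comm x h1
    · exact h2
    · rw [← mul_assoc, h.comm x h1, mul_assoc, h2, mul_assoc]
  -- `R` is normalised by overgroups
  have hRn : ∀ {N : Subgroup S}, Ov P z N → ∀ g ∈ N, ∀ x ∈ R, g * x * g⁻¹ ∈ R := by
    intro N hN g hg x hx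
    obtain ⟨h1, h2⟩ := (hRmem x).1 hx
    have hc : ∀ t, (t = z ∨ t = v ∨ t = z * v) → (g * x * g⁻¹) * t = t * (g * x * g⁻¹) := by
      intro t ht
      have h3 := hRc x hx _ (hset hN g⁻¹ (N.inv_mem hg) t ht)
      rw [inv_inv] at h3
      calc (g * x * g⁻¹) * t = g * (x * (g⁻¹ * t * g)) * g⁻¹ := by group
        _ = g * ((g⁻¹ * t * g) * x) * g⁻¹ := by rw [h3]
        _ = t * (g * x * g⁻¹) := by group
    refine (hRmem _).2 ⟨hN.mem_of_comm h (N.mul_mem (N.mul_mem hg (hN.le h1)) (N.inv_mem hg)) (hc z (Or.inl rfl)), 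
      hc v (Or.inr (Or.inl rfl))⟩
  -- the centraliser of `z, v` in the normaliser of `R` is a 2-group contained in `P`
  set C : Subgroup S := (Subgroup.centralizer {z} ⊓ Subgroup.centralizer {v}) ⊓ Subgroup.normalizer (R : Set S) with hC
  have hcz : ∀ a b : S, b ∈ Subgroup.centralizer {a} ↔ b * a = a * b := by
    intro a b
    rw [Subgroup.mem_centralizer_iff]
    constructor
    · intro h1
      exact (h1 a rfl).symm
    · intro h1
      rintro y rfl
      exact h1.symm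
  have hCmem : ∀ x, x ∈ C ↔ (x * z = z * x ∧ x * v = v * x) ∧ x ∈ Subgroup.normalizer (R : Set S) := by
    intro x
    rw [hC, Subgroup.mem_inf, Subgroup.mem_inf, hcz, hcz]
  have hCpow : ∀ y ∈ C, ∀ n : ℕ, Odd n → y ^ n = 1 → y = 1 := by
    intro y hy n hn hyn
    obtain ⟨⟨h1, h2⟩, h3⟩ := (hCmem y).1 hy
    refine h.ol y n hn hyn h1 h2 fun r hr hrv => ?_
    have h4 : r ∈ R := (hRmem r).2 ⟨hr, hrv⟩
    exact (((Subgroup.mem_normalizer_iff.1 h3 r).1 h4)).1
  have hCtwo : IsPGroup 2 C := by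
    rintro ⟨y, hy⟩
    obtain ⟨a, m, hm, ho⟩ := Nat.exists_eq_two_pow_mul_odd (n := orderOf y) (orderOf_pos y).ne'
    refine ⟨a, Subtype.ext ?_⟩
    show y ^ 2 ^ a = 1
    refine hCpow _ (C.pow_mem hy _) m hm ?_
    rw [← pow_mul, ← ho, pow_orderOf_eq_one]
  have hPC : ∀ x ∈ P, ∀ c ∈ C, x * c * x⁻¹ ∈ C := by
    intro x hx c hc
    obtain ⟨⟨h1, h2⟩, h3⟩ := (hCmem c).1 hc
    have hct : ∀ t, (t = z ∨ t = v ∨ t = z * v) → c * t = t * c := by
      intro t ht
      rcases ht with rfl | rfl | rfl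
      · exact h1
      · exact h2
      · rw [← mul_assoc, h1, mul_assoc, h2, mul_assoc]
    have hc' : ∀ t, (t = z ∨ t = v ∨ t = z * v) → (x * c * x⁻¹) * t = t * (x * c * x⁻¹) := by
      intro t ht
      have h3 := hct _ (hset hM x⁻¹ (M.inv_mem (hM.le hx)) t ht)
      rw [inv_inv] at h3
      calc (x * c * x⁻¹) * t = x * (c * (x⁻¹ * t * x)) * x⁻¹ := by group
        _ = x * ((x⁻¹ * t * x) * c) * x⁻¹ := by rw [h3]
        _ = t * (x * c * x⁻¹) := by group
    refine (hCmem _).2 ⟨⟨hc' z (Or.inl rfl), hc' v (Or.inr (Or.inl rfl))⟩, ?_⟩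
    have hxn : x ∈ Subgroup.normalizer (R : Set S) := by
      rw [Subgroup.mem_normalizer_iff]
      intro r
      constructor
      · intro hr
        exact hRn hM x (hM.le hx) r hr
      · intro hr
        have h5 := hRn hM x⁻¹ (M.inv_mem (hM.le hx)) _ hr
        have h6 : x⁻¹ * (x * r * x⁻¹) * x⁻¹⁻¹ = r := by group
        rwa [h6] at h5
    exact Subgroup.mul_mem _ (Subgroup.mul_mem _ hxn h3) (Subgroup.inv_mem _ hxn)
  have hCP : C ≤ P := by
    have h1 : P ≤ Subgroup.normalizer (C : Set S) := by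
      intro x hx
      rw [Subgroup.mem_normalizer_iff]
      intro r
      constructor
      · intro hr
        exact hPC x hx r hr
      · intro hr
        have h5 := hPC x⁻¹ (P.inv_mem hx) _ hr
        have h6 : x⁻¹ * (x * r * x⁻¹) * x⁻¹⁻¹ = r := by group
        rwa [h6] at h5
    have h2 : IsPGroup 2 (P ⊔ C : Subgroup S) := h.two.to_sup_of_normal_right' hCtwo h1
    exact le_trans le_sup_right (h.max _ h2 le_sup_left)
  -- the elements normalising `R` and fixing `z` and `v` lie in `P`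
  have hfin : ∀ g : S, g ∈ Subgroup.normalizer (R : Set S) → g * z = z * g → g * v = v * g → g ∈ P := fun g h1 h2 h3 =>
    hCP ((hCmem g).2 ⟨⟨h2, h3⟩, h1⟩)
  have hNn : ∀ {N : Subgroup S}, Ov P z N → N ≤ Subgroup.normalizer (R : Set S) := by
    intro N hN x hx
    rw [Subgroup.mem_normalizer_iff]
    intro r
    constructor
    · intro hr
      exact hRn hN x hx r hr
    · intro hr
      have h5 := hRn hN x⁻¹ (N.inv_mem hx) _ hr
      have h6 : x⁻¹ * (x * r * x⁻¹) * x⁻¹⁻¹ = r := by group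
      rwa [h6] at h5
  -- an element of `P` swapping
  obtain ⟨x₀, hx₀, hxv⟩ : ∃ x ∈ P, x * v * x⁻¹ = z * v := by
    by_contra hcon
    push Not at hcon
    have h1 : ∀ x ∈ P, x * v = v * x := by
      intro x hx
      have h2 : x * v * x⁻¹ = v := (hPv x hx).resolve_right (hcon x hx)
      calc x * v = (x * v * x⁻¹) * x := by group
        _ = v * x := by rw [h2]
    rcases h.cen v h1 with h2 | h2
    · exact hv1 h2
    · exact hvz h2
  intro g hg
  -- multiply with an element of `M`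
  obtain ⟨m, hm, hmz⟩ : ∃ m ∈ M, g * z * g⁻¹ = m * z * m⁻¹ := by
    rcases hall' g hg with h1 | h1 | h1
    · exact ⟨1, M.one_mem, by rw [h1]; group⟩
    · obtain ⟨m, hm, hmv⟩ := hcv
      exact ⟨m, hm, by rw [h1, hmv]⟩
    · obtain ⟨m, hm, hmv⟩ := hczv
      exact ⟨m, hm, by rw [h1, hmv]⟩
  set g' : S := m⁻¹ * g with hg'
  have hgz : g' * z = z * g' := by
    calc g' * z = m⁻¹ * (g * z * g⁻¹) * g := by rw [hg']; group
      _ = m⁻¹ * (m * z * m⁻¹) * g := by rw [hmz]
      _ = z * g' := by rw [hg']; group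
  have hgn : g' ∈ Subgroup.normalizer (R : Set S) :=
    Subgroup.mul_mem _ (Subgroup.inv_mem _ (hNn hM hm)) (hNn hM' hg)
  have hgv : g' * v * g'⁻¹ = z ∨ g' * v * g'⁻¹ = v ∨ g' * v * g'⁻¹ = z * v := by
    have h1 := hset hM' g hg v (Or.inr (Or.inl rfl))
    have h2 := hset hM m⁻¹ (M.inv_mem hm) _ h1
    have h3 : m⁻¹ * (g * v * g⁻¹) * m⁻¹⁻¹ = g' * v * g'⁻¹ := by rw [hg']; group
    rwa [h3] at h2
  have hgm : g = m * g' := by rw [hg']; group
  rcases hgv with h1 | h1 | h1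
  · exfalso
    apply hvz
    apply conj_inj (m := g')
    rw [h1, hgz]
    group
  · have h2 : g' * v = v * g' := by
      calc g' * v = (g' * v * g'⁻¹) * g' := by group
        _ = v * g' := by rw [h1]
    rw [hgm]
    exact M.mul_mem hm (hM.le (hfin g' hgn hgz h2))
  · have hx1 := h.comm x₀ hx₀
    have h3 : (x₀⁻¹ * g') * v = v * (x₀⁻¹ * g') := by
      calc (x₀⁻¹ * g') * v = x₀⁻¹ * (g' * v * g'⁻¹) * g' := by group
        _ = x₀⁻¹ * (x₀ * v * x₀⁻¹) * g' := by rw [h1, hxv]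
        _ = v * (x₀⁻¹ * g') := by group
    have hxz : x₀⁻¹ * z = z * x₀⁻¹ := h.comm _ (P.inv_mem hx₀)
    have h4 : (x₀⁻¹ * g') * z = z * (x₀⁻¹ * g') := by
      rw [mul_assoc, hgz, ← mul_assoc, hxz, mul_assoc]
    have h5 : x₀⁻¹ * g' ∈ P := hfin _ (Subgroup.mul_mem _ (Subgroup.inv_mem _ (hNn hM (hM.le hx₀))) hgn) h4 h3
    have h6 : g = m * (x₀ * (x₀⁻¹ * g')) := by rw [hg']; group
    rw [h6]
    exact M.mul_mem hm (hM.le (P.mul_mem hx₀ h5))

theorem Ov.unique (h : Hyp P z v) {M M' : Subgroup S} (hM : Ov P z M) (hM' : Ov P z M') : M = M' :=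
  le_antisymm (hM'.le_of h hM) (hM.le_of h hM')

end Cfsg.Agent.H778.D4
end

-- part: H778/D4/Mon
section
/-!
# S4311, BOX D4: monomial computations (helper778)
-/

set_option autoImplicit false
set_option linter.unusedSectionVars false

namespace Cfsg.Agent.H778.D4

open Module QuadraticMap Cfsg.Agent.H167.OP Cfsg.Agent.H170.HL Cfsg.Agent.H170.HL.OmRow Cfsg.Agent.H556.Om
open Cfsg Subgroup Cfsg.Agent.H485.RV Cfsg.Agent.H561.RV Cfsg.Agent.H561.D4

variable {F : Type} [Field F] {ι : Type} [Fintype ι] [DecidableEq ι] {Q : QuadraticForm F (ι → F)}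
  {E : Fin 2 × A4 → ι → F}

/-- the frame spans the space -/
theorem span_frame (h : Q8 Q) (hF : Frame (polarBilin Q) E) {w : ι → F} (hw : ∀ j, polarBilin Q (E j) w = 0) :
    w = 0 := by
  have hli := hF.linearIndependent h.two
  have hspan : Submodule.span F (Set.range E) = ⊤ := by
    apply hli.span_eq_top_of_card_eq_finrank'
    rw [Module.finrank_fintype_fun_eq_card, h.dim]
    rfl
  have hmem : w ∈ Submodule.span F (Set.range E) := by rw [hspan]; trivial
  rw [Submodule.mem_span_range_iff_exists_fun] at hmem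
  obtain ⟨c, rfl⟩ := hmem
  refine Finset.sum_eq_zero fun j _ => ?_
  have h1 := hw j
  rw [map_sum, Finset.sum_eq_single j] at h1
  · rw [map_smul, hF.self, smul_eq_mul] at h1
    rw [(mul_eq_zero.1 h1).resolve_right h.two, zero_smul]
  · intro i _ hi
    rw [map_smul, hF.orth j i hi.symm, smul_zero]
  · intro h
    exact absurd (Finset.mem_univ j) h

theorem ext8 (h : Q8 Q) (hF : Frame (polarBilin Q) E) {φ ψ : Module.End F (ι → F)} (h1 : ∀ j, φ (E j) = ψ (E j)) :
    φ = ψ :=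
  ext_frame hF h.two h1 fun w hw => by rw [span_frame h hF hw, map_zero, map_zero]

/-- the centre -/
theorem rep_center (h : Q8 Q) {c : Cfsg.Omega F (⇑Q)} (hc : c ∈ Subgroup.center (Cfsg.Omega F (⇑Q))) :
    ∃ a : F, a * a = 1 ∧ (a = 1 ∨ a = -1) ∧ ∀ u, rep (inc (⇑Q)) c u = a • u := by
  have h4 := (Cfsg.Agent.LieClassical.OmegaCenter.mem_center_omega_iff Q h.gq.nd h.gq.card h.gq.sing _).mp hc
  have h4' : inc (⇑Q) c = 1 ∨ inc (⇑Q) c = -1 := h4
  rcases h4' with h5 | h5
  · exact ⟨1, one_mul 1, Or.inl rfl, fun u => by rw [rep_apply, h5, Matrix.one_mulVec, one_smul]⟩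
  · refine ⟨-1, by norm_num, Or.inr rfl, fun u => ?_⟩
    rw [rep_apply, h5, Matrix.neg_mulVec, Matrix.one_mulVec, neg_one_smul]

theorem mem_center_of {c : Cfsg.Omega F (⇑Q)} {a : F} (hc : ∀ u, rep (inc (⇑Q)) c u = a • u) :
    c ∈ Subgroup.center (Cfsg.Omega F (⇑Q)) := by
  rw [Subgroup.mem_center_iff]
  intro g
  apply rep_inj
  apply LinearMap.ext
  intro u
  rw [mul_ap, mul_ap, hc, hc, map_smul]

theorem center_sq (h : Q8 Q) {c : Cfsg.Omega F (⇑Q)} (hc : c ∈ Subgroup.center (Cfsg.Omega F (⇑Q))) : c * c = 1 := by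
  obtain ⟨a, ha, -, hu⟩ := rep_center h hc
  apply rep_inj
  apply LinearMap.ext
  intro u
  rw [mul_ap, hu, hu, smul_smul, ha, one_smul, map_one, Module.End.one_apply]

/-- uniqueness of the parameters of a monomial map -/
theorem mono_uniq {J : Type*} [Fintype J] [DecidableEq J] {e : J → ι → F} (h2 : (2 : F) ≠ 0)
    (hF : Frame (polarBilin Q) e) {s t : J → F} {σ τ : J → J} (hs : ∀ j, s j * s j = 1)
    (he : mono (polarBilin Q) e s σ = mono (polarBilin Q) e t τ) (j : J) : σ j = τ j ∧ s j = t j := by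
  have h1 := congrArg (fun T : Module.End F (ι → F) => polarBilin Q (e (σ j)) (T (e j))) he
  simp only [mono_e hF h2, map_smul, hF.self, smul_eq_mul] at h1
  by_cases h3 : σ j = τ j
  · refine ⟨h3, ?_⟩
    rw [← h3, hF.self] at h1
    exact mul_right_cancel₀ h2 h1
  · exfalso
    rw [hF.orth _ _ h3, mul_zero] at h1
    have h4 : s j = 0 := (mul_eq_zero.1 h1).resolve_right h2
    have h5 := hs j
    rw [h4, mul_zero] at h5
    exact zero_ne_one h5

/-- images equal modulo `z` -/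
theorem star (h : Q8 Q) (hF : Frame (polarBilin Q) E) {z a b : Cfsg.Omega F (⇑Q)} (hz : IsZ Q E z)
    (hab : (QuotientGroup.mk a : Cfsg.POmega F (⇑Q)) = QuotientGroup.mk b ∨
      (QuotientGroup.mk a : Cfsg.POmega F (⇑Q)) = QuotientGroup.mk z * QuotientGroup.mk b) :
    ∃ κ : Fin 2 → F, (∀ k, κ k * κ k = 1) ∧
      rep (inc (⇑Q)) a = mono (polarBilin Q) E (fun j => κ j.1) id * rep (inc (⇑Q)) b := by
  have key : ∀ d : Cfsg.Omega F (⇑Q), (QuotientGroup.mk a : Cfsg.POmega F (⇑Q)) = QuotientGroup.mk d →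
      ∃ ε : F, ε * ε = 1 ∧ ∀ u, rep (inc (⇑Q)) a u = ε • rep (inc (⇑Q)) d u := by
    intro d hd
    have h1 : a⁻¹ * d ∈ Subgroup.center (Cfsg.Omega F (⇑Q)) := QuotientGroup.eq.1 hd
    obtain ⟨ε, hε, -, hu⟩ := rep_center h h1
    refine ⟨ε, hε, fun u => ?_⟩
    have h2 : d = a * (a⁻¹ * d) := by group
    rw [h2, mul_ap, hu, map_smul, smul_smul, hε, one_smul]
  rcases hab with h1 | h1
  · obtain ⟨ε, hε, hu⟩ := key b h1
    refine ⟨fun _ => ε, fun _ => hε, ?_⟩
    have h3 : mono (polarBilin Q) E (fun _ => ε) id = ε • (1 : Module.End F (ι → F)) := by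
      refine ext8 h hF fun j => ?_
      rw [mono_e hF h.two, LinearMap.smul_apply, Module.End.one_apply]
      rfl
    rw [h3]
    apply LinearMap.ext
    intro u
    rw [hu, Module.End.mul_apply, LinearMap.smul_apply, Module.End.one_apply]
  · obtain ⟨ε, hε, hu⟩ := key (z * b) h1
    refine ⟨fun k => if k = 0 then -ε else ε, fun k => ?_, ?_⟩
    · dsimp only
      split_ifs
      · rw [neg_mul_neg, hε]
      · exact hε
    have h3 : mono (polarBilin Q) E (fun j => if j.1 = 0 then -ε else ε) id = ε • rep (inc (⇑Q)) z := by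
      refine ext8 h hF fun j => ?_
      rw [hz, mono_e hF h.two, LinearMap.smul_apply, mono_e hF h.two, smul_smul, s0]
      congr 1
      split_ifs <;> ring
    rw [h3]
    apply LinearMap.ext
    intro u
    rw [hu, Module.End.mul_apply, LinearMap.smul_apply, mul_ap]

/-- step 1: the permutation is trivial -/
theorem perm_trivial (h : Q8 Q) (hF : Frame (polarBilin Q) E) {g : Cfsg.Omega F (⇑Q)} {s : Fin 2 × A4 → F}
    {σ : Equiv.Perm (Fin 2 × A4)} (hs : ∀ j, s j * s j = 1) (hg : rep (inc (⇑Q)) g = mono (polarBilin Q) E s σ)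
    (hstar : ∀ i j : Fin 2 × A4, i ≠ j → ∀ t : Cfsg.Omega F (⇑Q),
      rep (inc (⇑Q)) t = mono (polarBilin Q) E (H556.Om.sg F i j) id → ∃ κ : Fin 2 → F, (∀ k, κ k * κ k = 1) ∧
        rep (inc (⇑Q)) (t * g) = mono (polarBilin Q) E (fun j => κ j.1) id * rep (inc (⇑Q)) (g * t)) :
    ∀ j, σ j = j := by
  have h11 : (1 : F) ≠ -1 := by
    intro h1
    apply h.two
    have : (1 : F) + 1 = 0 := by nth_rewrite 2 [h1]; exact add_neg_cancel 1
    rw [← one_add_one_eq_two, this]
  -- `σ` preserves `{i, j}`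
  have key : ∀ i j : Fin 2 × A4, i.1 = 0 → j.1 = 1 → ∀ l, H556.Om.sg F i j (σ l) = H556.Om.sg F i j l := by
    intro i j hi hj
    have hij : i ≠ j := by
      intro h1
      rw [h1, hj] at hi
      exact absurd hi (by decide)
    obtain ⟨t, ht⟩ := exists_sg h.gq h.two hF hij
    obtain ⟨κ, hκ, h1⟩ := hstar i j hij t ht
    rw [map_mul, map_mul, ht, hg, mono_mul hF h.two, mono_mul hF h.two, mono_mul hF h.two] at h1
    have hsg : ∀ k, H556.Om.sg F i j k * H556.Om.sg F i j k = 1 := by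
      intro k
      unfold H556.Om.sg
      split_ifs <;> norm_num
    have h2 : ∀ l, s l * H556.Om.sg F i j (σ l) = H556.Om.sg F i j l * s l * κ (σ l).1 := fun l =>
      (mono_uniq h.two hF (fun l => by
        show s l * H556.Om.sg F i j (σ l) * (s l * H556.Om.sg F i j (σ l)) = 1
        rw [mul_mul_mul_comm, hs, hsg, one_mul]) h1 l).2
    have h3 : ∀ l, H556.Om.sg F i j (σ l) = H556.Om.sg F i j l * κ (σ l).1 := by
      intro l
      calc H556.Om.sg F i j (σ l) = s l * (s l * H556.Om.sg F i j (σ l)) := by rw [← mul_assoc, hs, one_mul]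
        _ = s l * (H556.Om.sg F i j l * s l * κ (σ l).1) := by rw [h2]
        _ = (s l * s l) * (H556.Om.sg F i j l * κ (σ l).1) := by ring
        _ = _ := by rw [hs, one_mul]
    -- `κ = 1`
    have h4 : ∀ k, κ k = 1 := by
      intro k
      -- the element of `{i, j}` in the block `k`
      obtain ⟨m, hm, hm'⟩ : ∃ m : Fin 2 × A4, (∀ l : Fin 2 × A4, l.1 = k → l ≠ m → l ≠ i ∧ l ≠ j) ∧ m.1 = k := by
        have hk : k = 0 ∨ k = 1 := by
          revert k; decide
        rcases hk with rfl | rfl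
        · refine ⟨i, fun l hl hli => ⟨hli, ?_⟩, hi⟩
          rintro rfl
          rw [hj] at hl
          exact absurd hl (by decide)
        · refine ⟨j, fun l hl hlj => ⟨?_, hlj⟩, hj⟩
          rintro rfl
          rw [hi] at hl
          exact absurd hl (by decide)
      obtain ⟨l, hl, hlm⟩ : ∃ l ∈ Finset.univ.filter (fun l : Fin 2 × A4 => l.1 = k),
          l ∉ ({m, σ i, σ j} : Finset (Fin 2 × A4)) := by
        apply Finset.exists_mem_notMem_of_card_lt_card
        have h5 : (Finset.univ.filter (fun l : Fin 2 × A4 => l.1 = k)).card = 4 := by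
          clear hm hm'
          revert k
          decide
        rw [h5]
        exact lt_of_le_of_lt Finset.card_le_three (by norm_num)
      rw [Finset.mem_filter] at hl
      simp only [Finset.mem_insert, Finset.mem_singleton, not_or] at hlm
      obtain ⟨hl1, hl2, hl3⟩ := hlm
      have h5 := h3 (σ.symm l)
      rw [Equiv.apply_symm_apply, hl.2] at h5
      have h6 := hm l hl.2 hl1
      have h7 : H556.Om.sg F i j l = 1 := by
        unfold H556.Om.sg
        rw [if_neg (by rintro (h8 | h8); exacts [h6.1 h8, h6.2 h8])]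
      have h8 : H556.Om.sg F i j (σ.symm l) = 1 := by
        unfold H556.Om.sg
        rw [if_neg]
        rintro (h8 | h8)
        · exact hl2 (by rw [← h8, Equiv.apply_symm_apply])
        · exact hl3 (by rw [← h8, Equiv.apply_symm_apply])
      rw [h7, h8, one_mul] at h5
      exact h5.symm
    intro l
    rw [h3, h4, mul_one]
  have hpair : ∀ i j : Fin 2 × A4, i.1 = 0 → j.1 = 1 → (σ i = i ∨ σ i = j) ∧ (σ j = i ∨ σ j = j) := by
    intro i j hi hj
    have h1 := key i j hi hj i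
    have h2 := key i j hi hj j
    unfold H556.Om.sg at h1 h2
    rw [if_pos (Or.inl rfl)] at h1
    rw [if_pos (Or.inr rfl)] at h2
    constructor
    · by_contra hcon
      rw [if_neg hcon] at h1
      exact h11 h1
    · by_contra hcon
      rw [if_neg hcon] at h2
      exact h11 h2
  intro j
  have hj : j.1 = 0 ∨ j.1 = 1 := by
    generalize j.1 = k
    revert k; decide
  rcases hj with hj | hj
  · rcases (hpair j (1, (0, 0)) hj rfl).1 with h1 | h1
    · exact h1
    · rcases (hpair j (1, (0, 1)) hj rfl).1 with h2 | h2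
      · exact h2
      · rw [h1] at h2
        exact absurd h2 (by decide)
  · rcases (hpair (0, (0, 0)) j rfl hj).2 with h1 | h1
    · rcases (hpair (0, (0, 1)) j rfl hj).2 with h2 | h2
      · rw [h1] at h2
        exact absurd h2 (by decide)
      · exact h2
    · exact h1

/-- the signs of `v` -/
def chi (F : Type) [Field F] (j : Fin 2 × A4) : F := if j.2.1 = j.2.2 then 1 else -1

/-- `v` is the element `χ` on both blocks -/
def IsV (Q : QuadraticForm F (ι → F)) (E : Fin 2 × A4 → ι → F) (v : Cfsg.Omega F (⇑Q)) : Prop :=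
  rep (inc (⇑Q)) v = mono (polarBilin Q) E (chi F) id

theorem chi_sq (j : Fin 2 × A4) : chi F j * chi F j = 1 := by
  unfold chi
  split_ifs <;> norm_num

theorem s0_sq (j : Fin 2 × A4) : s0 F j * s0 F j = 1 := by
  unfold s0
  split_ifs <;> norm_num

theorem exists_v (h : Q8 Q) (hF : Frame (polarBilin Q) E) : ∃ v, IsV Q E v := by
  have h1 : ((0, (0, 1)) : Fin 2 × A4) ≠ (0, (1, 0)) := by decide
  have h2 : ((1, (0, 1)) : Fin 2 × A4) ≠ (1, (1, 0)) := by decide
  obtain ⟨x, hx⟩ := exists_sg h.gq h.two hF h1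
  obtain ⟨y, hy⟩ := exists_sg h.gq h.two hF h2
  refine ⟨x * y, ?_⟩
  rw [IsV, map_mul, hx, hy, mono_mul hF h.two]
  congr 1
  funext j
  have h3 : ∀ j : Fin 2 × A4, ((j = (0, (0, 1)) ∨ j = (0, (1, 0))) ∧ ¬ (j = (1, (0, 1)) ∨ j = (1, (1, 0))) ∧ ¬ j.2.1 = j.2.2) ∨
      (¬ (j = (0, (0, 1)) ∨ j = (0, (1, 0))) ∧ (j = (1, (0, 1)) ∨ j = (1, (1, 0))) ∧ ¬ j.2.1 = j.2.2) ∨
      (¬ (j = (0, (0, 1)) ∨ j = (0, (1, 0))) ∧ ¬ (j = (1, (0, 1)) ∨ j = (1, (1, 0))) ∧ j.2.1 = j.2.2) := by decide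
  simp only [H556.Om.sg, chi, id]
  rcases h3 j with ⟨h4, h5, h6⟩ | ⟨h4, h5, h6⟩ | ⟨h4, h5, h6⟩
  · rw [if_neg h5, if_pos h4, if_neg h6, one_mul]
  · rw [if_pos h5, if_neg h4, if_neg h6, mul_one]
  · rw [if_neg h5, if_neg h4, if_pos h6, mul_one]

theorem sign_cases {a : F} (ha : a * a = 1) : a = 1 ∨ a = -1 := mul_self_eq_one_iff.1 ha

/-- elements constant on the blocks -/
theorem block_const (h : Q8 Q) (hF : Frame (polarBilin Q) E) {z g : Cfsg.Omega F (⇑Q)} (hz : IsZ Q E z) {p : Fin 2 → F}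
    (hp : ∀ k, p k * p k = 1) (hg : rep (inc (⇑Q)) g = mono (polarBilin Q) E (fun j => p j.1) id) :
    g ∈ Subgroup.center (Cfsg.Omega F (⇑Q)) ∨ g * z ∈ Subgroup.center (Cfsg.Omega F (⇑Q)) := by
  have hblk : ∀ (x : Cfsg.Omega F (⇑Q)) (q : Fin 2 × A4 → F) (c : F), (∀ j, q j = c) →
      rep (inc (⇑Q)) x = mono (polarBilin Q) E q id → x ∈ Subgroup.center (Cfsg.Omega F (⇑Q)) := by
    intro x q c hq hx
    have h1 : rep (inc (⇑Q)) x = c • (1 : Module.End F (ι → F)) := by
      rw [hx]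
      refine ext8 h hF fun j => ?_
      rw [mono_e hF h.two, hq, LinearMap.smul_apply, Module.End.one_apply]
      rfl
    exact mem_center_of (a := c) fun u => by rw [h1, LinearMap.smul_apply, Module.End.one_apply]
  have h01 : ∀ j : Fin 2 × A4, j.1 = 0 ∨ j.1 = 1 := by
    intro j
    generalize j.1 = k
    revert k; decide
  by_cases h1 : p 0 = p 1
  · refine Or.inl (hblk g _ (p 0) (fun j => ?_) hg)
    rcases h01 j with h2 | h2
    · rw [h2]
    · rw [h2, h1]
  · have h2 : p 0 = - p 1 := by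
      rcases sign_cases (hp 0) with h3 | h3 <;> rcases sign_cases (hp 1) with h4 | h4
      · exact absurd (h3.trans h4.symm) h1
      · rw [h3, h4, neg_neg]
      · rw [h3, h4]
      · exact absurd (h3.trans h4.symm) h1
    refine Or.inr (hblk (g * z) (fun j => s0 F j * p j.1) (p 1) (fun j => ?_) ?_)
    · show s0 F j * p j.1 = p 1
      rcases h01 j with h3 | h3
      · rw [s0, h3, if_pos rfl, h2]; ring
      · rw [s0, h3, if_neg (by decide), one_mul]
    · rw [map_mul, hg, hz, mono_mul hF h.two]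
      rfl

/-- step 2: the signs -/
theorem signs (h : Q8 Q) (hF : Frame (polarBilin Q) E) {z v g : Cfsg.Omega F (⇑Q)} (hz : IsZ Q E z) (hv : IsV Q E v)
    {s : Fin 2 × A4 → F} (hs : ∀ j, s j * s j = 1) (hg : rep (inc (⇑Q)) g = mono (polarBilin Q) E s id)
    (hstar : ∀ (τ : Equiv.Perm (Fin 2)) (b : Bool) (c : Fin 2 → A4) (x : Cfsg.Omega F (⇑Q)),
      rep (inc (⇑Q)) x = mono (polarBilin Q) E (fun _ => 1) (pp τ (fun _ => b) c) → ∃ κ : Fin 2 → F,
        (∀ k, κ k * κ k = 1) ∧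
        rep (inc (⇑Q)) (x * g) = mono (polarBilin Q) E (fun j => κ j.1) id * rep (inc (⇑Q)) (g * x)) :
    (g ∈ Subgroup.center (Cfsg.Omega F (⇑Q)) ∨ g * z ∈ Subgroup.center (Cfsg.Omega F (⇑Q))) ∨
    (g * v ∈ Subgroup.center (Cfsg.Omega F (⇑Q)) ∨ g * v * z ∈ Subgroup.center (Cfsg.Omega F (⇑Q))) := by
  have key : ∀ (τ : Equiv.Perm (Fin 2)) (b : Bool) (c : Fin 2 → A4), ∃ κ : Fin 2 → F, (∀ k, κ k * κ k = 1) ∧
      ∀ k a, s (k, a) = s (τ k, lin b a + c k) * κ (τ k) := by
    intro τ b c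
    obtain ⟨x, hx⟩ := exists_perm h.gq h.two hF (sign_pp τ b c)
    obtain ⟨κ, hκ, h1⟩ := hstar τ b c x hx
    refine ⟨κ, hκ, fun k a => ?_⟩
    rw [map_mul, map_mul, hx, hg, mono_mul hF h.two, mono_mul hF h.two, mono_mul hF h.two] at h1
    have h2 := (mono_uniq h.two hF (fun l => by
      show s l * 1 * (s l * 1) = 1
      rw [mul_one, hs]) h1 (k, a)).2
    have h3 : s (k, a) * 1 = 1 * s (τ k, lin b a + c k) * κ (τ k) := h2
    rw [mul_one, one_mul] at h3
    exact h3
  -- translations by `(1, 0)` and the exchange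
  have h1 : ∀ k, s (k, (1, 0)) = s (k, (0, 1)) := by
    intro k
    obtain ⟨κ, hκ, h2⟩ := key 1 true 0
    have h3 : s (k, (0, 0)) = s (k, (0, 0)) * κ k := h2 k (0, 0)
    have h4 : s (k, (1, 0)) = s (k, (0, 1)) * κ k := h2 k (1, 0)
    have h5 : κ k = 1 := by
      calc κ k = (s (k, (0, 0)) * s (k, (0, 0))) * κ k := by rw [hs, one_mul]
        _ = s (k, (0, 0)) * (s (k, (0, 0)) * κ k) := by ring
        _ = s (k, (0, 0)) * s (k, (0, 0)) := by rw [← h3]
        _ = 1 := hs _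
    rw [h4, h5, mul_one]
  have h2 : ∀ k, s (k, (1, 1)) = s (k, (0, 0)) := by
    intro k
    obtain ⟨κ, hκ, h2⟩ := key 1 false (fun _ => (1, 0))
    have h3 : s (k, (0, 0)) = s (k, (1, 0)) * κ k := h2 k (0, 0)
    have h4 : s (k, (0, 1)) = s (k, (1, 1)) * κ k := h2 k (0, 1)
    rw [← h1] at h4
    calc s (k, (1, 1)) = s (k, (1, 1)) * (κ k * κ k) := by rw [hκ, mul_one]
      _ = (s (k, (1, 1)) * κ k) * κ k := by ring
      _ = s (k, (0, 0)) := by rw [← h4, h3]
  have h3 : s (0, (0, 0)) * s (0, (0, 1)) = s (1, (0, 0)) * s (1, (0, 1)) := by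
    obtain ⟨κ, hκ, h3⟩ := key (Equiv.swap 0 1) false 0
    have h4 : s (0, (0, 0)) = s (1, (0, 0)) * κ 1 := h3 0 (0, 0)
    have h5 : s (0, (0, 1)) = s (1, (0, 1)) * κ 1 := h3 0 (0, 1)
    calc s (0, (0, 0)) * s (0, (0, 1)) = (s (1, (0, 0)) * κ 1) * (s (1, (0, 1)) * κ 1) := by rw [h4, h5]
      _ = s (1, (0, 0)) * s (1, (0, 1)) * (κ 1 * κ 1) := by ring
      _ = _ := by rw [hκ, mul_one]
  have hall : ∀ a : A4, a = (0, 0) ∨ a = (0, 1) ∨ a = (1, 0) ∨ a = (1, 1) := by decide
  by_cases h4 : s (0, (0, 0)) = s (0, (0, 1))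
  · -- constant on the blocks
    left
    refine block_const h hF hz (p := fun k => s (k, (0, 0))) (fun k => hs _) ?_
    rw [hg]
    congr 1
    funext ⟨k, a⟩
    have h5 : ∀ k, s (k, (0, 1)) = s (k, (0, 0)) := by
      intro k
      have hk : k = 0 ∨ k = 1 := by revert k; decide
      rcases hk with rfl | rfl
      · exact h4.symm
      · rw [← h4, hs] at h3
        calc s (1, (0, 1)) = (s (1, (0, 0)) * s (1, (0, 0))) * s (1, (0, 1)) := by rw [hs, one_mul]
          _ = s (1, (0, 0)) * (s (1, (0, 0)) * s (1, (0, 1))) := by ring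
          _ = s (1, (0, 0)) := by rw [← h3, mul_one]
    show s (k, a) = s (k, (0, 0))
    rcases hall a with rfl | rfl | rfl | rfl
    · rfl
    · exact h5 k
    · rw [h1, h5]
    · exact h2 k
  · right
    have h4' : s (0, (0, 1)) = - s (0, (0, 0)) := by
      rcases sign_cases (hs (0, (0, 0))) with h5 | h5 <;> rcases sign_cases (hs (0, (0, 1))) with h6 | h6
      · exact absurd (h5.trans h6.symm) h4
      · rw [h5, h6]
      · rw [h5, h6, neg_neg]
      · exact absurd (h5.trans h6.symm) h4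
    have h5 : ∀ k, s (k, (0, 1)) = - s (k, (0, 0)) := by
      intro k
      have hk : k = 0 ∨ k = 1 := by revert k; decide
      rcases hk with rfl | rfl
      · exact h4'
      · rw [h4', mul_neg, hs] at h3
        calc s (1, (0, 1)) = (s (1, (0, 0)) * s (1, (0, 0))) * s (1, (0, 1)) := by rw [hs, one_mul]
          _ = s (1, (0, 0)) * (s (1, (0, 0)) * s (1, (0, 1))) := by ring
          _ = - s (1, (0, 0)) := by rw [← h3]; ring
    refine block_const h hF hz (g := g * v) (p := fun k => s (k, (0, 0))) (fun k => hs _) ?_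
    rw [map_mul, hg, hv, mono_mul hF h.two]
    congr 1
    funext ⟨k, a⟩
    show chi F (k, a) * s (k, a) = s (k, (0, 0))
    unfold chi
    rcases hall a with rfl | rfl | rfl | rfl
    · rw [if_pos rfl, one_mul]
    · rw [if_neg (show ¬ ((0 : ZMod 2) = 1) by decide), h5]; ring
    · rw [if_neg (show ¬ ((1 : ZMod 2) = 0) by decide), h1, h5]; ring
    · rw [if_pos rfl, one_mul, h2]

end Cfsg.Agent.H778.D4
end

-- part: H778/D4/Odd
section
/-!
# S4311, BOX D4: elements of odd order (helper778)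
-/

set_option autoImplicit false
set_option linter.unusedSectionVars false

namespace Cfsg.Agent.H778.D4

open Module QuadraticMap Cfsg.Agent.H167.OP Cfsg.Agent.H170.HL Cfsg.Agent.H170.HL.OmRow Cfsg.Agent.H556.Om
open Cfsg Subgroup Cfsg.Agent.H485.RV Cfsg.Agent.H561.RV Cfsg.Agent.H561.D4

variable {F : Type} [Field F] {ι : Type} [Fintype ι] [DecidableEq ι] {Q : QuadraticForm F (ι → F)}
  {E : Fin 2 × A4 → ι → F}

/-- the partner in the plane -/
def pt (j : Fin 2 × A4) : Fin 2 × A4 := (j.1, j.2 + (1, 1))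

/-- an index outside the plane -/
def po (j : Fin 2 × A4) : Fin 2 × A4 := (j.1, j.2 + (1, 0))

theorem pt_pt (j : Fin 2 × A4) : pt (pt j) = j := by
  revert j; decide

theorem pt_ne (j : Fin 2 × A4) : pt j ≠ j := by
  revert j; decide

theorem po_ne (j : Fin 2 × A4) : j ≠ po j := by
  revert j; decide

theorem pt_ne_po (j : Fin 2 × A4) : pt j ≠ po j := by
  revert j; decide

theorem cases_ij (i j : Fin 2 × A4) : i = j ∨ i = pt j ∨ (i.1 = 0 ∧ ¬ j.1 = 0) ∨ (¬ i.1 = 0 ∧ j.1 = 0) ∨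
    (i.2.1 = i.2.2 ∧ ¬ j.2.1 = j.2.2) ∨ (¬ i.2.1 = i.2.2 ∧ j.2.1 = j.2.2) := by
  revert i j; decide +kernel

/-- elements commuting with `z` and `v` preserve the planes -/
theorem plane (h : Q8 Q) (hF : Frame (polarBilin Q) E) {z v y : Cfsg.Omega F (⇑Q)} (hz : IsZ Q E z) (hv : IsV Q E v)
    (hyz : y * z = z * y) (hyv : y * v = v * y) (j : Fin 2 × A4) :
    ∃ a b : F, rep (inc (⇑Q)) y (E j) = a • E j + b • E (pt j) := by
  have hzE : ∀ i, rep (inc (⇑Q)) z (E i) = s0 F i • E i := fun i => by rw [hz, mono_e hF h.two]; rfl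
  have hvE : ∀ i, rep (inc (⇑Q)) v (E i) = chi F i • E i := fun i => by rw [hv, mono_e hF h.two]; rfl
  -- the entries
  have h1 : ∀ i, polarBilin Q (E i) (rep (inc (⇑Q)) y (E j)) = s0 F i * s0 F j * polarBilin Q (E i) (rep (inc (⇑Q)) y (E j)) := by
    intro i
    have h2 := polar_omega z (E i) (rep (inc (⇑Q)) y (E j))
    rw [← mul_ap, ← hyz, mul_ap, hzE, hzE, map_smul, map_smul, map_smul, LinearMap.smul_apply, smul_eq_mul, smul_eq_mul] at h2
    exact h2.symm.trans (by ring)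
  have h1' : ∀ i, polarBilin Q (E i) (rep (inc (⇑Q)) y (E j)) =
      chi F i * chi F j * polarBilin Q (E i) (rep (inc (⇑Q)) y (E j)) := by
    intro i
    have h2 := polar_omega v (E i) (rep (inc (⇑Q)) y (E j))
    rw [← mul_ap, ← hyv, mul_ap, hvE, hvE, map_smul, map_smul, map_smul, LinearMap.smul_apply, smul_eq_mul, smul_eq_mul] at h2
    exact h2.symm.trans (by ring)
  have hneg : ∀ x : F, x = -1 * x → x = 0 := by
    intro x hx
    have h5 : (2 : F) * x = 0 := by linear_combination hx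
    exact (mul_eq_zero.1 h5).resolve_left h.two
  have h2 : ∀ i, i ≠ j → i ≠ pt j → polarBilin Q (E i) (rep (inc (⇑Q)) y (E j)) = 0 := by
    intro i hij hip
    apply hneg
    rcases cases_ij i j with h3 | h3 | ⟨h3, h4⟩ | ⟨h3, h4⟩ | ⟨h3, h4⟩ | ⟨h3, h4⟩
    · exact absurd h3 hij
    · exact absurd h3 hip
    · have h5 := h1 i
      simp only [s0, s0, if_pos h3, if_neg h4, mul_one] at h5
      exact h5
    · have h5 := h1 i
      simp only [s0, s0, if_neg h3, if_pos h4, one_mul] at h5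
      exact h5
    · have h5 := h1' i
      simp only [chi, chi, if_pos h3, if_neg h4, one_mul] at h5
      exact h5
    · have h5 := h1' i
      simp only [chi, chi, if_neg h3, if_pos h4, mul_one] at h5
      exact h5
  refine ⟨(2 : F)⁻¹ * polarBilin Q (E j) (rep (inc (⇑Q)) y (E j)),
    (2 : F)⁻¹ * polarBilin Q (E (pt j)) (rep (inc (⇑Q)) y (E j)), ?_⟩
  rw [← sub_eq_zero]
  apply span_frame h hF
  intro i
  simp only [map_sub, map_add, map_smul, map_smul, smul_eq_mul, smul_eq_mul]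
  by_cases hij : i = j
  · subst hij
    simp_rw [hF.self, hF.orth _ _ (pt_ne i).symm, mul_zero, add_zero, mul_assoc, mul_comm _ (2 : F), ← mul_assoc,
      inv_mul_cancel₀ h.two, one_mul, sub_self]
  · by_cases hip : i = pt j
    · simp_rw [hip, hF.self, hF.orth _ _ (pt_ne j), mul_zero, zero_add, mul_assoc, mul_comm _ (2 : F), ← mul_assoc,
        inv_mul_cancel₀ h.two, one_mul, sub_self]
    · rw [h2 i hij hip, hF.orth _ _ hij, hF.orth _ _ hip, mul_zero, mul_zero, add_zero, sub_zero]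

/-- the stabiliser of a vector -/
def st (Q : QuadraticForm F (ι → F)) (u : ι → F) : Subgroup (Cfsg.Omega F (⇑Q)) where
  carrier := {g | rep (inc (⇑Q)) g u = u}
  one_mem' := by show rep (inc (⇑Q)) 1 u = u; rw [map_one, Module.End.one_apply]
  mul_mem' := by
    intro a b ha hb
    show rep (inc (⇑Q)) (a * b) u = u
    rw [mul_ap, show rep (inc (⇑Q)) b u = u from hb]
    exact ha
  inv_mem' := by
    intro a ha
    show rep (inc (⇑Q)) a⁻¹ u = u
    have h1 : rep (inc (⇑Q)) a u = u := ha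
    nth_rewrite 1 [← h1]
    exact inv_ap _ a u

/-- elements of odd order commuting with `z` and `v`, such that the commutators with the sign changes are 2-elements,
are trivial -/
theorem odd_trivial (h : Q8 Q) (hF : Frame (polarBilin Q) E) {z v y : Cfsg.Omega F (⇑Q)} (hz : IsZ Q E z)
    (hv : IsV Q E v) (hyz : y * z = z * y) (hyv : y * v = v * y) {n : ℕ} (hn : Odd n) (hyn : y ^ n = 1)
    (ht : ∀ (i j : Fin 2 × A4), i ≠ j → ∀ t : Cfsg.Omega F (⇑Q),
      rep (inc (⇑Q)) t = mono (polarBilin Q) E (H556.Om.sg F i j) id → ∃ k : ℕ, (y * t * y⁻¹ * t⁻¹) ^ 2 ^ k = 1) :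
    y = 1 := by
  have main : ∀ j, y ∈ st Q (E j) := by
    intro j
    obtain ⟨a, b, hab⟩ := plane h hF hz hv hyz hyv j
    obtain ⟨d, c, hcd⟩ := plane h hF hz hv hyz hyv (pt j)
    rw [pt_pt] at hcd
    set u := E j with hu
    set w := E (pt j) with hw
    have hyn' : y ^ n ∈ st Q u := by rw [hyn]; exact (st Q u).one_mem
    have huu : polarBilin Q u u = 2 := hF.self j
    have hww : polarBilin Q w w = 2 := hF.self (pt j)
    have huw : polarBilin Q u w = 0 := hF.orth _ _ (pt_ne j).symm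
    have hwu : polarBilin Q w u = 0 := hF.orth _ _ (pt_ne j)
    -- orthogonality relations
    have e1 : a * a + b * b = 1 := by
      have h1 := polar_omega y u u
      rw [hab] at h1
      simp only [map_add, map_smul, LinearMap.add_apply, LinearMap.smul_apply, smul_eq_mul, huu, hww, huw, hwu] at h1
      have h2 : (2 : F) * (a * a + b * b) = 2 * 1 := by linear_combination h1
      exact mul_left_cancel₀ h.two h2
    have e2 : c * c + d * d = 1 := by
      have h1 := polar_omega y w w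
      rw [hcd] at h1
      simp only [map_add, map_smul, LinearMap.add_apply, LinearMap.smul_apply, smul_eq_mul, huu, hww, huw, hwu] at h1
      have h2 : (2 : F) * (c * c + d * d) = 2 * 1 := by linear_combination h1
      exact mul_left_cancel₀ h.two h2
    have e3 : a * c + b * d = 0 := by
      have h1 := polar_omega y u w
      rw [hab, hcd] at h1
      simp only [map_add, map_smul, LinearMap.add_apply, LinearMap.smul_apply, smul_eq_mul, huu, hww, huw, hwu] at h1
      have h2 : (2 : F) * (a * c + b * d) = 2 * 0 := by linear_combination h1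
      exact mul_left_cancel₀ h.two h2
    have e4 : (a * d - b * c) * (a * d - b * c) = 1 := by
      linear_combination (c * c + d * d) * e1 + e2 - (a * c + b * d) * e3
    rcases sign_cases e4 with e5 | e5
    · -- rotation
      have hd : d = a := by
        linear_combination -d * e1 + a * e5 + b * e3
      have hc : c = -b := by
        linear_combination -c * e1 - b * e5 + a * e3
      subst hd
      subst hc
      obtain ⟨t, htt⟩ := exists_sg h.gq h.two hF (po_ne j)
      obtain ⟨k, hk⟩ := ht j (po j) (po_ne j) t htt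
      have htu : rep (inc (⇑Q)) t u = -u := by
        rw [htt, hu, mono_e hF h.two]
        unfold H556.Om.sg
        rw [if_pos (Or.inl rfl), neg_one_smul]
        rfl
      have htw : rep (inc (⇑Q)) t w = w := by
        rw [htt, hw, mono_e hF h.two]
        unfold H556.Om.sg
        rw [if_neg (by rintro (h1 | h1); exacts [pt_ne j h1, pt_ne_po j h1]), one_smul]
        rfl
      have htu' : rep (inc (⇑Q)) t⁻¹ u = -u := by
        have h1 : rep (inc (⇑Q)) t⁻¹ (rep (inc (⇑Q)) t (-u)) = -u := inv_ap _ t _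
        rwa [map_neg, htu, neg_neg] at h1
      have htw' : rep (inc (⇑Q)) t⁻¹ w = w := by
        have h1 : rep (inc (⇑Q)) t⁻¹ (rep (inc (⇑Q)) t w) = w := inv_ap _ t _
        rwa [htw] at h1
      have hyu' : rep (inc (⇑Q)) y⁻¹ u = d • u - b • w := by
        have h1 : rep (inc (⇑Q)) y (d • u - b • w) = u := by
          rw [map_sub, map_smul, map_smul, hab, hcd]
          have h2 : d • (d • u + b • w) - b • (d • w + -b • u) = (d * d + b * b) • u := by module
          rw [h2, e1, one_smul]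
        nth_rewrite 1 [← h1]
        exact inv_ap _ y _
      have hyw' : rep (inc (⇑Q)) y⁻¹ w = b • u + d • w := by
        have h1 : rep (inc (⇑Q)) y (b • u + d • w) = w := by
          rw [map_add, map_smul, map_smul, hab, hcd]
          have h2 : b • (d • u + b • w) + d • (d • w + -b • u) = (d * d + b * b) • w := by module
          rw [h2, e1, one_smul]
        nth_rewrite 1 [← h1]
        exact inv_ap _ y _
      set x := y * t * y⁻¹ * t⁻¹ with hx
      have hxu : rep (inc (⇑Q)) x u = rep (inc (⇑Q)) (y * y) u := by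
        have h1 : rep (inc (⇑Q)) t (rep (inc (⇑Q)) y⁻¹ (rep (inc (⇑Q)) t⁻¹ u)) = rep (inc (⇑Q)) y u := by
          simp only [htu', map_neg, hyu', map_neg, map_sub, map_smul, map_smul, htu, htw, hab]
          module
        rw [hx, mul_ap, mul_ap, mul_ap, h1, ← mul_ap]
      have hxw : rep (inc (⇑Q)) x w = rep (inc (⇑Q)) (y * y) w := by
        have h1 : rep (inc (⇑Q)) t (rep (inc (⇑Q)) y⁻¹ (rep (inc (⇑Q)) t⁻¹ w)) = rep (inc (⇑Q)) y w := by
          simp only [htw', hyw', map_add, map_smul, map_smul, htu, htw, hcd]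
          module
        rw [hx, mul_ap, mul_ap, mul_ap, h1, ← mul_ap]
      -- `x` is `y ^ 2` on the plane
      have hxU : ∀ α β : F, rep (inc (⇑Q)) x (α • u + β • w) = rep (inc (⇑Q)) (y * y) (α • u + β • w) := by
        intro α β
        simp only [map_add, map_add, map_smul, map_smul, map_smul, map_smul, hxu, hxw]
      have hyU : ∀ α β : F, ∃ α' β' : F, rep (inc (⇑Q)) y (α • u + β • w) = α' • u + β' • w := by
        intro α β
        refine ⟨α * d - β * b, α * b + β * d, ?_⟩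
        rw [map_add, map_smul, map_smul, hab, hcd]
        module
      have hpow : ∀ m : ℕ, ∀ α β : F, rep (inc (⇑Q)) (x ^ m) (α • u + β • w) =
          rep (inc (⇑Q)) (y ^ (2 * m)) (α • u + β • w) := by
        intro m
        induction m with
        | zero => intro α β; rw [mul_zero, pow_zero, pow_zero]
        | succ m ih =>
          intro α β
          have h1 : y ^ (2 * (m + 1)) = y ^ (2 * m) * (y * y) := by
            rw [mul_add, mul_one, pow_add, pow_two]
          simp_rw [pow_succ, mul_ap, hxU, h1, mul_ap (rep (inc (⇑Q))) (y ^ (2 * m))]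
          obtain ⟨α', β', h2⟩ := hyU α β
          obtain ⟨α'', β'', h3⟩ := hyU α' β'
          simp only [mul_ap, h2, h3, ih]
      have h1 : y ^ (2 * 2 ^ k) ∈ st Q u := by
        have h2 := hpow (2 ^ k) 1 0
        rw [hk, map_one, Module.End.one_apply, one_smul, zero_smul, add_zero] at h2
        exact h2.symm
      refine mem_of_pow_mem ?_ h1 hyn'
      rw [← pow_succ']
      exact Nat.Coprime.pow_left _ (Nat.coprime_two_left.2 hn)
    · -- reflection
      have hd : d = -a := by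
        linear_combination -d * e1 + a * e5 + b * e3
      have hc : c = b := by
        linear_combination -c * e1 - b * e5 + a * e3
      subst hd
      subst hc
      have h1 : y ^ 2 ∈ st Q u := by
        rw [pow_two]
        show rep (inc (⇑Q)) (y * y) u = u
        rw [mul_ap, hab, map_add, map_smul, map_smul, hab, hcd]
        have h2 : a • (a • u + c • w) + c • (-a • w + c • u) = (a * a + c * c) • u := by module
        rw [h2, e1, one_smul]
      exact mem_of_pow_mem (Nat.coprime_two_left.2 hn) h1 hyn'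
  apply rep_inj
  rw [map_one]
  exact ext8 h hF fun j => by rw [Module.End.one_apply]; exact main j

end Cfsg.Agent.H778.D4
end

-- part: H778/D4/BoxDFour
section
/-!
# S4311, BOX D4 (helper778)

* `card_PM` : `2 ^ 13 ≤ |PM|`;
* `boxD4` : at most one overgroup of index three of `PMS` does not centralise `z`.
-/

set_option autoImplicit false
set_option linter.unusedSectionVars false
set_option linter.unusedVariables false

namespace Cfsg.Agent.H778.D4

open Module QuadraticMap Cfsg.Agent.H167.OP Cfsg.Agent.H170.HL Cfsg.Agent.H170.HL.OmRow Cfsg.Agent.H556.Om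
open Cfsg Subgroup Cfsg.Agent.H485.RV Cfsg.Agent.H561.RV Cfsg.Agent.H561.D4

variable {F : Type} [Field F] {ι : Type} [Fintype ι] [DecidableEq ι] {Q : QuadraticForm F (ι → F)}
  {E : Fin 2 × A4 → ι → F}

theorem one_ne_neg (h2 : (2 : F) ≠ 0) : (1 : F) ≠ -1 := by
  intro h1
  apply h2
  have : (1 : F) + 1 = 0 := by nth_rewrite 2 [h1]; exact add_neg_cancel 1
  rw [← one_add_one_eq_two, this]

/-- the even sign changes -/
theorem exists_diag (h : Q8 Q) (hF : Frame (polarBilin Q) E) (j₀ : Fin 2 × A4) (A : Finset (Fin 2 × A4)) :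
    ∃ (g : Cfsg.Omega F (⇑Q)) (s : Fin 2 × A4 → F), (∀ j, s j * s j = 1) ∧
      rep (inc (⇑Q)) g = mono (polarBilin Q) E s id ∧ ∀ j, j ≠ j₀ → s j = if j ∈ A then -1 else 1 := by
  induction A using Finset.induction_on with
  | empty =>
    refine ⟨1, fun _ => 1, fun _ => one_mul 1, ?_, fun j _ => by simp⟩
    rw [map_one]
    exact (mono_one hF h.two (fun _ => rfl) fun j => rfl).symm
  | insert a A ha ih =>
    obtain ⟨g, s, hs, hg, hA⟩ := ih
    by_cases haj : j₀ = a
    · refine ⟨g, s, hs, hg, fun j hj => ?_⟩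
      rw [hA j hj]
      have h1 : (j ∈ insert a A) ↔ j ∈ A := by
        rw [Finset.mem_insert, ← haj]
        exact or_iff_right hj
      by_cases h2 : j ∈ A
      · rw [if_pos h2, if_pos (h1.2 h2)]
      · rw [if_neg h2, if_neg fun h3 => h2 (h1.1 h3)]
    · obtain ⟨t, ht⟩ := exists_sg h.gq h.two hF haj
      refine ⟨t * g, fun j => s j * H556.Om.sg F j₀ a j, fun j => ?_, ?_, fun j hj => ?_⟩
      · have h3 : H556.Om.sg F j₀ a j * H556.Om.sg F j₀ a j = 1 := by
          unfold H556.Om.sg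
          split_ifs <;> norm_num
        dsimp only
        rw [mul_mul_mul_comm, hs, h3, one_mul]
      · rw [map_mul, ht, hg, mono_mul hF h.two]
        rfl
      · show s j * H556.Om.sg F j₀ a j = _
        rw [hA j hj]
        unfold H556.Om.sg
        by_cases h2 : j = a
        · subst h2
          rw [if_neg ha, if_pos (Or.inr rfl), if_pos (Finset.mem_insert_self _ _), one_mul]
        · rw [if_neg (show ¬ (j = j₀ ∨ j = a) by rintro (h3 | h3); exacts [hj h3, h2 h3]), mul_one]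
          have h1 : (j ∈ insert a A) ↔ j ∈ A := by
            rw [Finset.mem_insert]
            exact or_iff_right h2
          by_cases h3 : j ∈ A
          · rw [if_pos h3, if_pos (h1.2 h3)]
          · rw [if_neg h3, if_neg fun h4 => h3 (h1.1 h4)]

theorem pp_inj {τ τ' : Equiv.Perm (Fin 2)} {b b' : Bool} {c c' : Fin 2 → A4}
    (h : ∀ j, pp τ (fun _ => b) c j = pp τ' (fun _ => b') c' j) : τ = τ' ∧ b = b' ∧ c = c' := by
  have h1 : ∀ k a, (τ k, lin b a + c k) = (τ' k, lin b' a + c' k) := fun k a => h (k, a)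
  have h2 : τ = τ' := Equiv.ext fun k => congrArg Prod.fst (h1 k 0)
  have h0 : ∀ b, lin b (0 : A4) = 0 := by decide
  have h3 : c = c' := by
    funext k
    have h4 : lin b 0 + c k = lin b' 0 + c' k := congrArg Prod.snd (h1 k 0)
    rwa [h0, h0, zero_add, zero_add] at h4
  refine ⟨h2, ?_, h3⟩
  have h4 : lin b (1, 0) + c 0 = lin b' (1, 0) + c' 0 := congrArg Prod.snd (h1 0 (1, 0))
  rw [h3] at h4
  have h5 := add_right_cancel h4
  clear h h1 h2 h3 h4
  revert b b'
  decide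

/-- **the order of `PM`** -/
theorem card_PM [Finite F] (h : Q8 Q) (hF : Frame (polarBilin Q) E) : 2 ^ 13 ≤ Nat.card (PM h.two hF) := by
  classical
  have hfin : Finite (Cfsg.Omega F (⇑Q)) := inferInstance
  let j₀ : Fin 2 × A4 := (0, (0, 0))
  let X := {A : Finset (Fin 2 × A4) // A ∈ (Finset.univ.erase j₀).powerset}
  choose g s hs hg hA using exists_diag h hF j₀
  choose x hx using fun (q : Equiv.Perm (Fin 2) × Bool × (Fin 2 → A4)) =>
    exists_perm h.gq h.two hF (sign_pp q.1 q.2.1 q.2.2)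
  have hrep : ∀ (A : Finset (Fin 2 × A4)) (q : Equiv.Perm (Fin 2) × Bool × (Fin 2 → A4)),
      rep (inc (⇑Q)) (g A * x q) = mono (polarBilin Q) E (fun j => s A (pp q.1 (fun _ => q.2.1) q.2.2 j))
        (pp q.1 (fun _ => q.2.1) q.2.2) := by
    intro A q
    rw [map_mul, hg, hx, mono_mul hF h.two]
    congr 1
    funext j
    rw [one_mul]
  let f : X × (Equiv.Perm (Fin 2) × Bool × (Fin 2 → A4)) → PM h.two hF := fun r =>
    ⟨g r.1.1 * x r.2, _, pp r.2.1 (fun _ => r.2.2.1) r.2.2.2, fun j => hs _ _, pp_mem _ _ _, hrep r.1.1 r.2⟩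
  have hinj : Function.Injective f := by
    rintro ⟨⟨A, hA1⟩, q⟩ ⟨⟨A', hA1'⟩, q'⟩ heq
    have h1 : g A * x q = g A' * x q' := congrArg Subtype.val heq
    have h2 := congrArg (rep (inc (⇑Q))) h1
    rw [hrep, hrep] at h2
    have h3 := mono_uniq h.two hF (fun j => hs A _) h2
    obtain ⟨h4, h5, h6⟩ := pp_inj fun j => (h3 j).1
    have hq : q = q' := Prod.ext h4 (Prod.ext h5 h6)
    subst hq
    have h7 : ∀ j, s A j = s A' j := by
      intro j
      have h8 := (h3 ((pp q.1 (fun _ => q.2.1) q.2.2).symm j)).2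
      rwa [Equiv.apply_symm_apply] at h8
    have h9 : A = A' := by
      ext j
      by_cases hj : j = j₀
      · have hn : j₀ ∉ A := fun h10 => by
          have := Finset.mem_powerset.1 hA1 h10
          exact (Finset.mem_erase.1 this).1 rfl
        have hn' : j₀ ∉ A' := fun h10 => by
          have := Finset.mem_powerset.1 hA1' h10
          exact (Finset.mem_erase.1 this).1 rfl
        rw [hj]
        exact iff_of_false hn hn'
      · have h10 := h7 j
        rw [hA A j hj, hA A' j hj] at h10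
        have h11 := one_ne_neg h.two
        by_cases h12 : j ∈ A <;> by_cases h13 : j ∈ A'
        · exact iff_of_true h12 h13
        · rw [if_pos h12, if_neg h13] at h10
          exact absurd h10.symm h11
        · rw [if_neg h12, if_pos h13] at h10
          exact absurd h10 h11
        · exact iff_of_false h12 h13
    subst h9
    rfl
  have h1 := Nat.card_le_card_of_injective f hinj
  refine le_trans (le_of_eq ?_) h1
  have hX : Nat.card X = 2 ^ 7 := by
    rw [Nat.card_eq_fintype_card, Fintype.card_coe, Finset.card_powerset, Finset.card_erase_of_mem (Finset.mem_univ _),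
      Finset.card_univ]
    rfl
  rw [Nat.card_prod, hX, Nat.card_prod, Nat.card_prod, Nat.card_eq_fintype_card (α := Equiv.Perm (Fin 2)),
    Nat.card_eq_fintype_card (α := Bool), Nat.card_eq_fintype_card (α := Fin 2 → A4), Fintype.card_perm, Fintype.card_fin,
    Fintype.card_bool, Fintype.card_fun, Fintype.card_fin, show Fintype.card A4 = 4 from rfl]
  norm_num [Nat.factorial]

seal _root_.Finset.sum _root_.dotProduct in
seal _root_.Subgroup.toGroup _root_.Units.instGroup in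
theorem mk_eq_one {g : Cfsg.Omega F (⇑Q)} :
    (QuotientGroup.mk g : Cfsg.POmega F (⇑Q)) = 1 ↔ g ∈ Subgroup.center (Cfsg.Omega F (⇑Q)) :=
  QuotientGroup.eq_one_iff g

/-- 2-elements modulo the centre are 2-elements -/
theorem two_of_mk (h : Q8 Q) {x : Cfsg.Omega F (⇑Q)} {k : ℕ}
    (hx : (QuotientGroup.mk x : Cfsg.POmega F (⇑Q)) ^ 2 ^ k = 1) : x ^ 2 ^ (k + 1) = 1 := by
  have h1 : x ^ 2 ^ k ∈ Subgroup.center (Cfsg.Omega F (⇑Q)) := by
    rw [← mk_eq_one, QuotientGroup.mk_pow]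
    exact hx
  rw [pow_succ, pow_mul, pow_two]
  exact center_sq h h1

/-- `PMS` is a maximal 2-subgroup -/
theorem PMS_max [Finite F] (h : Q8 Q) (hF : Frame (polarBilin Q) E) (h14 : ¬ 2 ^ 14 ∣ Nat.card (Cfsg.Omega F (⇑Q)))
    (R : Subgroup (Cfsg.POmega F (⇑Q))) (hR : IsPGroup 2 R) (hle : PMS h.two hF ≤ R) : R ≤ PMS h.two hF := by
  have hfin : Finite (Cfsg.Omega F (⇑Q)) := inferInstance
  have : Fact (Nat.Prime 2) := ⟨Nat.prime_two⟩
  set R' : Subgroup (Cfsg.Omega F (⇑Q)) := R.comap (QuotientGroup.mk' (Subgroup.center (Cfsg.Omega F (⇑Q)))) with hR'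
  have hPR : PM h.two hF ≤ R' := by
    intro x hx
    exact hle ⟨x, hx, rfl⟩
  have hR'2 : IsPGroup 2 R' := by
    rintro ⟨x, hx⟩
    obtain ⟨k, hk⟩ := hR ⟨QuotientGroup.mk x, hx⟩
    refine ⟨k + 1, Subtype.ext ?_⟩
    show x ^ 2 ^ (k + 1) = 1
    exact two_of_mk h (congrArg Subtype.val hk)
  obtain ⟨m, hm⟩ := hR'2.exists_card_eq
  have hm13 : m ≤ 13 := by
    by_contra hcon
    push Not at hcon
    apply h14
    refine dvd_trans (pow_dvd_pow 2 (show 14 ≤ m by omega)) ?_
    rw [← hm]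
    exact Subgroup.card_subgroup_dvd_card R'
  have hcard : Nat.card R' ≤ Nat.card (PM h.two hF) := by
    rw [hm]
    exact le_trans (Nat.pow_le_pow_right (by norm_num) hm13) (card_PM h hF)
  have heq : PM h.two hF = R' := Subgroup.eq_of_le_of_card_ge hPR hcard
  intro x hx
  obtain ⟨g, rfl⟩ := QuotientGroup.mk_surjective x
  refine ⟨g, ?_, rfl⟩
  rw [SetLike.mem_coe, heq]
  exact hx

theorem mk_comm {a b : Cfsg.Omega F (⇑Q)} {ε : F}
    (hab : ∀ u, rep (inc (⇑Q)) (a * b) u = ε • rep (inc (⇑Q)) (b * a) u) :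
    (QuotientGroup.mk a : Cfsg.POmega F (⇑Q)) * QuotientGroup.mk b = QuotientGroup.mk b * QuotientGroup.mk a := by
  show (QuotientGroup.mk (a * b) : Cfsg.POmega F (⇑Q)) = QuotientGroup.mk (b * a)
  symm
  rw [QuotientGroup.eq]
  apply mem_center_of (a := ε)
  intro u
  rw [mul_ap, hab, map_smul, inv_ap]

theorem eq_one_of_odd {G : Type*} [Group G] {c : G} {n : ℕ} (hn : Odd n) (hc : c ^ n = 1) (h2 : c * c = 1) : c = 1 := by
  obtain ⟨k, rfl⟩ := hn
  rw [pow_succ, pow_mul, pow_two, h2, one_pow, one_mul] at hc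
  exact hc

seal _root_.Finset.sum _root_.dotProduct in
seal _root_.Units.instGroup in
/-- commuting modulo the centre and odd order -/
theorem comm_odd (h : Q8 Q) {a b : Cfsg.Omega F (⇑Q)}
    (hab : (QuotientGroup.mk a : Cfsg.POmega F (⇑Q)) * QuotientGroup.mk b = QuotientGroup.mk b * QuotientGroup.mk a)
    {n : ℕ} (hn : Odd n) (han : a ^ n = 1) : a * b = b * a := by
  have h1 : (b * a)⁻¹ * (a * b) ∈ Subgroup.center (Cfsg.Omega F (⇑Q)) := QuotientGroup.eq.1 hab.symm
  set c := (b * a)⁻¹ * (a * b) with hc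
  have h2 : b⁻¹ * a * b = a * c := by rw [hc]; group
  have h3 : (b⁻¹ * a * b) ^ n = 1 := by
    have h4 : (b⁻¹ * a * b) ^ n = b⁻¹ * a ^ n * b := by
      have := conj_pow (i := n) (a := b⁻¹) (b := a)
      rw [inv_inv] at this
      exact this
    rw [h4, han]
    group
  have hcomm : Commute a c := (Subgroup.mem_center_iff.1 h1 a)
  rw [h2, hcomm.mul_pow, han, one_mul] at h3
  have h5 : c = 1 := eq_one_of_odd hn h3 (center_sq h h1)
  have h6 : a * b = b * a * c := by rw [hc]; group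
  rw [h6, h5, mul_one]

theorem s0_pp {σ : Equiv.Perm (Fin 2 × A4)} (hσ : σ ∈ PP) : ∃ ε : F, ∀ j, s0 F (σ j) = ε * s0 F j := by
  obtain ⟨τ, b, c, hσ⟩ := hσ
  have hτ : (∀ k, τ k = k) ∨ (∀ k, (τ k = 0 ↔ ¬ k = 0)) := by
    clear hσ
    revert τ
    decide
  rcases hτ with hτ | hτ
  · refine ⟨1, ?_⟩
    rintro ⟨k, a⟩
    rw [hσ, one_mul, s0, s0]
    dsimp only
    rw [hτ]
  · refine ⟨-1, ?_⟩
    rintro ⟨k, a⟩
    rw [hσ, s0, s0]
    dsimp only
    by_cases hk : k = 0
    · rw [if_pos hk, if_neg (fun h1 => (hτ k).1 h1 hk)]; ring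
    · rw [if_neg hk, if_pos ((hτ k).2 hk)]; ring

theorem z_mem (h : Q8 Q) (hF : Frame (polarBilin Q) E) {z : Cfsg.Omega F (⇑Q)} (hz : IsZ Q E z) : z ∈ PM h.two hF :=
  ⟨_, 1, fun j => s0_sq j, PP.one_mem, hz⟩

theorem v_mem (h : Q8 Q) (hF : Frame (polarBilin Q) E) {v : Cfsg.Omega F (⇑Q)} (hv : IsV Q E v) : v ∈ PM h.two hF :=
  ⟨_, 1, fun j => chi_sq j, PP.one_mem, hv⟩

theorem diag_comm (h : Q8 Q) (hF : Frame (polarBilin Q) E) {a b : Cfsg.Omega F (⇑Q)} {s t : Fin 2 × A4 → F}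
    (ha : rep (inc (⇑Q)) a = mono (polarBilin Q) E s id) (hb : rep (inc (⇑Q)) b = mono (polarBilin Q) E t id) :
    a * b = b * a := by
  apply rep_inj
  rw [map_mul, map_mul, ha, hb, mono_mul hF h.two, mono_mul hF h.two]
  congr 1
  funext j
  exact mul_comm _ _

theorem diag_sq (h : Q8 Q) (hF : Frame (polarBilin Q) E) {a : Cfsg.Omega F (⇑Q)} {s : Fin 2 × A4 → F}
    (hs : ∀ j, s j * s j = 1) (ha : rep (inc (⇑Q)) a = mono (polarBilin Q) E s id) : a * a = 1 := by
  apply rep_inj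
  rw [map_mul, ha, mono_mul hF h.two, map_one]
  exact mono_one hF h.two (fun j => hs j) fun _ => rfl

/-- diagonal elements in the centre have constant signs -/
theorem diag_center (h : Q8 Q) (hF : Frame (polarBilin Q) E) {a : Cfsg.Omega F (⇑Q)} {s : Fin 2 × A4 → F}
    (ha : rep (inc (⇑Q)) a = mono (polarBilin Q) E s id) (hc : a ∈ Subgroup.center (Cfsg.Omega F (⇑Q))) (i j) :
    s i = s j := by
  obtain ⟨ε, -, -, hu⟩ := rep_center h hc
  have key : ∀ i, s i = ε := by
    intro i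
    have h1 := hu (E i)
    rw [ha, mono_e hF h.two] at h1
    have h2 := congrArg (polarBilin Q (E i)) h1
    rw [map_smul, map_smul, show E (id i) = E i from rfl, hF.self, smul_eq_mul, smul_eq_mul] at h2
    exact mul_right_cancel₀ h.two h2
  rw [key, key]

seal _root_.Finset.sum _root_.dotProduct in
/-- the hypotheses of the abstract theorem -/
theorem hyp [Finite F] (h : Q8 Q) (hZ : BoxZ Q) (hF : Frame (polarBilin Q) E) {z v : Cfsg.Omega F (⇑Q)}
    (hz : IsZ Q E z) (hv : IsV Q E v) (h14 : ¬ 2 ^ 14 ∣ Nat.card (Cfsg.Omega F (⇑Q))) :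
    Hyp (PMS h.two hF) (QuotientGroup.mk z : Cfsg.POmega F (⇑Q)) (QuotientGroup.mk v) := by
  have hfin : Finite (Cfsg.Omega F (⇑Q)) := inferInstance
  have h11 := one_ne_neg h.two
  have hzz : z * z = 1 := diag_sq h hF s0_sq hz
  have hvv : v * v = 1 := diag_sq h hF chi_sq hv
  have hzv : z * v = v * z := diag_comm h hF hz hv
  have hz1 : z ∉ Subgroup.center (Cfsg.Omega F (⇑Q)) := by
    intro hc
    have h1 := diag_center h hF hz hc (0, (0, 0)) (1, (0, 0))
    have h2 : (-1 : F) = 1 := h1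
    exact h11 h2.symm
  have hv1 : v ∉ Subgroup.center (Cfsg.Omega F (⇑Q)) := by
    intro hc
    have h1 := diag_center h hF hv hc (0, (0, 0)) (0, (0, 1))
    have h2 : (1 : F) = -1 := h1
    exact h11 h2
  have hvz1 : v * z ∉ Subgroup.center (Cfsg.Omega F (⇑Q)) := by
    intro hc
    have h0 : rep (inc (⇑Q)) (v * z) = mono (polarBilin Q) E (fun j => s0 F j * chi F j) id := by
      rw [map_mul, hv, hz, mono_mul hF h.two]
      rfl
    have h1 := diag_center h hF h0 hc (0, (0, 0)) (0, (0, 1))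
    have h2 : (-1 : F) * 1 = -1 * -1 := h1
    apply h11
    linear_combination -h2
  have hmz : (QuotientGroup.mk z : Cfsg.POmega F (⇑Q)) * QuotientGroup.mk z = 1 := by
    show (QuotientGroup.mk (z * z) : Cfsg.POmega F (⇑Q)) = 1
    rw [hzz]; rfl
  have hmv : (QuotientGroup.mk v : Cfsg.POmega F (⇑Q)) * QuotientGroup.mk v = 1 := by
    show (QuotientGroup.mk (v * v) : Cfsg.POmega F (⇑Q)) = 1
    rw [hvv]; rfl
  have hne1 : (QuotientGroup.mk z : Cfsg.POmega F (⇑Q)) ≠ 1 := fun h1 => hz1 (mk_eq_one.1 h1)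
  have hne2 : (QuotientGroup.mk v : Cfsg.POmega F (⇑Q)) ≠ 1 := fun h1 => hv1 (mk_eq_one.1 h1)
  have hne3 : (QuotientGroup.mk v : Cfsg.POmega F (⇑Q)) ≠ QuotientGroup.mk z := by
    intro h1
    apply hvz1
    rw [← mk_eq_one]
    show (QuotientGroup.mk v : Cfsg.POmega F (⇑Q)) * QuotientGroup.mk z = 1
    rw [h1, hmz]
  have hzm : (QuotientGroup.mk z : Cfsg.POmega F (⇑Q)) ∈ PMS h.two hF := ⟨z, z_mem h hF hz, rfl⟩
  have hvm : (QuotientGroup.mk v : Cfsg.POmega F (⇑Q)) ∈ PMS h.two hF := ⟨v, v_mem h hF hv, rfl⟩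
  have htwo : IsPGroup 2 (PMS h.two hF) := (PM_isPGroup h.two hF).map _
  refine ⟨htwo, PMS_max h hF h14, hzm, hne1, hmz, ?_, ?_, ?_, ?_, ?_⟩
  · -- `z` is central in `PMS`
    rintro _ ⟨g, ⟨s, σ, hs, hσ, hg⟩, rfl⟩
    obtain ⟨ε, hε⟩ := s0_pp (F := F) hσ
    symm
    refine mk_comm (a := z) (b := g) (ε := ε) fun u => ?_
    have h1 : rep (inc (⇑Q)) (z * g) = ε • rep (inc (⇑Q)) (g * z) := by
      rw [map_mul, map_mul, hz, hg, mono_mul hF h.two, mono_mul hF h.two]
      refine ext8 h hF fun j => ?_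
      rw [mono_e hF h.two, LinearMap.smul_apply, mono_e hF h.two, smul_smul]
      congr 1
      show s j * s0 F (σ j) = ε * (s0 F j * s j)
      rw [hε]; ring
    rw [h1, LinearMap.smul_apply]
  · -- the centraliser of `PMS`
    intro w hw
    obtain ⟨g, rfl⟩ := QuotientGroup.mk_surjective w
    have h1 := (hZ h E hF).2 z g hz fun x hx => by
      have h2 : (QuotientGroup.mk x : Cfsg.POmega F (⇑Q)) * QuotientGroup.mk g = QuotientGroup.mk g * QuotientGroup.mk x :=
        hw _ ⟨x, hx, rfl⟩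
      rw [← mk_eq_one]
      show (QuotientGroup.mk g : Cfsg.POmega F (⇑Q)) * QuotientGroup.mk x * (QuotientGroup.mk g)⁻¹ *
        (QuotientGroup.mk x)⁻¹ = 1
      simp only [← h2]
      group
    rcases h1 with h1 | h1
    · exact Or.inl (mk_eq_one.2 h1)
    · right
      rw [← mk_eq_one] at h1
      have h2 : (QuotientGroup.mk g : Cfsg.POmega F (⇑Q)) * (QuotientGroup.mk z)⁻¹ = 1 := h1
      exact mul_inv_eq_one.1 h2
  · -- the order
    have h1 : ({1, QuotientGroup.mk z, QuotientGroup.mk v} : Set (Cfsg.POmega F (⇑Q))).ncard = 3 := by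
      rw [Set.ncard_eq_three]
      exact ⟨_, _, _, hne1.symm, hne2.symm, hne3.symm, rfl⟩
    have h2 : ({1, QuotientGroup.mk z, QuotientGroup.mk v} : Set (Cfsg.POmega F (⇑Q))) ⊆ (PMS h.two hF : Set _) := by
      rintro x (rfl | rfl | rfl)
      · exact (PMS h.two hF).one_mem
      · exact hzm
      · exact hvm
    have h3 := Set.ncard_le_ncard h2 (Set.toFinite _)
    rw [h1] at h3
    exact h3
  · -- the monomial argument
    rintro _ ⟨g, ⟨s, σ, hs, hσ, hg⟩, rfl⟩ hw1 hwz hall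
    have hstar : ∀ x ∈ PM h.two hF, ∃ κ : Fin 2 → F, (∀ k, κ k * κ k = 1) ∧
        rep (inc (⇑Q)) (x * g) = mono (polarBilin Q) E (fun j => κ j.1) id * rep (inc (⇑Q)) (g * x) := by
      intro x hx
      apply star h hF hz
      rcases hall (QuotientGroup.mk x) ⟨x, hx, rfl⟩ with h1 | h1
      · left
        exact mul_inv_eq_iff_eq_mul.1 h1
      · right
        have h2 := mul_inv_eq_iff_eq_mul.1 h1
        rw [mul_assoc] at h2
        exact h2
    have h1 : ∀ j, σ j = j := perm_trivial h hF hs hg fun i j hij t ht => hstar t (sg_mem_PM h.two hF ht)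
    have hg' : rep (inc (⇑Q)) g = mono (polarBilin Q) E s id := by
      rw [hg]
      congr 1
      funext j
      exact h1 j
    have h2 := signs h hF hz hv hs hg' fun τ b c x hx => hstar x (perm_mem_PM h.two hF (pp_mem _ _ _) hx)
    have hinvz : (QuotientGroup.mk z : Cfsg.POmega F (⇑Q))⁻¹ = QuotientGroup.mk z := (inv_eq_of_mul_eq_one_right hmz :)
    have hinvv : (QuotientGroup.mk v : Cfsg.POmega F (⇑Q))⁻¹ = QuotientGroup.mk v := inv_eq_of_mul_eq_one_right hmv
    rcases h2 with (h2 | h2) | (h2 | h2)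
    · exact absurd (mk_eq_one.2 h2) hw1
    · rw [← mk_eq_one] at h2
      have h3 : (QuotientGroup.mk g : Cfsg.POmega F (⇑Q)) * QuotientGroup.mk z = 1 := h2
      exact absurd ((eq_inv_of_mul_eq_one_left h3).trans hinvz) hwz
    · left
      rw [← mk_eq_one] at h2
      have h3 : (QuotientGroup.mk g : Cfsg.POmega F (⇑Q)) * QuotientGroup.mk v = 1 := h2
      exact (eq_inv_of_mul_eq_one_left h3).trans hinvv
    · right
      rw [← mk_eq_one] at h2
      have h3 : (QuotientGroup.mk g : Cfsg.POmega F (⇑Q)) * QuotientGroup.mk v * QuotientGroup.mk z = 1 := h2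
      have h4 := eq_inv_of_mul_eq_one_left h3
      rw [hinvz] at h4
      have h5 := eq_mul_inv_of_mul_eq h4
      rw [hinvv] at h5
      exact h5
  · -- elements of odd order
    intro y n hn hyn hyz hyv hr
    obtain ⟨g, rfl⟩ := QuotientGroup.mk_surjective y
    have h1 : g ^ n ∈ Subgroup.center (Cfsg.Omega F (⇑Q)) := by
      rw [← mk_eq_one, QuotientGroup.mk_pow]
      exact hyn
    set y := g ^ (n + 1) with hy
    have hmk : (QuotientGroup.mk y : Cfsg.POmega F (⇑Q)) = QuotientGroup.mk g := by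
      rw [hy, QuotientGroup.mk_pow, pow_succ, hyn, one_mul]
    have hyn1 : y ^ n = 1 := by
      obtain ⟨k, hk⟩ := hn
      have h2 : y ^ n = (g ^ n * g ^ n) ^ (k + 1) := by
        rw [hy, ← pow_mul, ← pow_add, ← pow_mul]
        congr 1
        rw [hk]; ring
      rw [h2, center_sq h h1, one_pow]
    rw [← hmk] at hyz hyv hr ⊢
    have h2 := comm_odd h hyz hn hyn1
    have h3 := comm_odd h hyv hn hyn1
    have h4 : y = 1 := by
      refine odd_trivial h hF hz hv h2 h3 hn hyn1 fun i j hij t ht => ?_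
      have htm : (QuotientGroup.mk t : Cfsg.POmega F (⇑Q)) ∈ PMS h.two hF := ⟨t, sg_mem_PM h.two hF ht, rfl⟩
      have htv : (QuotientGroup.mk t : Cfsg.POmega F (⇑Q)) * QuotientGroup.mk v = QuotientGroup.mk v * QuotientGroup.mk t := by
        show (QuotientGroup.mk (t * v) : Cfsg.POmega F (⇑Q)) = QuotientGroup.mk (v * t)
        rw [diag_comm h hF ht hv]
      have h5 := (PMS h.two hF).mul_mem (hr _ htm htv) ((PMS h.two hF).inv_mem htm)
      obtain ⟨k, hk⟩ := htwo ⟨_, h5⟩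
      have h6 := congrArg Subtype.val hk
      exact ⟨k + 1, two_of_mk h (x := y * t * y⁻¹ * t⁻¹) h6⟩
    rw [h4]
    rfl

/-- **BOX D4** -/
theorem boxD4 [Finite F] (hN : BoxN Q) (hZ : BoxZ Q) : BoxD4 Q := by
  intro h E hF z hz h14
  have hfin : Finite (Cfsg.Omega F (⇑Q)) := inferInstance
  obtain ⟨v, hv⟩ := exists_v h hF
  have H := hyp h hZ hF hz hv h14
  rw [Set.encard_le_one_iff]
  rintro M M' ⟨h1, h2, h3⟩ ⟨h1', h2', h3'⟩
  exact Ov.unique H ⟨h1, h2, h3⟩ ⟨h1', h2', h3'⟩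

end Cfsg.Agent.H778.D4
end

-- part: H473/D4/BoxZ
section
/-!
# S4311, the row `PΩ₈⁺(q)`: BOX Z (helper473)
-/

set_option autoImplicit false
set_option linter.unusedSectionVars false

namespace Cfsg.Agent.H473.D4

open Module QuadraticMap Cfsg.Agent.H167.OP Cfsg.Agent.H170.HL Cfsg.Agent.H170.HL.OmRow Cfsg.Agent.H556.Om
open Cfsg Subgroup Cfsg.Agent.H485.RV Cfsg.Agent.H561.RV Cfsg.Agent.H561.D4

variable {F : Type} [Field F] {ι : Type} [Fintype ι] [DecidableEq ι] {Q : QuadraticForm F (ι → F)}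
  {E : Fin 2 × A4 → ι → F}

/-- weaker hypotheses -/
structure Q7 (Q : QuadraticForm F (ι → F)) : Prop where
  two : (2 : F) ≠ 0
  gq : GoodQ Q
  dim : Fintype.card ι = 8

theorem q7 (h : Q8 Q) : Q7 Q := ⟨h.two, h.gq, h.dim⟩

/-- the centre of `Omega` -/
theorem mem_cen (h : Q7 Q) (g : Cfsg.Omega F (⇑Q)) :
    g ∈ Subgroup.center (Cfsg.Omega F (⇑Q)) ↔ rep (inc (⇑Q)) g = 1 ∨ rep (inc (⇑Q)) g = -1 := by
  rw [Cfsg.Agent.LieClassical.OmegaCenter.mem_center_omega_iff Q h.gq.nd h.gq.card h.gq.sing]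
  have h1 : rep (inc (⇑Q)) g = (Matrix.toLinAlgEquiv' : Matrix ι ι F ≃ₐ[F] Module.End F (ι → F)) (inc (⇑Q) g) := rfl
  have h2 : ∀ M : Matrix ι ι F, rep (inc (⇑Q)) g = (Matrix.toLinAlgEquiv' : Matrix ι ι F ≃ₐ[F] Module.End F (ι → F)) M ↔
      inc (⇑Q) g = M := by
    intro M
    rw [h1]
    exact (Matrix.toLinAlgEquiv' : Matrix ι ι F ≃ₐ[F] Module.End F (ι → F)).injective.eq_iff
  have h3 := h2 1
  have h4 := h2 (-1)
  rw [map_one] at h3
  rw [map_neg, map_one] at h4
  rw [h3, h4]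
  exact Iff.rfl

theorem card_idx : Fintype.card (Fin 2 × A4) = 8 := by decide

/-- a full frame spans -/
theorem frame_span (h : Q7 Q) (hF : Frame (polarBilin Q) E) : Submodule.span F (Set.range E) = ⊤ := by
  refine (hF.linearIndependent h.two).span_eq_top_of_card_eq_finrank' ?_
  rw [Module.finrank_fintype_fun_eq_card, h.dim, card_idx]

theorem orth_zero (h : Q7 Q) (hF : Frame (polarBilin Q) E) {w : ι → F} (hw : ∀ j, polarBilin Q (E j) w = 0) :
    w = 0 := by
  have h1 : ∀ u : ι → F, polarBilin Q u w = 0 := by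
    intro u
    have hu : u ∈ Submodule.span F (Set.range E) := by
      rw [frame_span h hF]
      trivial
    induction hu using Submodule.span_induction with
    | mem v hv =>
      obtain ⟨j, rfl⟩ := hv
      exact hw j
    | zero => rw [map_zero, LinearMap.zero_apply]
    | add v v' _ _ h1 h2 => rw [map_add, LinearMap.add_apply, h1, h2, add_zero]
    | smul c v _ h1 => rw [map_smul, LinearMap.smul_apply, h1, smul_zero]
  exact h.gq.nd.2 w h1

/-- linear maps agreeing on a full frame are equal -/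
theorem ext8 (h : Q7 Q) (hF : Frame (polarBilin Q) E) {φ ψ : Module.End F (ι → F)} (h1 : ∀ j, φ (E j) = ψ (E j)) :
    φ = ψ := by
  refine ext_frame hF h.two h1 fun w hw => ?_
  rw [orth_zero h hF hw, map_zero, map_zero]

theorem trace_sg (h : Q8 Q) (hF : Frame (polarBilin Q) E) {i j : Fin 2 × A4} (hij : i ≠ j) :
    LinearMap.trace F (ι → F) (mono (polarBilin Q) E (H556.Om.sg F i j) id) = 4 := by
  unfold mono
  rw [map_add, map_sum, LinearMap.trace_one, Module.finrank_fintype_fun_eq_card, h.dim]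
  have h1 : ∀ k : Fin 2 × A4, LinearMap.trace F (ι → F) ((polarBilin Q (E k)).smulRight
      ((2 : F)⁻¹ • (H556.Om.sg F i j k • E (id k) - E k))) = (if k = i then (-2 : F) else 0) + if k = j then (-2 : F) else 0 := by
    intro k
    rw [LinearMap.trace_smulRight, map_smul, map_sub, map_smul, id, hF.self, smul_eq_mul, smul_eq_mul]
    have h2 : (2 : F)⁻¹ * (H556.Om.sg F i j k * 2 - 2) = H556.Om.sg F i j k - 1 := by
      field_simp [h.two]
    rw [h2]
    unfold H556.Om.sg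
    by_cases hi : k = i
    · have hj : k ≠ j := fun hj => hij (hi.symm.trans hj)
      simp only [hi, true_or, if_true]
      rw [if_neg hij]
      ring
    · by_cases hj : k = j
      · simp only [hj, or_true, if_true]
        rw [if_neg (Ne.symm hij)]
        ring
      · rw [if_neg (by tauto), if_neg hi, if_neg hj]
        ring
  rw [Finset.sum_congr rfl fun k _ => h1 k, Finset.sum_add_distrib, Finset.sum_ite_eq', Finset.sum_ite_eq',
    if_pos (Finset.mem_univ _), if_pos (Finset.mem_univ _)]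
  norm_num

theorem rep_mul (g x : Cfsg.Omega F (⇑Q)) (v : ι → F) :
    rep (inc (⇑Q)) (g * x) v = rep (inc (⇑Q)) g (rep (inc (⇑Q)) x v) := by
  rw [map_mul, Module.End.mul_apply]

/-- an element commuting with the sign changes modulo the centre commutes with them -/
theorem comm_sg (h : Q8 Q) (hF : Frame (polarBilin Q) E) {i j : Fin 2 × A4} (hij : i ≠ j)
    {g x : Cfsg.Omega F (⇑Q)} (hx : rep (inc (⇑Q)) x = mono (polarBilin Q) E (H556.Om.sg F i j) id)
    (hg : g * x * g⁻¹ * x⁻¹ ∈ Subgroup.center (Cfsg.Omega F (⇑Q))) : g * x = x * g := by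
  have h1 : g * x * g⁻¹ = (g * x * g⁻¹ * x⁻¹) * x := by group
  rcases (mem_cen (q7 h) _).1 hg with h2 | h2
  · have h3 : g * x * g⁻¹ * x⁻¹ = 1 := rep_inj (by rw [h2, map_one])
    rw [h3, one_mul] at h1
    exact mul_inv_eq_iff_eq_mul.1 h1
  · exfalso
    have h3 : rep (inc (⇑Q)) g * rep (inc (⇑Q)) x * rep (inc (⇑Q)) g⁻¹ = - rep (inc (⇑Q)) x := by
      rw [← map_mul, ← map_mul, h1, map_mul, h2]
      exact neg_one_mul (rep (inc (⇑Q)) x)
    have h4 : LinearMap.trace F (ι → F) (rep (inc (⇑Q)) g * rep (inc (⇑Q)) x * rep (inc (⇑Q)) g⁻¹) =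
        LinearMap.trace F (ι → F) (rep (inc (⇑Q)) x) := by
      rw [LinearMap.trace_mul_comm, ← mul_assoc, ← map_mul, inv_mul_cancel, map_one, one_mul]
    rw [h3, map_neg, hx, trace_sg h hF hij] at h4
    have h5 : (2 : F) * (2 * 2) = 0 := by linear_combination -h4
    have h6 := h.two
    simp [h6] at h5

/-- the diagonal form -/
theorem exists_diag (h : Q8 Q) (hF : Frame (polarBilin Q) E) {g : Cfsg.Omega F (⇑Q)}
    (hg : ∀ x ∈ PM h.two hF, g * x * g⁻¹ * x⁻¹ ∈ Subgroup.center (Cfsg.Omega F (⇑Q))) :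
    ∃ s : Fin 2 × A4 → F, (∀ j, s j * s j = 1) ∧ ∀ j, rep (inc (⇑Q)) g (E j) = s j • E j := by
  have key : ∀ j : Fin 2 × A4, ∃ c : F, rep (inc (⇑Q)) g (E j) = c • E j := by
    intro j
    refine ⟨(2 : F)⁻¹ * polarBilin Q (E j) (rep (inc (⇑Q)) g (E j)), ?_⟩
    rw [← sub_eq_zero]
    refine orth_zero (q7 h) hF fun k => ?_
    rw [map_sub, map_smul, smul_eq_mul]
    by_cases hkj : k = j
    · subst hkj
      rw [hF.self]
      field_simp [h.two]
      ring
    · rw [hF.orth k j hkj, mul_zero, sub_zero]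
      -- choose `i` different from `j, k`
      obtain ⟨i, hij, hik⟩ : ∃ i : Fin 2 × A4, i ≠ j ∧ i ≠ k := by
        clear * -
        revert j k
        decide +kernel
      obtain ⟨x, hx⟩ := exists_sg h.gq h.two hF hij.symm
      have h1 := comm_sg h hF hij.symm hx (hg x (sg_mem_PM h.two hF hx))
      have h2 := congrArg (fun y : Cfsg.Omega F (⇑Q) => rep (inc (⇑Q)) y (E j)) h1
      simp only [rep_mul] at h2
      rw [hx, mono_e hF h.two] at h2
      have h3 : H556.Om.sg F j i j = -1 := by simp [H556.Om.sg]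
      rw [h3, id, map_smul] at h2
      -- pair with `E k`
      have h4 := congrArg (fun v => polarBilin Q (E k) v) h2
      have h5 : mono (polarBilin Q) E (H556.Om.sg F j i) id (E k) = E k := by
        rw [mono_e hF h.two]
        have : H556.Om.sg F j i k = 1 := by
          unfold H556.Om.sg
          rw [if_neg]
          rintro (h | h)
          · exact hkj h
          · exact hik h.symm
        rw [this, one_smul, id]
      have h6 : polarBilin Q (E k) (mono (polarBilin Q) E (H556.Om.sg F j i) id (rep (inc (⇑Q)) g (E j))) =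
          polarBilin Q (E k) (rep (inc (⇑Q)) g (E j)) := by
        conv_lhs => rw [← h5, ← hx]
        exact polar_omega x _ _
      rw [h6, map_smul, smul_eq_mul] at h4
      have h7 : (2 : F) * polarBilin Q (E k) (rep (inc (⇑Q)) g (E j)) = 0 := by linear_combination -h4
      exact (mul_eq_zero.1 h7).resolve_left h.two
  choose s hs using key
  refine ⟨s, fun j => ?_, hs⟩
  have h1 := polar_omega g (E j) (E j)
  rw [hs j, map_smul, map_smul, LinearMap.smul_apply, hF.self, smul_eq_mul, smul_eq_mul] at h1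
  have h2 : (2 : F) * (s j * s j - 1) = 0 := by linear_combination h1
  exact sub_eq_zero.1 ((mul_eq_zero.1 h2).resolve_left h.two)

theorem exists_z (h : Q8 Q) (hF : Frame (polarBilin Q) E) : ∃ z, IsZ Q E z := by
  have h01 : ((0, (0, 0)) : Fin 2 × A4) ≠ (0, (0, 1)) := by decide
  have h23 : ((0, (1, 0)) : Fin 2 × A4) ≠ (0, (1, 1)) := by decide
  obtain ⟨x, hx⟩ := exists_sg h.gq h.two hF h01
  obtain ⟨y, hy⟩ := exists_sg h.gq h.two hF h23
  refine ⟨x * y, ?_⟩
  show rep (inc (⇑Q)) (x * y) = _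
  rw [map_mul, hx, hy, mono_mul hF h.two]
  congr 1
  funext a
  have h8 : ∀ a : Fin 2 × A4, (a.1 = 0 ↔ (a = (0, (0, 0)) ∨ a = (0, (0, 1))) ∨ (a = (0, (1, 0)) ∨ a = (0, (1, 1)))) ∧
      ¬ ((a = (0, (0, 0)) ∨ a = (0, (0, 1))) ∧ (a = (0, (1, 0)) ∨ a = (0, (1, 1)))) := by decide
  obtain ⟨h9, h10⟩ := h8 a
  simp only [H556.Om.sg, s0, id]
  by_cases h11 : a = (0, (0, 0)) ∨ a = (0, (0, 1))
  · rw [if_neg (fun h => h10 ⟨h11, h⟩), if_pos h11, if_pos (h9.2 (Or.inl h11)), one_mul]
  · by_cases h12 : a = (0, (1, 0)) ∨ a = (0, (1, 1))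
    · rw [if_pos h12, if_neg h11, if_pos (h9.2 (Or.inr h12)), mul_one]
    · rw [if_neg h12, if_neg h11, if_neg (fun h => (h9.1 h).elim h11 h12), mul_one]

/-- the signs are constant on the blocks -/
theorem sign_const (h : Q8 Q) (hF : Frame (polarBilin Q) E) {g : Cfsg.Omega F (⇑Q)}
    (hg : ∀ x ∈ PM h.two hF, g * x * g⁻¹ * x⁻¹ ∈ Subgroup.center (Cfsg.Omega F (⇑Q)))
    {s : Fin 2 × A4 → F} (hs : ∀ j, rep (inc (⇑Q)) g (E j) = s j • E j) (k : Fin 2) (c : A4) :
    s (k, c) = s (k, 0) := by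
  -- translation by `c` of the block `k`
  set σ := pp 1 (fun _ => false) (fun l => if l = k then c else 0) with hσ
  have h1 : Equiv.Perm.sign σ = 1 := sign_pp 1 false _
  obtain ⟨x, hx⟩ := exists_perm h.gq h.two hF h1
  have hxP : x ∈ PM h.two hF := perm_mem_PM h.two hF (pp_mem _ _ _) hx
  have h2 := hg x hxP
  have hE : ∀ j, E j ≠ 0 := by
    intro j hj
    have h3 := hF.self j
    rw [hj, map_zero] at h3
    exact h.two h3.symm
  have hsc : ∀ (j : Fin 2 × A4) {a b : F}, a • E j = b • E j → a = b := by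
    intro j a b hab
    have h3 := congrArg (fun v => polarBilin Q (E j) v) hab
    simp only [map_smul, hF.self, smul_eq_mul] at h3
    exact mul_right_cancel₀ h.two h3
  have hxe : ∀ j, rep (inc (⇑Q)) x (E j) = E (σ j) := fun j => by rw [hx, mono_e hF h.two, one_smul]
  have h3 : g * x = (g * x * g⁻¹ * x⁻¹) * (x * g) := by group
  obtain ⟨ε, hε⟩ : ∃ ε : F, ∀ v, rep (inc (⇑Q)) (g * x * g⁻¹ * x⁻¹) v = ε • v := by
    rcases (mem_cen (q7 h) _).1 h2 with h4 | h4
    · exact ⟨1, fun v => by rw [h4, one_smul, Module.End.one_apply]⟩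
    · exact ⟨-1, fun v => by rw [h4, neg_one_smul, LinearMap.neg_apply, Module.End.one_apply]⟩
  have h4 : ∀ j, s (σ j) = ε * s j := by
    intro j
    have h5 := congrArg (fun y : Cfsg.Omega F (⇑Q) => rep (inc (⇑Q)) y (E j)) h3
    simp only [rep_mul g x (E j), hxe j, hs (σ j), rep_mul, hε, rep_mul, hs, map_smul, hxe, smul_smul] at h5
    exact hsc _ h5
  have hs0 : ∀ j, s j ≠ 0 := by
    intro j hj
    have h5 := polar_omega g (E j) (E j)
    rw [hs, hj, zero_smul, map_zero, hF.self] at h5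
    exact h.two h5.symm
  -- `ε = 1`: a point of the other block is fixed
  have hε1 : ε = 1 := by
    obtain ⟨l, hl⟩ : ∃ l : Fin 2, l ≠ k := by
      clear * -
      revert k
      decide
    have h5 := h4 (l, 0)
    have h6 : σ (l, 0) = (l, 0) := by
      rw [hσ, pp_apply, if_neg hl]
      rfl
    rw [h6] at h5
    have h7 : (ε - 1) * s (l, 0) = 0 := by linear_combination -h5
    exact sub_eq_zero.1 ((mul_eq_zero.1 h7).resolve_right (hs0 _))
  have h5 := h4 (k, 0)
  have h6 : σ (k, 0) = (k, c) := by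
    rw [hσ, pp_apply, if_pos rfl]
    show (k, lin false 0 + c) = (k, c)
    rw [show lin false 0 = (0 : A4) from rfl, zero_add]
  rw [h6, hε1, one_mul] at h5
  exact h5

/-- **BOX Z** -/
theorem boxZ : BoxZ Q := by
  intro h E hF
  refine ⟨exists_z h hF, fun z g hz hg => ?_⟩
  obtain ⟨s, hs1, hs⟩ := exists_diag h hF hg
  have hc := sign_const h hF hg hs
  have hz' : ∀ j, rep (inc (⇑Q)) z (E j) = s0 F j • E j := fun j => by
    have : rep (inc (⇑Q)) z = mono (polarBilin Q) E (s0 F) id := hz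
    rw [this, mono_e hF h.two, id]
  have hz2 : ∀ j, rep (inc (⇑Q)) z⁻¹ (E j) = s0 F j • E j := by
    intro j
    have h1 : rep (inc (⇑Q)) z⁻¹ (rep (inc (⇑Q)) z (E j)) = E j := by
      rw [← rep_mul, inv_mul_cancel, map_one, Module.End.one_apply]
    rw [hz', map_smul] at h1
    have h2 : s0 F j * s0 F j = 1 := by
      unfold s0
      split_ifs <;> ring
    calc rep (inc (⇑Q)) z⁻¹ (E j) = (s0 F j * s0 F j) • rep (inc (⇑Q)) z⁻¹ (E j) := by rw [h2, one_smul]
      _ = s0 F j • (s0 F j • rep (inc (⇑Q)) z⁻¹ (E j)) := by rw [smul_smul]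
      _ = _ := by rw [h1]
  have hgz : ∀ j, rep (inc (⇑Q)) (g * z⁻¹) (E j) = (s0 F j * s j) • E j := by
    intro j
    rw [rep_mul, hz2, map_smul, hs, smul_smul]
  have e0 := mul_self_eq_one_iff.1 (hs1 (0, 0))
  have e1 := mul_self_eq_one_iff.1 (hs1 (1, 0))
  have hcase : ∀ j : Fin 2 × A4, (j.1 = 0 ∧ s j = s (0, 0)) ∨ (j.1 = 1 ∧ s j = s (1, 0)) := by
    rintro ⟨k, c⟩
    have hk : k = 0 ∨ k = 1 := by omega
    rcases hk with rfl | rfl
    · exact Or.inl ⟨rfl, hc 0 c⟩
    · exact Or.inr ⟨rfl, hc 1 c⟩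
  have n1 : ∀ v : ι → F, ((1 : Module.End F (ι → F)) v) = (1 : F) • v := fun v => by rw [one_smul, Module.End.one_apply]
  have n2 : ∀ v : ι → F, ((-1 : Module.End F (ι → F)) v) = (-1 : F) • v := fun v => by
    rw [neg_one_smul, LinearMap.neg_apply, Module.End.one_apply]
  rw [mem_cen (q7 h), mem_cen (q7 h)]
  rcases e0 with e0 | e0 <;> rcases e1 with e1 | e1
  · left; left
    refine ext8 (q7 h) hF fun j => ?_
    rw [hs, n1]
    rcases hcase j with h5 | h5
    · rw [h5.2, e0]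
    · rw [h5.2, e1]
  · right; right
    refine ext8 (q7 h) hF fun j => ?_
    rw [hgz, n2]
    rcases hcase j with h5 | h5
    · rw [h5.2, e0, s0, if_pos h5.1, mul_one]
    · rw [h5.2, e1, s0, if_neg (by rw [h5.1]; decide), one_mul]
  · right; left
    refine ext8 (q7 h) hF fun j => ?_
    rw [hgz, n1]
    rcases hcase j with h5 | h5
    · rw [h5.2, e0, s0, if_pos h5.1]
      congr 1
      ring
    · rw [h5.2, e1, s0, if_neg (by rw [h5.1]; decide), mul_one]
  · left; right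
    refine ext8 (q7 h) hF fun j => ?_
    rw [hs, n2]
    rcases hcase j with h5 | h5
    · rw [h5.2, e0]
    · rw [h5.2, e1]

end Cfsg.Agent.H473.D4
end

-- part: H473/D4/BoxN
section
/-!
# S4311, the row `PΩ₈⁺(q)`: BOX N and the standing hypotheses `Q8` (helper473)
-/

set_option autoImplicit false
set_option linter.unusedSectionVars false

namespace Cfsg.Agent.H473.D4

open Module QuadraticMap Cfsg.Agent.H167.OP Cfsg.Agent.H170.HL Cfsg.Agent.H170.HL.OmRow Cfsg.Agent.H556.Om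
open Cfsg Subgroup Cfsg.Agent.H485.RV Cfsg.Agent.H561.RV Cfsg.Agent.H561.D4
open Cfsg.Agent.LieClassical.OrthForms

/-! ### numbers -/

theorem fact_two {N A q : ℕ} (hq : q % 2 = 1) (hA : A + 1 = q ^ 2) (hA0 : A ≠ 0)
    (hN : N * 2 = q ^ 12 * A * (A * (A + 2)) ^ 2 * (A * (A ^ 2 + 3 * A + 3))) :
    3 ≤ A.factorization 2 ∧ N.factorization 2 = 4 * A.factorization 2 + 1 := by
  have h8 : 8 ∣ A := by
    obtain ⟨t, rfl⟩ : ∃ t, q = 2 * t + 1 := ⟨q / 2, by omega⟩
    obtain ⟨s, hs⟩ : 2 ∣ t * (t + 1) := (Nat.even_mul_succ_self t).two_dvd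
    refine ⟨s, ?_⟩
    have : (2 * t + 1) ^ 2 = 4 * (t * (t + 1)) + 1 := by ring
    rw [this, hs] at hA
    omega
  obtain ⟨k, rfl⟩ := h8
  have hk : k ≠ 0 := by rintro rfl; exact hA0 rfl
  have p2 := Nat.prime_two
  have f2 : (2 : ℕ).factorization 2 = 1 := p2.factorization_self
  have hodd : ∀ n : ℕ, n % 2 = 1 → n.factorization 2 = 0 := fun n hn =>
    Nat.factorization_eq_zero_of_not_dvd (by omega)
  have h1 : (8 * k + 2).factorization 2 = 1 := by
    have : 8 * k + 2 = 2 * (4 * k + 1) := by ring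
    rw [this, Nat.factorization_mul (by norm_num) (by omega), Finsupp.add_apply, f2, hodd _ (by omega)]
  have h2 : ((8 * k) ^ 2 + 3 * (8 * k) + 3).factorization 2 = 0 := hodd _ (by
    have : (8 * k) ^ 2 + 3 * (8 * k) + 3 = 2 * (32 * (k * k) + 12 * k + 1) + 1 := by ring
    omega)
  have hqf : q.factorization 2 = 0 := hodd q hq
  have hq0 : q ≠ 0 := by rintro rfl; simp at hq
  have hN0 : N ≠ 0 := by
    rintro rfl
    rw [zero_mul] at hN
    have h3 : q ^ 12 * (8 * k) * (8 * k * (8 * k + 2)) ^ 2 * (8 * k * ((8 * k) ^ 2 + 3 * (8 * k) + 3)) ≠ 0 := by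
      (clear * - hk hq0; positivity)
    exact h3 hN.symm
  refine ⟨(p2.pow_dvd_iff_le_factorization hA0).1 ⟨k, by norm_num⟩, ?_⟩
  have h3 := congrArg (fun n => n.factorization 2) hN
  rw [Nat.factorization_mul hN0 (by norm_num), Nat.factorization_mul (by (clear * - hk hq0; positivity)) (by positivity),
    Nat.factorization_mul (by positivity) (by positivity), Nat.factorization_mul (by positivity) (by positivity),
    Nat.factorization_pow, Nat.factorization_pow, Nat.factorization_mul hA0 (by omega),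
    Nat.factorization_mul hA0 (by positivity)] at h3
  simp only [Finsupp.add_apply, Finsupp.smul_apply, smul_eq_mul] at h3
  rw [f2, h1, h2, hqf] at h3
  omega

theorem fact_three {N A q : ℕ} (hq : q % 3 ≠ 0) (hA : A + 1 = q ^ 2) (hA0 : A ≠ 0)
    (hN : N * 2 = q ^ 12 * A * (A * (A + 2)) ^ 2 * (A * (A ^ 2 + 3 * A + 3))) :
    1 ≤ A.factorization 3 ∧ N.factorization 3 = 4 * A.factorization 3 + 1 := by
  have h3A : 3 ∣ A := by
    have h1 : q % 3 = 1 ∨ q % 3 = 2 := by omega
    rcases h1 with h1 | h1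
    · obtain ⟨t, rfl⟩ : ∃ t, q = 3 * t + 1 := ⟨q / 3, by omega⟩
      refine ⟨3 * (t * t) + 2 * t, ?_⟩
      have : (3 * t + 1) ^ 2 = 3 * (3 * (t * t) + 2 * t) + 1 := by ring
      rw [this] at hA
      omega
    · obtain ⟨t, rfl⟩ : ∃ t, q = 3 * t + 2 := ⟨q / 3, by omega⟩
      refine ⟨3 * (t * t) + 4 * t + 1, ?_⟩
      have : (3 * t + 2) ^ 2 = 3 * (3 * (t * t) + 4 * t + 1) + 1 := by ring
      rw [this] at hA
      omega
  obtain ⟨k, rfl⟩ := h3A
  have hk : k ≠ 0 := by rintro rfl; exact hA0 rfl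
  have p3 := Nat.prime_three
  have f3 : (3 : ℕ).factorization 3 = 1 := p3.factorization_self
  have hnd : ∀ n : ℕ, n % 3 ≠ 0 → n.factorization 3 = 0 := fun n hn =>
    Nat.factorization_eq_zero_of_not_dvd (by omega)
  have f2 : (2 : ℕ).factorization 3 = 0 := hnd 2 (by norm_num)
  have h1 : (3 * k + 2).factorization 3 = 0 := hnd _ (by omega)
  have h2 : ((3 * k) ^ 2 + 3 * (3 * k) + 3).factorization 3 = 1 := by
    have : (3 * k) ^ 2 + 3 * (3 * k) + 3 = 3 * (3 * (k * k) + 3 * k + 1) := by ring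
    rw [this, Nat.factorization_mul (by norm_num) (by omega), Finsupp.add_apply, f3, hnd _ (by omega)]
  have hqf : q.factorization 3 = 0 := hnd q hq
  have hq0 : q ≠ 0 := by rintro rfl; simp at hq
  have hN0 : N ≠ 0 := by
    rintro rfl
    rw [zero_mul] at hN
    have h3 : q ^ 12 * (3 * k) * (3 * k * (3 * k + 2)) ^ 2 * (3 * k * ((3 * k) ^ 2 + 3 * (3 * k) + 3)) ≠ 0 := by
      (clear * - hk hq0; positivity)
    exact h3 hN.symm
  refine ⟨(p3.dvd_iff_one_le_factorization hA0).1 ⟨k, rfl⟩, ?_⟩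
  have h3 := congrArg (fun n => n.factorization 3) hN
  rw [Nat.factorization_mul hN0 (by norm_num), Nat.factorization_mul (by (clear * - hk hq0; positivity)) (by positivity),
    Nat.factorization_mul (by positivity) (by positivity), Nat.factorization_mul (by positivity) (by positivity),
    Nat.factorization_pow, Nat.factorization_pow, Nat.factorization_mul hA0 (by omega),
    Nat.factorization_mul hA0 (by positivity)] at h3
  simp only [Finsupp.add_apply, Finsupp.smul_apply, smul_eq_mul] at h3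
  rw [f2, h1, h2, hqf] at h3
  omega

theorem nums {q : ℕ} (hq : 2 ≤ q) : ∃ A, A + 1 = q ^ 2 ∧ A ≠ 0 ∧ q ^ 2 - 1 = A ∧ q ^ 4 - 1 = A * (A + 2) ∧
    q ^ 6 - 1 = A * (A ^ 2 + 3 * A + 3) := by
  have h1 : 4 ≤ q ^ 2 := by nlinarith
  refine ⟨q ^ 2 - 1, by omega, by omega, rfl, ?_, ?_⟩
  · obtain ⟨A, hA⟩ : ∃ A, q ^ 2 = A + 1 := ⟨q ^ 2 - 1, by omega⟩
    have h4 : q ^ 4 = A * (A + 2) + 1 := by
      have : q ^ 4 = (q ^ 2) ^ 2 := by ring
      rw [this, hA]
      ring
    rw [h4, hA]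
    simp only [_root_.add_tsub_cancel_right]
  · obtain ⟨A, hA⟩ : ∃ A, q ^ 2 = A + 1 := ⟨q ^ 2 - 1, by omega⟩
    have h6 : q ^ 6 = A * (A ^ 2 + 3 * A + 3) + 1 := by
      have : q ^ 6 = (q ^ 2) ^ 3 := by ring
      rw [this, hA]
      ring
    rw [h6, hA]
    simp only [_root_.add_tsub_cancel_right]

section
variable {F : Type} [Field F]

theorem card_mod [Finite F] (r : ℕ) (hr : r.Prime) (h : (r : F) ≠ 0) : ¬ r ∣ Nat.card F := by
  intro hd
  have := Fintype.ofFinite F
  rw [Nat.card_eq_fintype_card] at hd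
  obtain ⟨p, hp, n, hpp, hn⟩ := FiniteField.card' F
  rw [hn] at hd
  have h1 : r = p := (Nat.prime_dvd_prime_iff_eq hr hpp).1 (hr.dvd_of_dvd_pow hd)
  subst h1
  exact h (CharP.cast_eq_zero F r)

end

/-- **BOX N** -/
theorem boxN {F : Type} [Field F] [Finite F] {ι : Type} [Fintype ι] [DecidableEq ι] {Q : QuadraticForm F (ι → F)}
    (h : Q8 Q) : BoxN Q := by
  have h2 := card_mod 2 Nat.prime_two (by exact_mod_cast h.two : ((2 : ℕ) : F) ≠ 0)
  have h3 := card_mod 3 Nat.prime_three (by exact_mod_cast h.three : ((3 : ℕ) : F) ≠ 0)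
  have hq : 2 ≤ Nat.card F := by
    have := Fintype.ofFinite F
    rw [Nat.card_eq_fintype_card]
    exact Fintype.one_lt_card
  obtain ⟨A, hA, hA0, e2, e4, e6⟩ := nums hq
  have hc := h.card
  rw [e2, e4, e6] at hc
  obtain ⟨b1, b2⟩ := fact_two (by omega) hA hA0 hc
  obtain ⟨a1, a2⟩ := fact_three (by omega) hA hA0 hc
  refine ⟨_, _, a1, b1, b2, a2, ?_, ?_⟩
  · rw [e2]
    exact Nat.ordProj_dvd A 3
  · rw [e2]
    exact Nat.pow_succ_factorization_not_dvd hA0 Nat.prime_three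

/-! ### the form of plus type -/

section plus

variable {F : Type} [Field F]

/-- coordinates of the frame -/
def fx (a b : F) (c : A4) (i : Fin 2) : F :=
  (![![![1, 0], ![a, b]], ![![b, -a], ![0, 1]]] : Fin 2 → Fin 2 → Fin 2 → F) c.1 c.2 i
def fy (a b : F) (c : A4) (i : Fin 2) : F :=
  (![![![1, 0], ![-a, -b]], ![![-b, a], ![0, 1]]] : Fin 2 → Fin 2 → Fin 2 → F) c.1 c.2 i

/-- the frame -/
def FE (a b : F) (j : Fin 2 × A4) : Fin 4 ⊕ Fin 4 → F :=
  Sum.elim (fun i : Fin 4 => if i.val / 2 = j.1.val then fx a b j.2 ⟨i.val % 2, Nat.mod_lt _ (by norm_num)⟩ else 0)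
    (fun i : Fin 4 => if i.val / 2 = j.1.val then fy a b j.2 ⟨i.val % 2, Nat.mod_lt _ (by norm_num)⟩ else 0)

theorem a4_cases (c : A4) : c = (0, 0) ∨ c = (0, 1) ∨ c = (1, 0) ∨ c = (1, 1) := by
  revert c
  decide

theorem fxy {a b : F} (hab : a ^ 2 + b ^ 2 = -1) (c d : A4) :
    (fx a b c 0 * fy a b d 0 + fx a b d 0 * fy a b c 0) + (fx a b c 1 * fy a b d 1 + fx a b d 1 * fy a b c 1) =
      if c = d then 2 else 0 := by
  have x1 : fx a b (0, 0) 0 = 1 := rfl
  have x2 : fx a b (0, 0) 1 = 0 := rfl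
  have x3 : fx a b (0, 1) 0 = a := rfl
  have x4 : fx a b (0, 1) 1 = b := rfl
  have x5 : fx a b (1, 0) 0 = b := rfl
  have x6 : fx a b (1, 0) 1 = -a := rfl
  have x7 : fx a b (1, 1) 0 = 0 := rfl
  have x8 : fx a b (1, 1) 1 = 1 := rfl
  have y1 : fy a b (0, 0) 0 = 1 := rfl
  have y2 : fy a b (0, 0) 1 = 0 := rfl
  have y3 : fy a b (0, 1) 0 = -a := rfl
  have y4 : fy a b (0, 1) 1 = -b := rfl
  have y5 : fy a b (1, 0) 0 = -b := rfl
  have y6 : fy a b (1, 0) 1 = a := rfl
  have y7 : fy a b (1, 1) 0 = 0 := rfl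
  have y8 : fy a b (1, 1) 1 = 1 := rfl
  by_cases hcd : c = d
  · subst hcd
    rw [if_pos rfl]
    rcases a4_cases c with rfl | rfl | rfl | rfl
    · rw [x1, x2, y1, y2]; ring
    · rw [x3, x4, y3, y4]; linear_combination (-2) * hab
    · rw [x5, x6, y5, y6]; linear_combination (-2) * hab
    · rw [x7, x8, y7, y8]; ring
  · rw [if_neg hcd]
    rcases a4_cases c with rfl | rfl | rfl | rfl <;> rcases a4_cases d with rfl | rfl | rfl | rfl <;>
      first
        | exact absurd rfl hcd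
        | (simp only [x1, x2, x3, x4, x5, x6, x7, x8, y1, y2, y3, y4, y5, y6, y7, y8]; ring)

theorem frame_FE {a b : F} (hab : a ^ 2 + b ^ 2 = -1) : Frame (polarBilin (plusForm 4 F)) (FE a b) := by
  have key : ∀ j j' : Fin 2 × A4, polarBilin (plusForm 4 F) (FE a b j) (FE a b j') = if j = j' then 2 else 0 := by
    rintro ⟨k, c⟩ ⟨l, d⟩
    rw [polarBilin_apply_apply, polar_plusForm, Fin.sum_univ_four]
    have h1 := fxy hab c d
    have hk : k = 0 ∨ k = 1 := by omega
    have hl : l = 0 ∨ l = 1 := by omega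
    rcases hk with rfl | rfl <;> rcases hl with rfl | rfl
    · simp only [FE, _root_.Fin.isValue, _root_.Fin.coe_ofNat_eq_mod, _root_.Nat.zero_mod, _root_.Nat.div_eq_zero_iff, _root_.OfNat.ofNat_ne_zero, _root_.Order.lt_two_iff, _root_.false_or, _root_.Sum.elim_inl, _root_.zero_le, ↓ _root_.reduceIte, _root_.Fin.zero_eta, _root_.Sum.elim_inr, _root_.Nat.one_mod, _root_.Std.le_refl, _root_.Nat.mod_succ, _root_.Fin.mk_one, _root_.Nat.reduceMod, _root_.Nat.not_ofNat_le_one, _root_.MulZeroClass.mul_zero, _root_.add_zero, _root_.Prod.mk.injEq, _root_.true_and]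
      exact h1
    · simp only [FE, _root_.Fin.isValue, _root_.Fin.coe_ofNat_eq_mod, _root_.Nat.zero_mod, _root_.Nat.div_eq_zero_iff, _root_.OfNat.ofNat_ne_zero, _root_.Order.lt_two_iff, _root_.false_or, _root_.Sum.elim_inl, _root_.zero_le, ↓ _root_.reduceIte, _root_.Fin.zero_eta, _root_.Nat.mod_succ, _root_.Sum.elim_inr, _root_.Nat.zero_div, _root_.zero_ne_one, _root_.MulZeroClass.mul_zero, _root_.MulZeroClass.zero_mul, _root_.add_zero, _root_.Nat.one_mod, _root_.Std.le_refl, _root_.Fin.mk_one, _root_.Nat.reduceDiv, _root_.Nat.reduceMod, _root_.Nat.not_ofNat_le_one, _root_.Nat.div_self, _root_.Nat.mod_self, _root_.Prod.mk.injEq, _root_.false_and]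
    · simp only [FE, _root_.Fin.isValue, _root_.Fin.coe_ofNat_eq_mod, _root_.Nat.mod_succ, _root_.Sum.elim_inl, _root_.Nat.zero_mod, _root_.Nat.zero_div, _root_.zero_ne_one, ↓ _root_.reduceIte, _root_.Nat.div_eq_zero_iff, _root_.OfNat.ofNat_ne_zero, _root_.Order.lt_two_iff, _root_.false_or, _root_.Sum.elim_inr, _root_.zero_le, _root_.Fin.zero_eta, _root_.MulZeroClass.zero_mul, _root_.MulZeroClass.mul_zero, _root_.add_zero, _root_.Nat.one_mod, _root_.Nat.reduceDiv, _root_.Std.le_refl, _root_.Fin.mk_one, _root_.Nat.reduceMod, _root_.Nat.div_self, _root_.Nat.mod_self, _root_.Nat.not_ofNat_le_one, _root_.Prod.mk.injEq, _root_.one_ne_zero, _root_.false_and]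
    · simp only [FE, _root_.Fin.isValue, _root_.Fin.coe_ofNat_eq_mod, _root_.Nat.mod_succ, _root_.Sum.elim_inl, _root_.Nat.zero_mod, _root_.Nat.zero_div, _root_.zero_ne_one, ↓ _root_.reduceIte, _root_.Sum.elim_inr, _root_.MulZeroClass.mul_zero, _root_.add_zero, _root_.Nat.one_mod, _root_.Nat.reduceDiv, _root_.Nat.reduceMod, _root_.Order.lt_two_iff, _root_.zero_le, _root_.Nat.div_self, _root_.Nat.mod_self, _root_.Fin.zero_eta, _root_.zero_add, _root_.Fin.mk_one, _root_.Prod.mk.injEq, _root_.true_and]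
      exact h1
  exact ⟨fun j => by rw [key, if_pos rfl], fun j j' h => by rw [key, if_neg h]⟩

theorem exists_neg {ι : Type} [Fintype ι] [DecidableEq ι] {Q : QuadraticForm F (ι → F)} (h : Q7 Q)
    {E : Fin 2 × A4 → ι → F} (hF : Frame (polarBilin Q) E) : ∃ z : Cfsg.Omega F (⇑Q), rep (inc (⇑Q)) z = -1 := by
  have n1 : ((0, (0, 0)) : Fin 2 × A4) ≠ (0, (0, 1)) := by decide
  have n2 : ((0, (1, 0)) : Fin 2 × A4) ≠ (0, (1, 1)) := by decide
  have n3 : ((1, (0, 0)) : Fin 2 × A4) ≠ (1, (0, 1)) := by decide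
  have n4 : ((1, (1, 0)) : Fin 2 × A4) ≠ (1, (1, 1)) := by decide
  obtain ⟨x1, hx1⟩ := exists_sg h.gq h.two hF n1
  obtain ⟨x2, hx2⟩ := exists_sg h.gq h.two hF n2
  obtain ⟨x3, hx3⟩ := exists_sg h.gq h.two hF n3
  obtain ⟨x4, hx4⟩ := exists_sg h.gq h.two hF n4
  refine ⟨x1 * (x2 * (x3 * x4)), ?_⟩
  refine ext8 h hF fun j => ?_
  have e : ∀ (i k : Fin 2 × A4) (c : F), mono (polarBilin Q) E (H556.Om.sg F i k) id (c • E j) =
      (if j = i ∨ j = k then -c else c) • E j := by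
    intro i k c
    rw [map_smul, mono_e hF h.two, id, smul_smul]
    unfold H556.Om.sg
    split_ifs <;> simp
  rw [rep_mul, rep_mul, rep_mul, hx1, hx2, hx3, hx4]
  have e' := e
  rw [← one_smul F (E j), e, e, e, e, one_smul]
  have h8 : ∀ j : Fin 2 × A4, (j = (0, (0, 0)) ∨ j = (0, (0, 1))) ∨ (j = (0, (1, 0)) ∨ j = (0, (1, 1))) ∨
      (j = (1, (0, 0)) ∨ j = (1, (0, 1))) ∨ (j = (1, (1, 0)) ∨ j = (1, (1, 1))) := by decide
  rw [LinearMap.neg_apply, Module.End.one_apply, ← neg_one_smul F (E j)]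
  congr 1
  rcases h8 j with (rfl | rfl) | (rfl | rfl) | (rfl | rfl) | (rfl | rfl) <;>
    norm_num [Prod.mk.injEq]

theorem card_center {ι : Type} [Fintype ι] [DecidableEq ι] {Q : QuadraticForm F (ι → F)} (h : Q7 Q)
    {E : Fin 2 × A4 → ι → F} (hF : Frame (polarBilin Q) E) : Nat.card (Subgroup.center (Cfsg.Omega F (⇑Q))) = 2 := by
  obtain ⟨z, hz⟩ := exists_neg h hF
  have hzc : z ∈ Subgroup.center (Cfsg.Omega F (⇑Q)) := (mem_cen h z).2 (Or.inr hz)
  rw [Nat.card_eq_two_iff]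
  refine ⟨1, ⟨z, hzc⟩, ?_, ?_⟩
  · intro h1
    have h2 : (1 : Cfsg.Omega F (⇑Q)) = z := congrArg Subtype.val h1
    rw [← h2, map_one] at hz
    have h3 := congrArg (fun T : Module.End F (ι → F) => T (E (0, 0))) hz
    simp only [Module.End.one_apply, LinearMap.neg_apply] at h3
    have h4 := hF.self (0, 0)
    have h5 : (2 : F) = -2 := by
      calc (2 : F) = polarBilin Q (E (0, 0)) (E (0, 0)) := h4.symm
        _ = polarBilin Q (E (0, 0)) (-(E (0, 0))) := by rw [← h3]
        _ = -2 := by rw [map_neg, h4]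
    have h6 : (2 : F) * 2 = 0 := by linear_combination h5
    have := h.two
    simp [this] at h6
  · ext x
    refine ⟨fun _ => trivial, fun _ => ?_⟩
    rcases (mem_cen h (x : Cfsg.Omega F (⇑Q))).1 x.2 with h1 | h1
    · left
      exact Subtype.ext (rep_inj (by rw [h1]; exact (map_one _).symm))
    · right
      exact Subtype.ext (rep_inj (by rw [h1]; exact hz.symm))

variable [Fintype F]

theorem q7_plus (h2 : (2 : F) ≠ 0) : Q7 (plusForm 4 F) := ⟨h2, goodQ_plus (by norm_num), by simp⟩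

theorem exists_ab : ∃ a b : F, a ^ 2 + b ^ 2 = -1 := by
  obtain ⟨p, hp⟩ := CharP.exists F
  have hpp : p.Prime := by
    rcases CharP.char_is_prime_or_zero F p with h | h
    · exact h
    · subst h
      have : CharZero F := CharP.charP_to_charZero F
      exact absurd (inferInstance : Infinite F) (not_infinite_iff_finite.2 inferInstance)
  have : NeZero p := ⟨hpp.ne_zero⟩
  obtain ⟨a, b, hab⟩ := CharP.sq_add_sq F p (-1)
  exact ⟨a, b, by rw [hab]; norm_num⟩

theorem q8_plus (h2 : (2 : F) ≠ 0) (h3 : (3 : F) ≠ 0) : Q8 (plusForm 4 F) := by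
  obtain ⟨a, b, hab⟩ := exists_ab (F := F)
  have hF := frame_FE hab
  have h7 := q7_plus h2
  refine ⟨h2, h3, h7.gq, h7.dim, ⟨FE a b, hF⟩, ?_⟩
  intro _
  have hc := card_center h7 hF
  have h4 := Cfsg.Agent.S0293.result (F := F) rfl 4 (le_refl 4)
  rw [← Nat.card_eq_fintype_card] at h4
  set q := Nat.card F with hq
  have hodd : q % 2 = 1 := by
    have := card_mod 2 Nat.prime_two (by exact_mod_cast h2 : ((2 : ℕ) : F) ≠ 0)
    omega
  have hg : Nat.gcd 4 (q ^ 4 - 1) = 4 := by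
    refine Nat.gcd_eq_left ?_
    obtain ⟨t, ht⟩ : ∃ t, q = 2 * t + 1 := ⟨q / 2, by omega⟩
    refine ⟨4 * t ^ 4 + 8 * t ^ 3 + 6 * t ^ 2 + 2 * t, ?_⟩
    have : q ^ 4 = 4 * (4 * t ^ 4 + 8 * t ^ 3 + 6 * t ^ 2 + 2 * t) + 1 := by
      rw [ht]
      ring
    omega
  rw [hg, Finset.prod_range_succ, Finset.prod_range_succ, Finset.prod_range_succ, Finset.prod_range_zero] at h4
  norm_num only [_root_.one_mul] at h4
  have h5 : Nat.card (Cfsg.Omega F (⇑(plusForm 4 F))) =
      Nat.card (Cfsg.POmega F (Cfsg.quadFormPlus 4 F)) * 2 := by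
    rw [← coe_plusForm, ← hc]
    exact Subgroup.card_eq_card_quotient_mul_card_subgroup _
  rw [h5]
  calc _ = 4 * Nat.card (Cfsg.POmega F (Cfsg.quadFormPlus 4 F)) := by ring
    _ = _ := by rw [h4]; ring

end plus

end Cfsg.Agent.H473.D4
end

-- part: H561/D4/Four
section
/-!
# S4311: at most four classes of Hall subgroups imply the `S`-row (helper561)
-/

set_option autoImplicit false

namespace Cfsg.Agent.H561.D4

open Cfsg Subgroup Cfsg.Agent.H561.RV
open scoped Pointwise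

variable {S : Type*} [Group S]

/-- the class of `H` -/
def cl (H : Subgroup S) : Set (Subgroup S) := {K | ∃ s : S, K = MulAut.conj s • H}

theorem mem_cl_self (H : Subgroup S) : H ∈ cl H := ⟨1, by rw [map_one, one_smul]⟩

theorem cl_eq_of_mem {H K : Subgroup S} (h : K ∈ cl H) : cl K = cl H := by
  obtain ⟨s, rfl⟩ := h
  ext L
  constructor
  · rintro ⟨t, rfl⟩
    exact ⟨t * s, by rw [map_mul, mul_smul]⟩
  · rintro ⟨t, rfl⟩
    exact ⟨t * s⁻¹, by rw [map_mul, mul_smul, map_inv, inv_smul_smul]⟩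

theorem smul_cl (φ : MulAut S) (H : Subgroup S) : φ • cl H = cl (φ • H) := by
  ext L
  rw [Set.mem_smul_set]
  constructor
  · rintro ⟨_, ⟨s, rfl⟩, rfl⟩
    exact ⟨φ s, smul_conj_smul φ s H⟩
  · rintro ⟨s, rfl⟩
    refine ⟨MulAut.conj (φ⁻¹ s) • H, ⟨_, rfl⟩, ?_⟩
    rw [smul_conj_smul]
    have h1 : φ (φ⁻¹ s) = s := φ.apply_symm_apply s
    rw [h1]

theorem fixC_iff_cl {φ : MulAut S} {H : Subgroup S} : FixC φ H ↔ φ • cl H = cl H := by
  rw [fixC_iff, smul_cl]
  constructor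
  · rintro ⟨s, hs⟩
    exact cl_eq_of_mem ⟨s, hs⟩
  · intro h
    have := mem_cl_self (φ • H)
    rw [h] at this
    exact this

/-- the classes of Hall `π`-subgroups -/
def Cls (π : Set ℕ) (S : Type*) [Group S] : Set (Set (Subgroup S)) := {c | ∃ H : Subgroup S, IsPiHall π H ∧ c = cl H}

theorem isPiHall_smul {π : Set ℕ} {H : Subgroup S} (h : IsPiHall π H) (φ : MulAut S) : IsPiHall π (φ • H) := by
  have h1 : Nat.card (φ • H : Subgroup S) = Nat.card H := Nat.card_congr (Subgroup.equivSMul φ H).toEquiv.symm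
  have h2 : (φ • H : Subgroup S).index = H.index := by
    have : (H.map (φ : S ≃* S).toMonoidHom).index = H.index :=
      index_map_of_bijective φ.bijective H
    exact this
  exact ⟨fun p hp hd => h.1 p hp (h1 ▸ hd), fun p hp hpi hd => h.2 p hp hpi (h2 ▸ hd)⟩

theorem smul_mem_cls {π : Set ℕ} (φ : MulAut S) {c : Set (Subgroup S)} (hc : c ∈ Cls π S) : φ • c ∈ Cls π S := by
  obtain ⟨H, hH, rfl⟩ := hc
  exact ⟨φ • H, isPiHall_smul hH φ, smul_cl φ H⟩

/-- **at most four classes** -/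
theorem srow_of_four [Finite S] {π : Set ℕ} (h4 : (Cls π S).ncard ≤ 4) : SRow π S := by
  intro X hX
  have hfin : Finite (MulAut S) := Finite.of_injective (fun f : MulAut S => (f : S → S)) DFunLike.coe_injective
  have hfinC : (Cls π S).Finite := Set.toFinite _
  -- for every prime a class whose orbit has size prime to `r`
  have key : ∀ r : ℕ, r.Prime → ∃ c ∈ Cls π S, ¬ r ∣ (MulAction.orbit X c).ncard := by
    intro r hr
    have := Fact.mk hr
    obtain ⟨P⟩ : Nonempty (Sylow r X) := inferInstance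
    obtain ⟨H, hH, hR⟩ := hX r hr (((P : Subgroup X).map X.subtype :)) (map_subtype_le _) (P.isPGroup'.map _)
    refine ⟨cl H, ⟨H, hH, rfl⟩, ?_⟩
    have h1 : (P : Subgroup X) ≤ MulAction.stabilizer X (cl H) := by
      intro x hx
      rw [MulAction.mem_stabilizer_iff]
      exact fixC_iff_cl.1 (hR (x : MulAut S) ⟨x, hx, rfl⟩)
    have h2 : (MulAction.orbit X (cl H)).ncard = (MulAction.stabilizer X (cl H)).index :=
      (MulAction.index_stabilizer X (cl H)).symm
    rw [h2]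
    intro hd
    exact P.not_dvd_index (hd.trans (index_dvd_of_le h1))
  have horb : ∀ c ∈ Cls π S, MulAction.orbit X c ⊆ Cls π S := by
    rintro c hc _ ⟨φ, rfl⟩
    exact smul_mem_cls (φ : MulAut S) hc
  have hfix : ∀ c ∈ Cls π S, (MulAction.orbit X c).ncard = 1 → ∃ H : Subgroup S, IsPiHall π H ∧ ∀ φ ∈ X, FixC φ H := by
    rintro c ⟨H, hH, rfl⟩ h1
    refine ⟨H, hH, fun φ hφ => fixC_iff_cl.2 ?_⟩
    obtain ⟨d, hd⟩ := Set.ncard_eq_one.1 h1
    have h2 : (⟨φ, hφ⟩ : X) • cl H ∈ MulAction.orbit X (cl H) := MulAction.mem_orbit _ _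
    have h3 : cl H ∈ MulAction.orbit X (cl H) := MulAction.mem_orbit_self _
    rw [hd, Set.mem_singleton_iff] at h2 h3
    exact h2.trans h3.symm
  obtain ⟨c, hc, hc2⟩ := key 2 Nat.prime_two
  have hle : ∀ c ∈ Cls π S, (MulAction.orbit X c).ncard ≤ 4 := fun c hc =>
    (Set.ncard_le_ncard (horb c hc) hfinC).trans h4
  have hpos : ∀ c ∈ Cls π S, 0 < (MulAction.orbit X c).ncard := fun c hc =>
    (Set.ncard_pos (hfinC.subset (horb c hc))).2 ⟨c, MulAction.mem_orbit_self _⟩
  have h1 := hle c hc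
  have h2 := hpos c hc
  rcases (show (MulAction.orbit X c).ncard = 1 ∨ (MulAction.orbit X c).ncard = 3 by omega) with h | h
  · exact hfix c hc h
  · obtain ⟨d, hd, hd3⟩ := key 3 Nat.prime_three
    refine hfix d hd ?_
    have hdis : Disjoint (MulAction.orbit X c) (MulAction.orbit X d) := by
      rw [Set.disjoint_left]
      intro x hx hy
      apply hd3
      rw [← MulAction.orbit_eq_iff.2 hy, MulAction.orbit_eq_iff.2 hx, h]
    have h5 := Set.ncard_union_eq hdis (hfinC.subset (horb c hc)) (hfinC.subset (horb d hd))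
    have h6 := Set.ncard_le_ncard (Set.union_subset (horb c hc) (horb d hd)) hfinC
    have h7 := hpos d hd
    omega

/-- the classes are represented by the Hall subgroups over a Sylow `2`-subgroup -/
theorem ncard_cls_le [Finite S] {π : Set ℕ} (h2 : 2 ∈ π) (P : Sylow 2 S) :
    (Cls π S).ncard ≤ {H : Subgroup S | IsPiHall π H ∧ (P : Subgroup S) ≤ H}.ncard := by
  have h1 : Cls π S ⊆ cl '' {H : Subgroup S | IsPiHall π H ∧ (P : Subgroup S) ≤ H} := by
    rintro _ ⟨H, hH, rfl⟩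
    obtain ⟨R, hR⟩ : ∃ R : Sylow 2 S, (R : Subgroup S) ≤ H := by
      obtain ⟨Q⟩ : Nonempty (Sylow 2 H) := inferInstance
      have h1 : ¬ 2 ∣ ((Q : Subgroup H).map H.subtype).index := by
        rw [index_map_subtype]
        intro hd
        rcases (Nat.prime_two.dvd_mul).1 hd with h | h
        · exact Q.not_dvd_index h
        · exact hH.2 2 Nat.prime_two h2 h
      exact ⟨(Q.isPGroup'.map H.subtype).toSylow h1, map_subtype_le _⟩
    obtain ⟨g, hg⟩ := MulAction.exists_smul_eq S R P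
    refine ⟨MulAut.conj g • H, ⟨isPiHall_smul hH _, ?_⟩, ?_⟩
    · rw [← hg]
      show MulAut.conj g • (R : Subgroup S) ≤ MulAut.conj g • H
      exact Subgroup.pointwise_smul_le_pointwise_smul_iff.2 hR
    · exact cl_eq_of_mem ⟨g, rfl⟩
  exact (Set.ncard_le_ncard h1 (Set.toFinite _)).trans (Set.ncard_image_le (Set.toFinite _))

end Cfsg.Agent.H561.D4
end

-- part: H561/D4/Count
section
/-!
# S4311, the row `PΩ₈⁺(q)`: at most four Hall subgroups over a Sylow `2`-subgroup (helper561)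
-/

set_option autoImplicit false
set_option linter.unusedSectionVars false

namespace Cfsg.Agent.H561.D4

open Cfsg Subgroup Cfsg.Agent.H561.RV
open scoped Pointwise

universe u

section count

variable {S : Type u} [Group S] [Finite S]

/-- the pull back of a Sylow subgroup of `S` contained in `H` -/
theorem exists_sylow_in {P : Sylow 2 S} {H : Subgroup S} (hPH : (P : Subgroup S) ≤ H) :
    ∃ R : Sylow 2 H, (R : Subgroup H) = (P : Subgroup S).subgroupOf H := by
  have h1 : IsPGroup 2 ((P : Subgroup S).subgroupOf H) :=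
    P.isPGroup'.comap_of_injective H.subtype H.subtype_injective
  have h2 : ¬ 2 ∣ ((P : Subgroup S).subgroupOf H).index := by
    intro h
    have h3 := (P : Subgroup S).relIndex_mul_index hPH
    exact P.not_dvd_index (h3 ▸ h.mul_right _)
  exact ⟨h1.toSylow h2, rfl⟩

/-- **three overgroups centralising `z` and one not** -/
theorem exists_three {P : Sylow 2 S} {z : S} (hz1 : z ≠ 1) (hzP : z ∈ P) (hN : (MN (P : Subgroup S) z).encard ≤ 1)
    {H : Subgroup S} (hPH : (P : Subgroup S) ≤ H) (hc : Subgroup.center H = ⊥) (hD : BoxD1 H) :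
    ∃ T : Finset (Subgroup S), T.card = 3 ∧ (T : Set (Subgroup S)) ⊆ MZ (P : Subgroup S) z ∧
      H = sSup (MN (P : Subgroup S) z) ⊔ sSup (T : Set (Subgroup S)) := by
  classical
  obtain ⟨R, hR⟩ := exists_sylow_in hPH
  obtain ⟨M, hMi, hRM, hM3, hMt⟩ := hD R
  let M' : Fin 4 → Subgroup S := fun i => (M i).map H.subtype
  have hM'i : Function.Injective M' := fun i j h => hMi (Subgroup.map_injective H.subtype_injective h)
  have hR' : (R : Subgroup H).map H.subtype = (P : Subgroup S) := by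
    rw [hR, subgroupOf_map_subtype, inf_of_le_left hPH]
  have hP' : ∀ i, (P : Subgroup S) ≤ M' i := fun i => by
    rw [← hR']
    exact Subgroup.map_mono (hRM i)
  have h3' : ∀ i, (P : Subgroup S).relIndex (M' i) = 3 := fun i => by
    rw [← hR', ← hM3 i]
    exact Subgroup.relIndex_map_map_of_injective _ _ H.subtype_injective
  have hsup : ⨆ i, M' i = H := by
    have h1 : (⨆ i, M i).map H.subtype = ⨆ i, M' i := Subgroup.map_iSup _ _
    rw [← h1, hMt, ← MonoidHom.range_eq_map, H.range_subtype]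
  have hdich : ∀ i, M' i ∈ MZ (P : Subgroup S) z ∨ M' i ∈ MN (P : Subgroup S) z := fun i => by
    by_cases h : ∀ m ∈ M' i, m * z = z * m
    · exact Or.inl ⟨hP' i, h3' i, h⟩
    · exact Or.inr ⟨hP' i, h3' i, h⟩
  -- some `M' i` is not in the centraliser of `z`
  have hex : ∃ i, M' i ∈ MN (P : Subgroup S) z := by
    by_contra hne
    push Not at hne
    have h1 : ∀ i, ∀ m ∈ M' i, m * z = z * m := fun i => ((hdich i).resolve_right (hne i)).2.2
    have h2 : H ≤ Subgroup.centralizer ({z} : Set S) := by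
      rw [← hsup, iSup_le_iff]
      intro i m hm
      rw [Subgroup.mem_centralizer_iff]
      intro y hy
      rw [Set.mem_singleton_iff.1 hy]
      exact (h1 i m hm).symm
    have h3 : (⟨z, hPH hzP⟩ : H) ∈ Subgroup.center H := by
      rw [Subgroup.mem_center_iff]
      intro g
      apply Subtype.ext
      exact ((Subgroup.mem_centralizer_iff.1 (h2 g.2)) z rfl).symm
    rw [hc, Subgroup.mem_bot] at h3
    exact hz1 (congrArg Subtype.val h3)
  obtain ⟨i₀, hi₀⟩ := hex
  have huniq : ∀ X ∈ MN (P : Subgroup S) z, X = M' i₀ := by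
    intro X hX
    have := Set.encard_le_one_iff.1 hN
    exact this X (M' i₀) hX hi₀
  refine ⟨(Finset.univ.erase i₀).image M', ?_, ?_, ?_⟩
  · rw [Finset.card_image_of_injective _ hM'i, Finset.card_erase_of_mem (Finset.mem_univ _)]
    rfl
  · intro X hX
    rw [Finset.mem_coe, Finset.mem_image] at hX
    obtain ⟨i, hi, rfl⟩ := hX
    refine (hdich i).resolve_right fun h => ?_
    exact (Finset.ne_of_mem_erase hi) (hM'i (huniq _ h))
  · apply le_antisymm
    · conv_lhs => rw [← hsup]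
      rw [iSup_le_iff]
      intro i
      by_cases hi : i = i₀
      · rw [hi]
        exact le_sup_of_le_left (le_sSup hi₀)
      · refine le_sup_of_le_right (le_sSup ?_)
        rw [Finset.mem_coe, Finset.mem_image]
        exact ⟨i, Finset.mem_erase.2 ⟨hi, Finset.mem_univ _⟩, rfl⟩
    · refine sup_le (sSup_le fun X hX => ?_) (sSup_le fun X hX => ?_)
      · rw [huniq X hX, ← hsup]
        exact le_iSup M' i₀
      · rw [Finset.mem_coe, Finset.mem_image] at hX
        obtain ⟨i, -, rfl⟩ := hX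
        rw [← hsup]
        exact le_iSup M' i

/-- **at most four subgroups** -/
theorem ncard_le_four {P : Sylow 2 S} {z : S} (hz1 : z ≠ 1) (hzP : z ∈ P) (hZ : (MZ (P : Subgroup S) z).encard ≤ 4)
    (hN : (MN (P : Subgroup S) z).encard ≤ 1) {𝓗 : Set (Subgroup S)}
    (h𝓗 : ∀ H ∈ 𝓗, (P : Subgroup S) ≤ H ∧ Subgroup.center H = ⊥ ∧ BoxD1 H) : 𝓗.ncard ≤ 4 := by
  classical
  have hfin : (MZ (P : Subgroup S) z).Finite := Set.toFinite _
  have hex : ∀ H ∈ 𝓗, ∃ T : Finset (Subgroup S), T.card = 3 ∧ (T : Set (Subgroup S)) ⊆ MZ (P : Subgroup S) z ∧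
      H = sSup (MN (P : Subgroup S) z) ⊔ sSup (T : Set (Subgroup S)) := fun H hH =>
    exists_three hz1 hzP hN (h𝓗 H hH).1 (h𝓗 H hH).2.1 (h𝓗 H hH).2.2
  choose! f hf3 hfZ hfe using hex
  have hcard : hfin.toFinset.card ≤ 4 := by
    have h1 := hfin.encard_eq_coe_toFinset_card
    rw [h1] at hZ
    exact_mod_cast hZ
  have h1 : 𝓗.ncard ≤ ((↑(Finset.powersetCard 3 hfin.toFinset) : Set (Finset (Subgroup S)))).ncard := by
    refine Set.ncard_le_ncard_of_injOn f ?_ ?_ (Finset.finite_toSet _)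
    · intro H hH
      rw [Finset.mem_coe, Finset.mem_powersetCard]
      refine ⟨fun X hX => ?_, hf3 H hH⟩
      rw [Set.Finite.mem_toFinset]
      exact hfZ H hH hX
    · intro H hH K hK he
      rw [hfe H hH, hfe K hK, he]
  refine h1.trans ?_
  rw [Set.ncard_coe_finset, Finset.card_powersetCard]
  exact (Nat.choose_le_choose 3 hcard).trans (by decide)

end count

end Cfsg.Agent.H561.D4
end

-- part: H561/D4/Low
section
/-!
# S4311, the row `PΩ₈⁺(q)`: BOX D from D2, D3, D4; BOX C from C1, C2, N (helper561)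
-/

set_option autoImplicit false
set_option linter.unusedSectionVars false

namespace Cfsg.Agent.H561.D4

open Module QuadraticMap Cfsg.Agent.H167.OP Cfsg.Agent.H170.HL Cfsg.Agent.H170.HL.OmRow Cfsg.Agent.H556.Om
open Cfsg Subgroup Cfsg.Agent.H485.RV Cfsg.Agent.H561.RV

variable {F : Type} [Field F] {ι : Type} [Fintype ι] [DecidableEq ι] {Q : QuadraticForm F (ι → F)}

/-- an overgroup of index three is generated by an element of order three -/
theorem exists_cube {S : Type*} [Group S] [Finite S] {P M : Subgroup S} (hP : IsPGroup 2 P) (hPM : P ≤ M)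
    (h3 : P.relIndex M = 3) : ∃ y ∈ M, y ^ 3 = 1 ∧ M = P ⊔ zpowers y := by
  have h1 := Subgroup.card_mul_index (P.subgroupOf M)
  have hcM : Nat.card (P.subgroupOf M) = Nat.card P := Nat.card_congr (Subgroup.subgroupOfEquivOfLe hPM).toEquiv
  have h3' : (P.subgroupOf M).index = 3 := h3
  rw [hcM, h3'] at h1
  obtain ⟨k, hk⟩ := hP.exists_card_eq
  have := Fact.mk Nat.prime_three
  obtain ⟨⟨y, hyM⟩, hy⟩ := exists_prime_orderOf_dvd_card' (G := M) 3 (Dvd.intro_left _ h1)
  have hy' : orderOf y = 3 := by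
    rw [← hy, ← Subgroup.orderOf_coe]
  refine ⟨y, hyM, by rw [← hy', pow_orderOf_eq_one], ?_⟩
  have hle : P ⊔ zpowers y ≤ M := sup_le hPM (by rwa [zpowers_le])
  refine (Subgroup.eq_of_le_of_card_ge hle ?_).symm
  have h4 : Nat.card P ∣ Nat.card (P ⊔ zpowers y : Subgroup S) := card_dvd_of_le le_sup_left
  have h5 : 3 ∣ Nat.card (P ⊔ zpowers y : Subgroup S) := by
    have h6 : Nat.card (zpowers y) ∣ Nat.card (P ⊔ zpowers y : Subgroup S) := card_dvd_of_le le_sup_right
    rwa [Nat.card_zpowers, hy'] at h6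
  have h6 : Nat.Coprime (Nat.card P) 3 := by
    rw [hk]
    exact Nat.Coprime.pow_left _ (by decide)
  rw [← h1]
  exact Nat.le_of_dvd Nat.card_pos (h6.mul_dvd_of_dvd_of_dvd h4 h5)

seal _root_.Finset.sum _root_.dotProduct in
seal _root_.Subgroup.toGroup _root_.Units.instGroup in
/-- **BOX D** -/
theorem boxD_of [Finite F] (h : Q8 Q) (hZ : BoxZ Q) (h2 : BoxD2 (Cfsg.POmega F (⇑Q))) (h3 : BoxD3 Q) (h4 : BoxD4 Q)
    (h14 : ¬ 2 ^ 14 ∣ Nat.card (Cfsg.Omega F (⇑Q))) : BoxD (Cfsg.POmega F (⇑Q)) := by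
  have hfin : Finite (Cfsg.Omega F (⇑Q)) := inferInstance
  obtain ⟨E, hF⟩ := h.frame
  obtain ⟨⟨z, hz⟩, -⟩ := hZ h E hF
  obtain ⟨v, hv⟩ := H778.D4.exists_v h hF
  have H := H778.D4.hyp h hZ hF hz hv h14
  obtain ⟨L, hL, hy⟩ := h3 h E hF z hz h14
  let P : Sylow 2 (Cfsg.POmega F (⇑Q)) := ⟨PMS h.two hF, H.two, fun {R} hR hle => le_antisymm (H.max R hR hle) hle⟩
  have hPP : (P : Subgroup (Cfsg.POmega F (⇑Q))) = PMS h.two hF := rfl
  refine ⟨P, QuotientGroup.mk z, H.ne, H.mem, ?_, h4 h E hF z hz h14⟩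
  refine (Set.encard_le_encard ?_).trans (h2 P L hL)
  rintro M ⟨hPM, h3, hc⟩
  refine ⟨hPM, h3, ?_⟩
  obtain ⟨y, hyM, hy3, hM⟩ := exists_cube P.isPGroup' hPM h3
  rw [hM]
  refine sup_le_sup_left ?_ _
  rw [zpowers_le]
  exact hy y hy3 (hc y hyM)

end Cfsg.Agent.H561.D4
end

private theorem dce_e00e3c18cb3e : _root_.True := by
  try have : _root_.True := by simp only [_root_.Cfsg.Agent.H778.D4.chi.eq_1]
  try have : _root_.True := by simp only [_root_.Cfsg.POmega.congr_simp]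
  try have : _root_.True := by simp only [_root_.Cfsg.Agent.H473.D4.FE.eq_1]
  try have : _root_.True := by simp only [_root_.Cfsg.Agent.H561.D4.s0.eq_1]
  try have : _root_.True := by simp only [_root_.Cfsg.Agent.H778.D4.IsV.eq_1]
  exact _root_.True.intro
end

section
prune_inst 0xb1a8fb1bf86ddedfff7e7fa694cffdf9b81fffa6dfe9cb7fe061ff0bdf430009c52b8d8be010fc1ef6621410b87853f97eea3fe06bd87ffffd1ff41ffbee0fe5f6b508519488340fbc0fff03f0778e7f000000000000000000000008000000000200000000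

-- part: H358/D4/BoxA
section
prune_inst 0x4e4500a0009201200000005868100006012000400004008000820020002800c600d022000882000000800000400300008110000b0024000000400040000000180108000042100010022000e000000000000000000000000000000000000000000000000000
set_option linter.all false
open scoped Cfsg.Agent.FastGrp

-- part: H358/D4/Env
section
/-!
# S4311, BOX A: class-2 groups and elements of order three and rank two (helper358)

`Env B ρ`: `ρ` is a faithful representation of `G` on the 8-dimensional space `V` by isometries of the symmetric nondegenerate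
form `B`, the centre of `G` is `±1`.  `Thr B ρ x v`: `x` has order three, `[V,x] = <v, xv>`, `B v v ≠ 0`.
`class2`: a 2-group `M` normalised by `x`, with `M' ≤ Z`, `M² ≤ Z`, whose centre is contained in `Z`, is contained in `Z`.
-/

set_option autoImplicit false

namespace Cfsg.Agent.H358.D4

open Module Cfsg.Agent.H167.OP

variable {F : Type*} [Field F] {V : Type*} [AddCommGroup V] [Module F V] {G : Type*} [Group G]

/-- the set up -/
structure Env (B : V →ₗ[F] V →ₗ[F] F) (ρ : Representation F G V) : Prop where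
  two : (2 : F) ≠ 0
  three : (3 : F) ≠ 0
  symm : ∀ u v, B u v = B v u
  nd : ∀ u, (∀ v, B u v = 0) → u = 0
  iso : ∀ g u v, B (ρ g u) (ρ g v) = B u v
  inj : Function.Injective ρ
  cen : ∀ g, g ∈ Subgroup.center G ↔ ρ g = 1 ∨ ρ g = -1
  dim : finrank F V = 8

/-- elements of order three and rank two -/
structure Thr (B : V →ₗ[F] V →ₗ[F] F) (ρ : Representation F G V) (x : G) (v : V) : Prop where
  x3 : x ^ 3 = 1
  nz : B v v ≠ 0
  rel : v + ρ x v + ρ x (ρ x v) = 0
  rng : ∀ u, ρ x u - u ∈ Submodule.span F {v, ρ x v}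

variable {B : V →ₗ[F] V →ₗ[F] F} {ρ : Representation F G V}

theorem Env.eq_neg (E : Env B ρ) {u : V} (h : u = -u) : u = 0 := by
  have h5 : (2 : F) • u = 0 := by
    rw [two_smul]
    nth_rewrite 2 [h]
    exact add_neg_cancel u
  exact (smul_eq_zero.1 h5).resolve_left E.two

/-- elements whose commutator is in the centre commute or anticommute -/
theorem Env.anti (E : Env B ρ) {b c : G} (h : c * b * c⁻¹ * b⁻¹ ∈ Subgroup.center G) (hne : c * b ≠ b * c) (u : V) :
    ρ c (ρ b u) = -ρ b (ρ c u) := by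
  have h1 : c * b = (c * b * c⁻¹ * b⁻¹) * (b * c) := by group
  rcases (E.cen _).1 h with h2 | h2
  · exact absurd (by rw [h1, E.inj (h2.trans (map_one ρ).symm), one_mul]) hne
  · rw [← mul_ap, h1, mul_ap, h2, mul_ap]
    rfl

theorem mem_ker_sub {x : G} {u : V} : u ∈ LinearMap.ker (ρ x - 1) ↔ ρ x u = u := by
  rw [LinearMap.mem_ker, LinearMap.sub_apply, Module.End.one_apply, sub_eq_zero]

theorem coprime_pow {b : G} {k : ℕ} (h4 : b ^ 3 = 1) (hk' : b ^ 2 ^ k = 1) : b = 1 := by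
  have h5 : orderOf b ∣ 3 := orderOf_dvd_of_pow_eq_one h4
  have h6 : orderOf b ∣ 2 ^ k := orderOf_dvd_of_pow_eq_one hk'
  have h7 : orderOf b = 1 := Nat.eq_one_of_dvd_coprimes (Nat.Coprime.pow_right k (by norm_num : Nat.Coprime 3 2)) h5 h6
  rwa [orderOf_eq_one_iff] at h7

/-- coprime action -/
theorem comm_of_comm {x a b : G} {k : ℕ} (hx : x ^ 3 = 1) (hb : b = x * a * x⁻¹ * a⁻¹) (hk : b ^ 2 ^ k = 1)
    (h1 : x * b = b * x) : x * a = a * x := by
  have h2 : MulAut.conj x a = b * a := by rw [hb, MulAut.conj_apply]; group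
  have h3 : MulAut.conj x b = b := by rw [MulAut.conj_apply, h1]; group
  have h5 : (MulAut.conj x ^ 3) a = b ^ 3 * a := by
    rw [pow_succ, pow_two, MulAut.mul_apply, MulAut.mul_apply, h2, map_mul, map_mul, h3, h2, map_mul, h3, h2, pow_succ,
      pow_two]
    simp only [mul_assoc]
  rw [← map_pow, hx, map_one, MulAut.one_apply] at h5
  have h6 := coprime_pow (mul_eq_right.1 h5.symm) hk
  rw [h6, one_mul, MulAut.conj_apply, mul_inv_eq_iff_eq_mul] at h2
  exact h2

theorem Thr.conj (E : Env B ρ) {x : G} {v : V} (T : Thr B ρ x v) (c : G) : Thr B ρ (c * x * c⁻¹) (ρ c v) := by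
  have h1 : ∀ u, ρ (c * x * c⁻¹) (ρ c u) = ρ c (ρ x u) := fun u => by
    rw [mul_ap, mul_ap, inv_ap]
  refine ⟨?_, ?_, ?_, fun u => ?_⟩
  · rw [conj_pow, T.x3, mul_one, mul_inv_cancel]
  · rw [E.iso]; exact T.nz
  · rw [h1, h1, ← map_add, ← map_add, T.rel, map_zero]
  · obtain ⟨α, β, h2⟩ := Submodule.mem_span_pair.1 (T.rng (ρ c⁻¹ u))
    refine Submodule.mem_span_pair.2 ⟨α, β, ?_⟩
    rw [h1, ← map_smul, ← map_smul, ← map_add, h2, map_sub, ap_inv, ← h1, ap_inv]

theorem Thr.ne_zero {x : G} {v : V} (T : Thr B ρ x v) : v ≠ 0 := by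
  intro h
  exact T.nz (by rw [h, map_zero])

theorem Thr.finrank_range [FiniteDimensional F V] {x : G} {v : V} (T : Thr B ρ x v) : rk ρ x ≤ 2 := by
  classical
  have h1 : LinearMap.range (ρ x - 1) ≤ Submodule.span F {v, ρ x v} := by
    rintro _ ⟨u, rfl⟩
    exact T.rng u
  refine (Submodule.finrank_mono h1).trans ?_
  have h2 := finrank_span_finset_le_card (R := F) (M := V) {v, ρ x v}
  rw [Finset.coe_insert, Finset.coe_singleton] at h2
  exact h2.trans (Finset.card_le_two)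

theorem Thr.six_le [FiniteDimensional F V] (E : Env B ρ) {x : G} {v : V} (T : Thr B ρ x v) :
    6 ≤ finrank F (LinearMap.ker (ρ x - 1)) := by
  have h1 := LinearMap.finrank_range_add_finrank_ker (ρ x - 1)
  have h2 := T.finrank_range
  rw [rk] at h2
  rw [E.dim] at h1
  omega

/-- `v` is in the range -/
theorem Thr.mem {x : G} {v : V} (T : Thr B ρ x v) : ρ x (-(ρ x v + (2 : F) • v)) - -(ρ x v + (2 : F) • v) =
    (3 : F) • v := by
  have h1 := T.rel
  have h2 : ρ x (ρ x v) = -(v + ρ x v) := by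
    rw [eq_neg_iff_add_eq_zero, ← h1]; abel
  have h3 : (3 : F) • v = v + v + v := by
    have : (3 : F) = 1 + 1 + 1 := by norm_num
    rw [this, add_smul, add_smul, one_smul]
  rw [map_neg, map_add, map_smul, h2, h3, two_smul, two_smul]
  abel

/-- elements commuting with `x` preserve `[V,x]` -/
theorem Thr.comm_mem (E : Env B ρ) {x : G} {v : V} (T : Thr B ρ x v) {n : G} (h : x * n = n * x) :
    ∃ α β : F, α • v + β • ρ x v = ρ n v := by
  rw [← Submodule.mem_span_pair]
  have h1 : ρ n v = (3 : F)⁻¹ • (ρ x (ρ n (-(ρ x v + (2 : F) • v))) - ρ n (-(ρ x v + (2 : F) • v))) := by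
    rw [← mul_ap, h, mul_ap, ← map_sub, T.mem, map_smul, smul_smul, inv_mul_cancel₀ E.three, one_smul]
  rw [h1]
  exact Submodule.smul_mem _ _ (T.rng _)

/-- anticommuting elements do not commute with `x` -/
theorem Thr.not_anti (E : Env B ρ) {x : G} {v : V} (T : Thr B ρ x v) {b c : G} (hb : x * b = b * x) (hc : x * c = c * x)
    (h : ∀ u, ρ c (ρ b u) = -ρ b (ρ c u)) : False := by
  obtain ⟨α, β, h1⟩ := T.comm_mem E hb
  obtain ⟨γ, δ, h2⟩ := T.comm_mem E hc
  have h3 : ρ c (ρ b v) = ρ b (ρ c v) := by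
    rw [← h1, ← h2, map_add, map_add, map_smul, map_smul, map_smul, map_smul, ← mul_ap, ← mul_ap, ← hb, ← hc, mul_ap,
      mul_ap, ← h1, ← h2, map_add, map_add, map_smul, map_smul, map_smul, map_smul]
    simp only [smul_add, smul_smul]
    rw [mul_comm γ α, mul_comm γ β, mul_comm δ α, mul_comm δ β]
    abel
  have h4 : ρ c (ρ b v) = 0 := E.eq_neg (by nth_rewrite 2 [h3]; exact h v)
  have h5 : ρ b v = 0 := by rw [← inv_ap ρ c (ρ b v), h4, map_zero]
  have h6 : v = 0 := by rw [← inv_ap ρ b v, h5, map_zero]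
  exact T.ne_zero h6

/-- **the class-2 lemma** -/
theorem class2 [FiniteDimensional F V] (E : Env B ρ) {x : G} {v : V} (T : Thr B ρ x v) {M : Subgroup G} (hM : IsPGroup 2 M)
    (hxM : ∀ n ∈ M, x * n * x⁻¹ ∈ M) (hsq : ∀ n ∈ M, n * n ∈ Subgroup.center G)
    (hcom : ∀ n ∈ M, ∀ m ∈ M, n * m * n⁻¹ * m⁻¹ ∈ Subgroup.center G)
    (hI : ∀ b ∈ M, b ∉ Subgroup.center G → ∃ c ∈ M, c * b ≠ b * c) {b₀ : G} (hb₀ : b₀ ∈ M)
    (hb₀' : b₀ ∉ Subgroup.center G) : False := by
  by_cases hx : ∀ n ∈ M, x * n = n * x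
  · obtain ⟨c, hc, hcb⟩ := hI _ hb₀ hb₀'
    exact T.not_anti E (hx _ hb₀) (hx _ hc) (E.anti (hcom c hc b₀ hb₀) hcb)
  obtain ⟨a, ha, hab⟩ : ∃ a ∈ M, x * (x * a * x⁻¹ * a⁻¹) ≠ (x * a * x⁻¹ * a⁻¹) * x := by
    by_contra hcon
    push Not at hcon
    apply hx
    intro a ha
    have h1 := hcon a ha
    obtain ⟨k, hk⟩ := hM ⟨x * a * x⁻¹ * a⁻¹, M.mul_mem (hxM a ha) (M.inv_mem ha)⟩
    exact comm_of_comm T.x3 rfl (congrArg Subtype.val hk) h1
  obtain ⟨b, hb⟩ : ∃ b, b = x * a * x⁻¹ * a⁻¹ := ⟨_, rfl⟩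
  rw [← hb] at hab
  have hbM : b ∈ M := hb ▸ M.mul_mem (hxM a ha) (M.inv_mem ha)
  have hbZ : b ∉ Subgroup.center G := fun h => hab (Subgroup.mem_center_iff.1 h x)
  have T' := T.conj E a
  -- the fixed space
  let K : Submodule F V := LinearMap.ker (ρ x - 1) ⊓ LinearMap.ker (ρ (a * x * a⁻¹) - 1)
  have hK4 : 4 ≤ finrank F K := by
    have h1 := Submodule.finrank_sup_add_finrank_inf_eq (LinearMap.ker (ρ x - 1)) (LinearMap.ker (ρ (a * x * a⁻¹) - 1))
    have h2 := (LinearMap.ker (ρ x - 1) ⊔ LinearMap.ker (ρ (a * x * a⁻¹) - 1)).finrank_le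
    have h3 := T.six_le E
    have h4 := T'.six_le E
    rw [E.dim] at h2
    show 4 ≤ finrank F (LinearMap.ker (ρ x - 1) ⊓ LinearMap.ker (ρ (a * x * a⁻¹) - 1) : Submodule F V)
    omega
  have hKb : ∀ u ∈ K, ρ b u = u := by
    rintro u ⟨h1, h2⟩
    rw [SetLike.mem_coe, mem_ker_sub] at h1 h2
    have h3 : b = x * (a * x * a⁻¹)⁻¹ := by rw [hb]; group
    have h4 : ρ (a * x * a⁻¹)⁻¹ u = u := by nth_rewrite 1 [← h2]; rw [inv_ap]
    rw [h3, mul_ap, h4, h1]
  have hb2 : ρ (b * b) = 1 := by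
    rcases (E.cen _).1 (hsq b hbM) with h | h
    · exact h
    · exfalso
      have hne : K ≠ ⊥ := by
        intro h0
        rw [h0, finrank_bot] at hK4
        omega
      obtain ⟨u, hu, hu0⟩ := Submodule.exists_mem_ne_zero_of_ne_bot hne
      apply hu0
      apply E.eq_neg
      have h1 := congrArg (fun f : V →ₗ[F] V => f u) h
      simp only [mul_ap, hKb u hu] at h1
      exact h1
  have hbb : ∀ u, ρ b (ρ b u) = u := fun u => by rw [← mul_ap, hb2]; rfl
  obtain ⟨c, hc, hcb⟩ := hI b hbM hbZ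
  have hanti := E.anti (hcom c hc b hbM) hcb
  -- dimensions
  let P : Submodule F V := LinearMap.ker (ρ b - 1)
  let P' : Submodule F V := LinearMap.ker (ρ b + 1)
  have memP' : ∀ u, u ∈ P' ↔ ρ b u = -u := by
    intro u
    show u ∈ LinearMap.ker (ρ b + 1) ↔ _
    rw [LinearMap.mem_ker, LinearMap.add_apply, Module.End.one_apply, add_eq_zero_iff_eq_neg]
  have hcinj : Function.Injective (ρ c) := fun u w h => by rw [← inv_ap ρ c u, h, inv_ap]
  have h1 : finrank F P ≤ finrank F P' := by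
    have h2 : P.map (ρ c) ≤ P' := by
      rintro _ ⟨u, hu, rfl⟩
      have hu' : ρ b u = u := mem_ker_sub.1 hu
      rw [memP', ← neg_eq_iff_eq_neg, ← hanti, hu']
    rw [LinearEquiv.finrank_eq (Submodule.equivMapOfInjective (ρ c) hcinj P)]
    exact Submodule.finrank_mono h2
  have h2 : finrank F P ≤ 4 := by
    have h3 := Submodule.finrank_sup_add_finrank_inf_eq P P'
    have h4 := (P ⊔ P').finrank_le
    have h5 : P ⊓ P' = ⊥ := by
      rw [eq_bot_iff]
      rintro u ⟨hu, hu'⟩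
      have e1 : ρ b u = u := mem_ker_sub.1 hu
      have e2 := (memP' u).1 hu'
      exact E.eq_neg (e1.symm.trans e2)
    rw [h5, finrank_bot] at h3
    rw [E.dim] at h4
    omega
  have hKP : K = P := Submodule.eq_of_le_of_finrank_le (fun u hu => mem_ker_sub.2 (hKb u hu)) (h2.trans hK4)
  have hPx : ∀ u, ρ b u = u → ρ x u = u := by
    intro u hu
    have h3 : u ∈ P := mem_ker_sub.2 hu
    rw [← hKP] at h3
    exact mem_ker_sub.1 h3.1
  apply hab
  apply E.inj
  apply LinearMap.ext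
  intro u
  rw [mul_ap, mul_ap]
  have e1 : ∀ w, ρ b (w + ρ b w) = w + ρ b w := fun w => by rw [map_add, hbb, add_comm]
  have e2 := hPx _ (e1 u)
  have e3 : ρ x u + ρ b (ρ x u) = u + ρ b u := by
    rw [← sub_eq_zero]
    apply E.nd
    intro k
    have key : ∀ y k, ρ b y = y → B y k = (2 : F)⁻¹ * B y (k + ρ b k) := by
      intro y k hy
      have h3 : B y (ρ b k) = B y k := by
        nth_rewrite 1 [← hy]
        exact E.iso _ _ _
      rw [map_add, h3, ← two_mul, ← mul_assoc, inv_mul_cancel₀ E.two, one_mul]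
    have key2 : ∀ w k, ρ b k = k → B (w + ρ b w) k = 2 * B w k := by
      intro w k hk
      have h3 : B (ρ b w) k = B w k := by
        nth_rewrite 1 [← hk]
        exact E.iso _ _ _
      rw [map_add, LinearMap.add_apply, h3, two_mul]
    rw [key _ k (by rw [map_sub, e1, e1]), map_sub, LinearMap.sub_apply, key2 _ _ (e1 k), key2 _ _ (e1 k)]
    have h3 : B (ρ x u) (k + ρ b k) = B u (k + ρ b k) := by
      nth_rewrite 1 [← hPx _ (e1 k)]
      exact E.iso _ _ _
    rw [h3, sub_self, mul_zero]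
  rw [map_add] at e2
  have e4 : ρ x (ρ b u) = u + ρ b u - ρ x u := eq_sub_of_add_eq' e2
  rw [e4, ← e3]
  abel

end Cfsg.Agent.H358.D4
end

-- part: H358/D4/Sys
section
/-!
# S4311, BOX A: systems of imprimitivity of orthogonal subspaces (helper358)

`Sys B ρ H O`: `O` is a set of proper nonzero mutually orthogonal subspaces with sum `V`, permuted transitively by `H`.
`exists_sys`: it exists if `H` is irreducible and normalises a noncentral elementary abelian 2-group.
-/

set_option autoImplicit false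

namespace Cfsg.Agent.H358.D4

open Module Cfsg.Agent.H167.OP

variable {F : Type*} [Field F] {V : Type*} [AddCommGroup V] [Module F V] {G : Type*} [Group G]
  {B : V →ₗ[F] V →ₗ[F] F} {ρ : Representation F G V}

/-- transitive orthogonal systems -/
structure Sys (B : V →ₗ[F] V →ₗ[F] F) (ρ : Representation F G V) (H : Subgroup G) (O : Set (Submodule F V)) : Prop where
  orth : ∀ W ∈ O, ∀ W' ∈ O, W ≠ W' → ∀ u ∈ W, ∀ w ∈ W', B u w = 0
  inv : ∀ W ∈ O, ∀ h ∈ H, W.map (ρ h) ∈ O
  top : ∀ S : Submodule F V, (∀ W ∈ O, W ≤ S) → S = ⊤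
  trans : ∀ W ∈ O, ∀ W' ∈ O, ∃ h ∈ H, W.map (ρ h) = W'
  ne : O.Nonempty
  ntop : ∀ W ∈ O, W ≠ ⊤
  nbot : ∀ W ∈ O, W ≠ ⊥

theorem map_map (g h : G) (W : Submodule F V) : (W.map (ρ g)).map (ρ h) = W.map (ρ (h * g)) := by
  rw [map_mul, Module.End.mul_eq_comp, Submodule.map_comp]

theorem map_one' (W : Submodule F V) : W.map (ρ 1) = W := by
  rw [map_one]; exact Submodule.map_id _

/-! ### joint eigenspaces -/

/-- the joint eigenspace -/
def Ws (ρ : Representation F G V) (A : Subgroup G) (χ : G → F) : Submodule F V where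
  carrier := {u | ∀ a ∈ A, ρ a u = χ a • u}
  zero_mem' := fun a _ => by rw [map_zero, smul_zero]
  add_mem' := fun {u w} hu hw a ha => by rw [map_add, hu a ha, hw a ha, smul_add]
  smul_mem' := fun c u hu a ha => by rw [map_smul, hu a ha, smul_comm]

theorem mem_Ws {A : Subgroup G} {χ : G → F} {u : V} : u ∈ Ws ρ A χ ↔ ∀ a ∈ A, ρ a u = χ a • u := Iff.rfl

theorem Ws_congr {A : Subgroup G} {χ χ' : G → F} (h : ∀ a ∈ A, χ a = χ' a) : Ws ρ A χ = Ws ρ A χ' := by
  ext u
  rw [mem_Ws, mem_Ws]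
  exact ⟨fun h' a ha => by rw [h' a ha, h a ha], fun h' a ha => by rw [h' a ha, h a ha]⟩

theorem map_Ws {A : Subgroup G} {h : G} (hA : ∀ a ∈ A, h * a * h⁻¹ ∈ A) (hA' : ∀ a ∈ A, h⁻¹ * a * h ∈ A) (χ : G → F) :
    (Ws ρ A χ).map (ρ h) = Ws ρ A (fun a => χ (h⁻¹ * a * h)) := by
  ext u
  constructor
  · rintro ⟨w, hw, rfl⟩ a ha
    have h1 := hw _ (hA' a ha)
    rw [← map_smul, ← h1, ← mul_ap, ← mul_ap]
    congr 2
    group
  · intro hu
    refine ⟨ρ h⁻¹ u, fun a ha => ?_, ap_inv ρ h u⟩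
    have h1 := hu _ (hA a ha)
    have h2 : h⁻¹ * (h * a * h⁻¹) * h = a := by group
    dsimp only at h1
    rw [h2] at h1
    rw [← map_smul, ← h1, ← mul_ap, ← mul_ap]
    congr 2
    group

theorem exists_eig [Finite G] (E : Env B ρ) {A : Subgroup G} (hA2 : ∀ a ∈ A, a * a = 1)
    (hab : ∀ a ∈ A, ∀ b ∈ A, a * b = b * a) : ∃ v : V, v ≠ 0 ∧ ∀ a ∈ A, ρ a v = v ∨ ρ a v = -v := by
  classical
  have key : ∀ s : Finset G, (∀ a ∈ s, a ∈ A) → ∃ v : V, v ≠ 0 ∧ ∀ a ∈ s, ρ a v = v ∨ ρ a v = -v := by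
    intro s
    induction s using Finset.induction_on with
    | empty =>
      intro _
      have h1 : 0 < finrank F V := by rw [E.dim]; norm_num
      have : Nontrivial V := Module.nontrivial_of_finrank_pos h1
      obtain ⟨v, hv⟩ := exists_ne (0 : V)
      exact ⟨v, hv, fun a ha => absurd ha (Finset.notMem_empty a)⟩
    | insert a s _ ih =>
      intro hs
      obtain ⟨v, hv, hvs⟩ := ih fun b hb => hs b (Finset.mem_insert_of_mem hb)
      have ha : a ∈ A := hs a (Finset.mem_insert_self a s)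
      by_cases h0 : v + ρ a v = 0
      · refine ⟨v, hv, fun b hb => ?_⟩
        rcases Finset.mem_insert.1 hb with rfl | hb
        · exact Or.inr (eq_neg_of_add_eq_zero_right h0)
        · exact hvs b hb
      · refine ⟨v + ρ a v, h0, fun b hb => ?_⟩
        rcases Finset.mem_insert.1 hb with rfl | hb'
        · left
          rw [map_add, ← mul_ap, hA2 _ ha, one_ap, add_comm]
        · have hbA : b ∈ A := hs b hb
          rw [map_add, ← mul_ap, hab b hbA a ha, mul_ap]
          rcases hvs b hb' with h | h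
          · left; rw [h]
          · right; rw [h, map_neg, neg_add]
  have : Fintype G := Fintype.ofFinite G
  obtain ⟨v, hv, h⟩ := key (Finset.univ.filter (· ∈ A)) fun a ha => (Finset.mem_filter.1 ha).2
  exact ⟨v, hv, fun a ha => h a (Finset.mem_filter.2 ⟨Finset.mem_univ a, ha⟩)⟩

theorem exists_sys [Finite G] (E : Env B ρ) {H A : Subgroup G} (hHA : ∀ h ∈ H, ∀ a ∈ A, h * a * h⁻¹ ∈ A)
    (hA2 : ∀ a ∈ A, a * a = 1) (hab : ∀ a ∈ A, ∀ b ∈ A, a * b = b * a) (hA : ∃ a ∈ A, a ∉ Subgroup.center G)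
    (hirr : ∀ W : Submodule F V, W ≠ ⊥ → (∀ h ∈ H, ∀ w ∈ W, ρ h w ∈ W) → W = ⊤) :
    ∃ O : Set (Submodule F V), Sys B ρ H O := by
  classical
  obtain ⟨v, hv, hvA⟩ := exists_eig E hA2 hab
  have hHA' : ∀ h ∈ H, ∀ a ∈ A, h⁻¹ * a * h ∈ A := fun h hh a ha => by
    have := hHA h⁻¹ (H.inv_mem hh) a ha
    rwa [inv_inv] at this
  let χ : G → F := fun a => if ρ a v = v then 1 else -1
  have hχ : ∀ a, χ a = 1 ∨ χ a = -1 := fun a => by
    simp only [χ]
    split_ifs
    · exact Or.inl rfl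
    · exact Or.inr rfl
  have hvW : v ∈ Ws ρ A χ := by
    intro a ha
    simp only [χ]
    split_ifs with h
    · rw [one_smul]; exact h
    · rw [neg_one_smul]; exact (hvA a ha).resolve_left h
  have hmap : ∀ h ∈ H, (Ws ρ A χ).map (ρ h) = Ws ρ A (fun a => χ (h⁻¹ * a * h)) := fun h hh =>
    map_Ws (hHA h hh) (hHA' h hh) χ
  have htop : ∀ S : Submodule F V, (∀ W ∈ {W | ∃ h ∈ H, W = (Ws ρ A χ).map (ρ h)}, W ≤ S) → S = ⊤ := by
    intro S hS
    have h1 := hirr (⨆ h : H, (Ws ρ A χ).map (ρ h)) ?_ ?_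
    · rw [eq_top_iff, ← h1]
      exact iSup_le fun h => hS _ ⟨h, h.2, rfl⟩
    · intro h0
      have h2 : (Ws ρ A χ).map (ρ (1 : H)) ≤ ⨆ h : H, (Ws ρ A χ).map (ρ h) :=
        le_iSup (fun h : H => (Ws ρ A χ).map (ρ (h : G))) 1
      rw [h0] at h2
      have h3 := h2 ⟨v, hvW, rfl⟩
      rw [Submodule.mem_bot] at h3
      apply hv
      rw [← h3, Subgroup.coe_one, one_ap]
    · intro g hg w hw
      have h2 : (⨆ h : H, (Ws ρ A χ).map (ρ h)).map (ρ g) ≤ ⨆ h : H, (Ws ρ A χ).map (ρ h) := by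
        rw [Submodule.map_iSup]
        refine iSup_le fun h => ?_
        rw [map_map]
        exact (le_iSup (fun h : H => (Ws ρ A χ).map (ρ (h : G))) (⟨g, hg⟩ * h :) :)
      exact h2 ⟨w, hw, rfl⟩
  refine ⟨{W | ∃ h ∈ H, W = (Ws ρ A χ).map (ρ h)}, ⟨?_, ?_, htop, ?_, ?_, ?_, ?_⟩⟩
  · rintro _ ⟨g, hg, rfl⟩ _ ⟨h, hh, rfl⟩ hne u hu w hw
    rw [hmap g hg] at hne hu
    rw [hmap h hh] at hne hw
    obtain ⟨a, ha, hane⟩ : ∃ a ∈ A, χ (g⁻¹ * a * g) ≠ χ (h⁻¹ * a * h) := by
      by_contra hcon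
      push Not at hcon
      exact hne (Ws_congr hcon)
    have h1 := E.iso a u w
    rw [hu a ha, hw a ha, map_smul, map_smul, LinearMap.smul_apply, smul_eq_mul, smul_eq_mul, ← mul_assoc] at h1
    have h2 : χ (h⁻¹ * a * h) * χ (g⁻¹ * a * g) = -1 := by
      rcases hχ (g⁻¹ * a * g) with h3 | h3 <;> rcases hχ (h⁻¹ * a * h) with h4 | h4
      · exact absurd (h3.trans h4.symm) hane
      · rw [h3, h4, mul_one]
      · rw [h3, h4, one_mul]
      · exact absurd (h3.trans h4.symm) hane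
    rw [h2, neg_one_mul] at h1
    have h3 : (2 : F) * B u w = 0 := by
      rw [two_mul]
      nth_rewrite 1 [← h1]
      exact neg_add_cancel _
    exact (mul_eq_zero.1 h3).resolve_left E.two
  · rintro _ ⟨g, hg, rfl⟩ h hh
    exact ⟨h * g, H.mul_mem hh hg, map_map _ _ _⟩
  · rintro _ ⟨g, hg, rfl⟩ _ ⟨h, hh, rfl⟩
    refine ⟨h * g⁻¹, H.mul_mem hh (H.inv_mem hg), ?_⟩
    rw [map_map]
    congr 2
    group
  · exact ⟨_, 1, H.one_mem, rfl⟩
  · rintro _ ⟨g, hg, rfl⟩ h0
    obtain ⟨a, ha, haZ⟩ := hA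
    apply haZ
    rw [hmap g hg] at h0
    have h1 : ∀ u, ρ a u = χ (g⁻¹ * a * g) • u := by
      intro u
      have : u ∈ Ws ρ A (fun a => χ (g⁻¹ * a * g)) := by rw [h0]; trivial
      exact this a ha
    rw [E.cen]
    rcases hχ (g⁻¹ * a * g) with h2 | h2
    · left
      apply LinearMap.ext
      intro u
      rw [h1, h2, one_smul]; rfl
    · right
      apply LinearMap.ext
      intro u
      rw [h1, h2, neg_one_smul]; rfl
  · rintro _ ⟨g, hg, rfl⟩ h0
    have h1 : ρ g v ∈ (Ws ρ A χ).map (ρ g) := ⟨v, hvW, rfl⟩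
    rw [h0, Submodule.mem_bot] at h1
    apply hv
    rw [← inv_ap ρ g v, h1, map_zero]

/-! ### consequences -/

variable {H : Subgroup G} {O : Set (Submodule F V)}

theorem Sys.nd (E : Env B ρ) (S : Sys B ρ H O) {W : Submodule F V} (hW : W ∈ O) {u : V} (hu : u ∈ W)
    (h : ∀ w ∈ W, B u w = 0) : u = 0 := by
  apply E.nd
  intro w
  have h1 : LinearMap.ker (B u) = ⊤ := by
    apply S.top
    intro W' hW' w hw
    rw [LinearMap.mem_ker]
    by_cases h2 : W = W'
    · subst h2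
      exact h w hw
    · exact S.orth W hW W' hW' h2 u hu w hw
  have h2 : w ∈ LinearMap.ker (B u) := by rw [h1]; trivial
  exact h2

theorem Sys.indep (E : Env B ρ) (S : Sys B ρ H O) : iSupIndep fun W : O => (W : Submodule F V) := by
  rw [iSupIndep_def]
  rintro ⟨W, hW⟩
  rw [Submodule.disjoint_def]
  intro u hu hu'
  apply S.nd E hW hu
  intro w hw
  have h1 : (⨆ j : O, ⨆ _ : j ≠ ⟨W, hW⟩, (j : Submodule F V)) ≤ LinearMap.ker (B w) := by
    refine iSup_le fun j => iSup_le fun hj => ?_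
    intro y hy
    rw [LinearMap.mem_ker]
    exact S.orth W hW j j.2 (fun h => hj (Subtype.ext h.symm)) w hw y hy
  rw [E.symm]
  exact h1 hu'

theorem Sys.finrank_eq (S : Sys B ρ H O) {W W' : Submodule F V} (hW : W ∈ O) (hW' : W' ∈ O) :
    finrank F W = finrank F W' := by
  obtain ⟨h, hh, rfl⟩ := S.trans W hW W' hW'
  have hinj : Function.Injective (ρ h) := fun u w hu => by rw [← inv_ap ρ h u, hu, inv_ap]
  exact LinearEquiv.finrank_eq (Submodule.equivMapOfInjective (ρ h) hinj W)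

theorem Sys.card_mul [Finite V] (E : Env B ρ) (S : Sys B ρ H O) {W : Submodule F V} (hW : W ∈ O) :
    Nat.card O * finrank F W = 8 := by
  classical
  have : FiniteDimensional F V := FiniteDimensional.of_finrank_pos (by rw [E.dim]; norm_num)
  have : Finite (Submodule F V) := Finite.of_injective (fun W => (W : Set V)) SetLike.coe_injective
  have : Fintype O := Fintype.ofFinite O
  have h1 : (⨆ W : O, (W : Submodule F V)) = ⊤ := S.top _ fun W hW =>
    le_iSup (fun W : O => (W : Submodule F V)) ⟨W, hW⟩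
  have hint := DirectSum.isInternal_submodule_of_iSupIndep_of_iSup_eq_top (S.indep E) h1
  let e : (DirectSum O fun W => (W : Submodule F V)) ≃ₗ[F] V :=
    LinearEquiv.ofBijective (DirectSum.coeLinearMap fun W : O => (W : Submodule F V)) hint
  have h2 := e.finrank_eq
  rw [Module.finrank_directSum, E.dim, Finset.sum_congr rfl fun (W' : O) _ => S.finrank_eq W'.2 hW, Finset.sum_const,
    Finset.card_univ, smul_eq_mul] at h2
  rw [Nat.card_eq_fintype_card]
  exact h2

/-- a moved member has three different translates under an element of order three -/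
theorem Sys.three {x : G} (hx : x ^ 3 = 1) {W : Submodule F V} (h : W.map (ρ x) ≠ W) :
    W ≠ W.map (ρ (x ^ 2)) ∧ W.map (ρ x) ≠ W.map (ρ (x ^ 2)) := by
  constructor
  · intro h1
    apply h
    nth_rewrite 1 [h1]
    rw [map_map, ← pow_succ', hx, map_one']
  · intro h1
    apply h
    have h2 := congrArg (fun U : Submodule F V => U.map (ρ (x ^ 2))) h1
    rw [map_map, map_map, ← pow_succ, ← pow_add, hx, map_one'] at h2
    have h3 : x ^ (2 + 2) = x := by
      rw [show 2 + 2 = 3 + 1 from rfl, pow_add, hx, one_mul, pow_one]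
    rw [h3] at h2
    exact h2.symm

/-- **elements of rank two fix all members of dimension at least two** -/
theorem Sys.fix [FiniteDimensional F V] (E : Env B ρ) (S : Sys B ρ H O) {x : G} {v : V} (T : Thr B ρ x v) (hx : x ∈ H)
    {W : Submodule F V} (hW : W ∈ O) (h2 : 2 ≤ finrank F W) : W.map (ρ x) = W := by
  by_contra hne
  obtain ⟨h3, h4⟩ := Sys.three T.x3 hne
  have hx1 : W.map (ρ x) ∈ O := S.inv W hW x hx
  have hx2 : W.map (ρ (x ^ 2)) ∈ O := S.inv W hW _ (H.pow_mem hx 2)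
  have h5 := le_rk ρ x W 2 (fun w hw h0 => by
    rw [Finset.sum_range_succ, Finset.sum_range_succ, Finset.sum_range_one, pow_zero, pow_one, one_ap] at h0
    have a1 : w 0 = 0 := by
      apply S.nd E hW (hw 0)
      intro k hk
      have e1 : w 0 = -(ρ x (w 1) + ρ (x ^ 2) (w 2)) := by
        rw [eq_neg_iff_add_eq_zero, ← h0]; abel
      rw [e1, map_neg, map_add, LinearMap.neg_apply, LinearMap.add_apply,
        S.orth _ hx1 _ hW hne _ ⟨w 1, hw 1, rfl⟩ k hk, S.orth _ hx2 _ hW (Ne.symm h3) _ ⟨w 2, hw 2, rfl⟩ k hk,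
        add_zero, neg_zero]
    have a2 : ρ x (w 1) = 0 := by
      apply S.nd E hx1 ⟨w 1, hw 1, rfl⟩
      intro k hk
      have e1 : ρ x (w 1) = -(w 0 + ρ (x ^ 2) (w 2)) := by
        rw [eq_neg_iff_add_eq_zero, ← h0]; abel
      rw [e1, map_neg, map_add, LinearMap.neg_apply, LinearMap.add_apply,
        S.orth _ hW _ hx1 (Ne.symm hne) _ (hw 0) k hk, S.orth _ hx2 _ hx1 (Ne.symm h4) _ ⟨w 2, hw 2, rfl⟩ k hk,
        add_zero, neg_zero]
    have a3 : ρ (x ^ 2) (w 2) = 0 := by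
      rw [a1, a2, zero_add, zero_add] at h0
      exact h0
    intro i hi
    interval_cases i
    · exact a1
    · rw [← inv_ap ρ x (w 1), a2, map_zero]
    · rw [← inv_ap ρ (x ^ 2) (w 2), a3, map_zero])
  have h6 := T.finrank_range
  omega

/-- **if `x` fixes all members, `[V,x]` is contained in one of them** -/
theorem Sys.le (E : Env B ρ) [FiniteDimensional F V] (S : Sys B ρ H O) {x : G} {v : V} (T : Thr B ρ x v)
    (hx : ∀ W ∈ O, W.map (ρ x) = W) : ∃ W ∈ O, LinearMap.range (ρ x - 1) ≤ W ∧ 2 ≤ finrank F (LinearMap.range (ρ x - 1)) := by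
  obtain ⟨W, hW, y, hy, hyy⟩ : ∃ W ∈ O, ∃ y ∈ W, B (ρ x y - y) (ρ x y - y) ≠ 0 := by
    by_contra hcon
    push Not at hcon
    have h1 : ∀ W ∈ O, ∀ y ∈ W, ∀ y' ∈ W, B (ρ x y - y) (ρ x y' - y') = 0 := by
      intro W hW y hy y' hy'
      have e1 := hcon W hW y hy
      have e2 := hcon W hW y' hy'
      have e3 := hcon W hW (y + y') (W.add_mem hy hy')
      have e4 : ρ x (y + y') - (y + y') = (ρ x y - y) + (ρ x y' - y') := by rw [map_add]; abel
      rw [e4, map_add, map_add, LinearMap.add_apply, LinearMap.add_apply, e1, e2, E.symm (ρ x y' - y')] at e3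
      have e5 : (2 : F) * B (ρ x y - y) (ρ x y' - y') = 0 := by linear_combination e3
      exact (mul_eq_zero.1 e5).resolve_left E.two
    have hxW : ∀ W ∈ O, ∀ y ∈ W, ρ x y - y ∈ W := by
      intro W hW y hy
      refine W.sub_mem ?_ hy
      have : ρ x y ∈ W.map (ρ x) := ⟨y, hy, rfl⟩
      rwa [hx W hW] at this
    have h2 : ∀ W ∈ O, ∀ y ∈ W, ∀ y', B (ρ x y - y) (ρ x y' - y') = 0 := by
      intro W hW y hy y'
      have h3 : LinearMap.ker ((B (ρ x y - y)).comp (ρ x - 1)) = ⊤ := by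
        apply S.top
        intro W' hW' y' hy'
        rw [LinearMap.mem_ker]
        show B (ρ x y - y) (ρ x y' - y') = 0
        by_cases hne : W = W'
        · subst hne
          exact h1 W hW y hy y' hy'
        · exact S.orth W hW W' hW' hne _ (hxW W hW y hy) _ (hxW W' hW' y' hy')
      have h4 : y' ∈ LinearMap.ker ((B (ρ x y - y)).comp (ρ x - 1)) := by rw [h3]; trivial
      exact h4
    have h3 : ∀ y y', B (ρ x y - y) (ρ x y' - y') = 0 := by
      intro y y'
      have h4 : LinearMap.ker ((B (ρ x y' - y')).comp (ρ x - 1)) = ⊤ := by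
        apply S.top
        intro W hW y hy
        rw [LinearMap.mem_ker]
        show B (ρ x y' - y') (ρ x y - y) = 0
        rw [E.symm]
        exact h2 W hW y hy y'
      have h5 : y ∈ LinearMap.ker ((B (ρ x y' - y')).comp (ρ x - 1)) := by rw [h4]; trivial
      rw [E.symm]
      exact h5
    have h4 := h3 (-(ρ x v + (2 : F) • v)) (-(ρ x v + (2 : F) • v))
    rw [T.mem, map_smul, map_smul, LinearMap.smul_apply, smul_eq_mul, smul_eq_mul, ← mul_assoc] at h4
    exact T.nz ((mul_eq_zero.1 h4).resolve_left (mul_ne_zero E.three E.three))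
  have hxW : ∀ y ∈ W, ρ x y ∈ W := by
    intro y hy
    have : ρ x y ∈ W.map (ρ x) := ⟨y, hy, rfl⟩
    rwa [hx W hW] at this
  -- `u = x y - y`
  obtain ⟨u, hu⟩ : ∃ u, u = ρ x y - y := ⟨_, rfl⟩
  rw [← hu] at hyy
  have huW : u ∈ W := by rw [hu]; exact W.sub_mem (hxW y hy) hy
  have hrel : ρ x (ρ x u) = -(u + ρ x u) := by
    have e1 : ρ x (ρ x (ρ x y)) = y := by
      rw [← mul_ap, ← mul_ap, ← pow_two, ← pow_succ, T.x3, one_ap]
    rw [hu, map_sub, map_sub, e1]
    abel
  have hli : LinearIndependent F ![u, ρ x u] := by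
    rw [LinearIndependent.pair_iff]
    intro s t hst
    have hb : B u (ρ x u) = B (ρ x u) (ρ x (ρ x u)) := (E.iso x _ _).symm
    have hb2 : B (ρ x u) (ρ x u) = B u u := E.iso x _ _
    rw [hrel, map_neg, map_add, hb2, E.symm (ρ x u) u] at hb
    have hb3 : 2 * B u (ρ x u) = -B u u := by linear_combination hb
    have e1 := congrArg (B u) hst
    have e2 := congrArg (B (ρ x u)) hst
    rw [map_add, map_smul, map_smul, map_zero, smul_eq_mul, smul_eq_mul] at e1 e2
    rw [hb2, E.symm (ρ x u) u] at e2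
    -- `2 s - t = 0`, `- s + 2 t = 0` times `B u u`
    have f1 : B u u * (2 * s - t) = 0 := by linear_combination 2 * e1 - t * hb3
    have f2 : B u u * (2 * t - s) = 0 := by linear_combination 2 * e2 - s * hb3
    have g1 := (mul_eq_zero.1 f1).resolve_left hyy
    have g2 := (mul_eq_zero.1 f2).resolve_left hyy
    have k1 : 3 * s = 0 := by linear_combination 2 * g1 + g2
    have k2 : 3 * t = 0 := by linear_combination 2 * g2 + g1
    exact ⟨(mul_eq_zero.1 k1).resolve_left E.three, (mul_eq_zero.1 k2).resolve_left E.three⟩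
  have hspan : finrank F (Submodule.span F (Set.range ![u, ρ x u])) = 2 := by
    rw [finrank_span_eq_card hli, Fintype.card_fin]
  have hle : Submodule.span F (Set.range ![u, ρ x u]) ≤ LinearMap.range (ρ x - 1) := by
    rw [Submodule.span_le]
    rintro _ ⟨i, rfl⟩
    fin_cases i
    · exact ⟨y, hu.symm⟩
    · refine ⟨ρ x y, ?_⟩
      show ρ x (ρ x y) - ρ x y = ρ x u
      rw [hu, map_sub]
  have heq := Submodule.eq_of_le_of_finrank_le hle (by rw [hspan]; exact T.finrank_range)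
  refine ⟨W, hW, ?_, ?_⟩
  · rw [← heq, Submodule.span_le]
    rintro _ ⟨i, rfl⟩
    fin_cases i
    · exact huW
    · exact hxW u huW
  · rw [← heq, hspan]

end Cfsg.Agent.H358.D4
end

-- part: H358/D4/Dims
section
/-!
# S4311, BOX A: the dimension of the members is two (helper358)

`Sys.one`: eight lines: `27 ∤ |H|`.  `Sys.four`: two 4-spaces are impossible if `H` contains elements `x`, `w` of order three, `x` of rank two,
with `[V,x]` and `w [V,x]` orthogonal.  `Sys.dec`: the decomposition.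
-/

set_option autoImplicit false

namespace Cfsg.Agent.H358.D4

open Module Cfsg.Agent.H167.OP

variable {F : Type*} [Field F] {V : Type*} [AddCommGroup V] [Module F V] {G : Type*} [Group G]
  {B : V →ₗ[F] V →ₗ[F] F} {ρ : Representation F G V} {H : Subgroup G} {O : Set (Submodule F V)}

/-- the permutation action on the members -/
def Sys.perm (S : Sys B ρ H O) : H →* Equiv.Perm O where
  toFun h :=
    { toFun := fun W => ⟨(W : Submodule F V).map (ρ h), S.inv W W.2 h h.2⟩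
      invFun := fun W => ⟨(W : Submodule F V).map (ρ h⁻¹), S.inv W W.2 _ (H.inv_mem h.2)⟩
      left_inv := fun W => Subtype.ext (by
        show ((W : Submodule F V).map (ρ h)).map (ρ (h : G)⁻¹) = _
        rw [map_map, inv_mul_cancel, map_one'])
      right_inv := fun W => Subtype.ext (by
        show ((W : Submodule F V).map (ρ (h : G)⁻¹)).map (ρ h) = _
        rw [map_map, mul_inv_cancel, map_one']) }
  map_one' := Equiv.ext fun W => Subtype.ext (map_one' _)
  map_mul' g h := Equiv.ext fun W => Subtype.ext (map_map _ _ _).symm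

theorem Sys.one [Finite G] (E : Env B ρ) (S : Sys B ρ H O) (h1 : ∀ W ∈ O, finrank F W = 1) (h8 : Nat.card O = 8) :
    ¬ 27 ∣ Nat.card H := by
  intro hd
  have hfO : Finite O := Nat.finite_of_card_ne_zero (by rw [h8]; norm_num)
  have hker : IsPGroup 2 S.perm.ker := by
    rintro ⟨h, hh⟩
    refine ⟨1, ?_⟩
    apply Subtype.ext
    apply Subtype.ext
    show (h : G) ^ 2 ^ 1 = 1
    rw [pow_one, pow_two]
    apply E.inj
    rw [map_one]
    apply LinearMap.ext
    intro u
    have htop : LinearMap.ker (ρ ((h : G) * h) - 1) = ⊤ := by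
      apply S.top
      intro W hW w hw
      rw [mem_ker_sub]
      have e1 : W.map (ρ (h : G)) = W := by
        have := congrArg (fun σ : Equiv.Perm O => ((σ ⟨W, hW⟩ : O) : Submodule F V)) (MonoidHom.mem_ker.1 hh)
        exact this
      obtain ⟨l, hl⟩ := finrank_eq_one_iff'.1 (h1 W hW)
      obtain ⟨hl0, hl⟩ := hl
      have hl0' : (l : V) ≠ 0 := fun h => hl0 (Subtype.ext h)
      have e2 : ρ (h : G) l ∈ W := e1.le ⟨l, l.2, rfl⟩
      obtain ⟨c, hc⟩ := hl ⟨_, e2⟩
      have hc' : c • (l : V) = ρ (h : G) l := congrArg Subtype.val hc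
      have hBl : B l l ≠ 0 := by
        intro h0
        apply hl0'
        apply S.nd E hW l.2
        intro w hw
        obtain ⟨d, hd⟩ := hl ⟨w, hw⟩
        have hd' : d • (l : V) = w := congrArg Subtype.val hd
        rw [← hd', map_smul, h0, smul_zero]
      have hcc : c * c = 1 := by
        have e3 := E.iso (h : G) l l
        rw [← hc', map_smul, map_smul, LinearMap.smul_apply, smul_eq_mul, smul_eq_mul, ← mul_assoc] at e3
        exact (mul_eq_right₀ hBl).1 e3
      obtain ⟨d, hd⟩ := hl ⟨w, hw⟩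
      have hd' : d • (l : V) = w := congrArg Subtype.val hd
      rw [← hd', map_smul, mul_ap, ← hc', map_smul, ← hc', smul_smul c c, hcc, one_smul]
    have : u ∈ LinearMap.ker (ρ ((h : G) * h) - 1) := by rw [htop]; trivial
    exact mem_ker_sub.1 this
  have : Fact (Nat.Prime 2) := ⟨Nat.prime_two⟩
  obtain ⟨k, hk⟩ := IsPGroup.iff_card.1 hker
  have hcard : Nat.card H = 2 ^ k * Nat.card S.perm.range := by
    rw [← hk, ← S.perm.ker.card_mul_index, Subgroup.index_ker]
  rw [hcard] at hd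
  have h3 : 27 ∣ Nat.card S.perm.range :=
    (Nat.Coprime.pow_right k (by norm_num : Nat.Coprime 27 2)).dvd_of_dvd_mul_left hd
  have h4 : Nat.card S.perm.range ∣ Nat.card (Equiv.Perm O) := Subgroup.card_subgroup_dvd_card _
  rw [Nat.card_perm, h8] at h4
  have h5 := h3.trans h4
  revert h5
  decide

/-- orthogonal families of nonisotropic vectors are independent -/
theorem indep_of_orth {J : Type*} [Fintype J] {f : J → V} (h : ∀ i j, i ≠ j → B (f i) (f j) = 0)
    (hn : ∀ i, B (f i) (f i) ≠ 0) : LinearIndependent F f := by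
  classical
  rw [Fintype.linearIndependent_iff]
  intro g hg i
  have h1 := congrArg (B (f i)) hg
  rw [map_sum, map_zero, Finset.sum_eq_single i] at h1
  · rw [map_smul, smul_eq_mul] at h1
    exact (mul_eq_zero.1 h1).resolve_right (hn i)
  · intro j _ hj
    rw [map_smul, h i j (Ne.symm hj), smul_zero]
  · intro h; exact absurd (Finset.mem_univ i) h

theorem six [FiniteDimensional F V] (E : Env B ρ) {x w : G} {v : V} (T : Thr B ρ x v) (hw : w ^ 3 = 1)
    (ho : ∀ s ∈ Submodule.span F {v, ρ x v}, ∀ s' ∈ Submodule.span F {v, ρ x v}, B s (ρ w s') = 0)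
    {W : Submodule F V} (hv : ∀ s ∈ Submodule.span F {v, ρ x v}, s ∈ W) (hwW : ∀ s ∈ W, ρ w s ∈ W) :
    6 ≤ finrank F W := by
  have h1 : v ∈ Submodule.span F {v, ρ x v} := Submodule.subset_span (Or.inl rfl)
  have h2 : ρ x v ∈ Submodule.span F {v, ρ x v} := Submodule.subset_span (Or.inr rfl)
  have hB2 : B (ρ x v) (ρ x v) = B v v := E.iso x _ _
  have hB1 : 2 * B v (ρ x v) = -B v v := by
    have e1 : B v (ρ x v) = B (ρ x v) (ρ x (ρ x v)) := (E.iso x _ _).symm
    have e2 : ρ x (ρ x v) = -(v + ρ x v) := by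
      rw [eq_neg_iff_add_eq_zero, ← T.rel]; abel
    rw [e2, map_neg, map_add, hB2, E.symm (ρ x v) v] at e1
    linear_combination e1
  -- the basis `v, v + 2 x v` of `[V,x]`
  let t : Fin 2 → V := ![v, v + (2 : F) • ρ x v]
  have ht : ∀ a, t a ∈ Submodule.span F {v, ρ x v} := by
    intro a
    fin_cases a
    · exact h1
    · exact Submodule.add_mem _ h1 (Submodule.smul_mem _ _ h2)
  have ht1 : B v (v + (2 : F) • ρ x v) = 0 := by
    rw [map_add, map_smul, smul_eq_mul, hB1, add_neg_cancel]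
  have htt : ∀ a b, a ≠ b → B (t a) (t b) = 0 := by
    intro a b hab
    fin_cases a <;> fin_cases b
    · exact absurd rfl hab
    · exact ht1
    · show B (v + (2 : F) • ρ x v) v = 0
      rw [E.symm]; exact ht1
    · exact absurd rfl hab
  have htn : ∀ a, B (t a) (t a) ≠ 0 := by
    intro a
    fin_cases a
    · exact T.nz
    · show B (v + (2 : F) • ρ x v) (v + (2 : F) • ρ x v) ≠ 0
      have : B (v + (2 : F) • ρ x v) (v + (2 : F) • ρ x v) = 3 * B v v := by
        rw [map_add, map_add, map_smul, map_smul, LinearMap.add_apply, LinearMap.smul_apply, LinearMap.add_apply,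
          LinearMap.smul_apply, smul_eq_mul, smul_eq_mul, smul_eq_mul, hB2, E.symm (ρ x v) v]
        linear_combination 2 * hB1
      rw [this]
      exact mul_ne_zero E.three T.nz
  have ho1 : ∀ a b, B (t a) (ρ w (t b)) = 0 := fun a b => ho _ (ht a) _ (ht b)
  have ho2 : ∀ a b, B (t a) (ρ w (ρ w (t b))) = 0 := by
    intro a b
    rw [← E.iso w, ← mul_ap, ← mul_ap, ← pow_two, ← pow_succ, hw, one_ap, E.symm]
    exact ho1 b a
  have hpos : ∀ i : Fin 3, ∀ a b, i ≠ 0 → B (t a) (ρ (w ^ (i : ℕ)) (t b)) = 0 := by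
    intro i a b hi
    fin_cases i
    · exact absurd rfl hi
    · show B (t a) (ρ (w ^ 1) (t b)) = 0
      rw [pow_one]; exact ho1 a b
    · show B (t a) (ρ (w ^ 2) (t b)) = 0
      rw [pow_two, mul_ap]; exact ho2 a b
  let f : Fin 3 × Fin 2 → W := fun j => ⟨ρ (w ^ (j.1 : ℕ)) (t j.2), by
    have h3 : ∀ n : ℕ, ρ (w ^ n) (t j.2) ∈ W := by
      intro n
      induction n with
      | zero => rw [pow_zero, one_ap]; exact hv _ (ht _)
      | succ n ih => rw [pow_succ', mul_ap]; exact hwW _ ih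
    exact h3 _⟩
  have hlt : ∀ i j : Fin 3, ∀ a b, i < j → B (ρ (w ^ (i : ℕ)) (t a)) (ρ (w ^ (j : ℕ)) (t b)) = 0 := by
    intro i j a b hij
    have e1 : (w ^ (j : ℕ)) = w ^ (i : ℕ) * w ^ ((j : ℕ) - i) := by
      rw [← pow_add]; congr 1; have : (i : ℕ) < j := hij; omega
    rw [e1, mul_ap, E.iso]
    have hij' : (i : ℕ) < j := hij
    have e2 := hpos ⟨(j : ℕ) - i, by omega⟩ a b (by
      intro h
      have := congrArg Fin.val h
      simp only [Fin.val_zero] at this
      omega)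
    exact e2
  have hli : LinearIndependent F fun j => (f j : V) := by
    refine indep_of_orth (B := B) ?_ ?_
    · rintro ⟨i, a⟩ ⟨j, b⟩ hij
      show B (ρ (w ^ (i : ℕ)) (t a)) (ρ (w ^ (j : ℕ)) (t b)) = 0
      rcases lt_trichotomy i j with h | h | h
      · exact hlt i j a b h
      · subst h
        rw [E.iso]
        exact htt a b fun h => hij (by rw [h])
      · rw [E.symm]
        exact hlt j i b a h
    · rintro ⟨i, a⟩
      show B (ρ (w ^ (i : ℕ)) (t a)) (ρ (w ^ (i : ℕ)) (t a)) ≠ 0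
      rw [E.iso]
      exact htn a
  have hli' : LinearIndependent F f := LinearIndependent.of_comp W.subtype hli
  have h3 := hli'.fintype_card_le_finrank
  have h4 : Fintype.card (Fin 3 × Fin 2) = 6 := rfl
  rwa [h4] at h3

/-- **the decomposition** -/
theorem Sys.dec [Finite G] [Finite V] (E : Env B ρ) (S : Sys B ρ H O) {x w : G} {v : V} (T : Thr B ρ x v) (hx : x ∈ H)
    (hw3 : w ^ 3 = 1) (hw : w ∈ H)
    (ho : ∀ s ∈ Submodule.span F {v, ρ x v}, ∀ s' ∈ Submodule.span F {v, ρ x v}, B s (ρ w s') = 0)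
    (h27 : 27 ∣ Nat.card H) :
    ∃ U : Fin 4 → Submodule F V, (∀ i j, i ≠ j → ∀ u ∈ U i, ∀ v ∈ U j, B u v = 0) ∧ (∀ i, finrank F (U i) = 2) ∧
      ⨆ i, U i = ⊤ ∧ (∀ i, ∃ y : G, y ^ 3 = 1 ∧ y ≠ 1 ∧ LinearMap.range (ρ y - 1) = U i) ∧
      ∀ h ∈ H, ∀ i, ∃ j, (U i).map (ρ h) = U j := by
  classical
  have : FiniteDimensional F V := FiniteDimensional.of_finrank_pos (by rw [E.dim]; norm_num)
  obtain ⟨W₀, hW₀⟩ := S.ne
  have hc := S.card_mul E hW₀
  have hall : ∀ W ∈ O, finrank F W = finrank F W₀ := fun W hW => S.finrank_eq hW hW₀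
  have hd : finrank F W₀ ∣ 8 := ⟨_, by rw [mul_comm]; exact hc.symm⟩
  have hle : finrank F W₀ ≤ 8 := Nat.le_of_dvd (by norm_num) hd
  have hne8 : finrank F W₀ ≠ 8 := fun h => S.ntop W₀ hW₀ (Submodule.eq_top_of_finrank_eq (by rw [h, E.dim]))
  have hne1 : finrank F W₀ ≠ 1 := fun h => by
    rw [h, mul_one] at hc
    exact S.one E (fun W hW => (hall W hW).trans h) hc h27
  have h24 : finrank F W₀ = 2 ∨ finrank F W₀ = 4 := by
    interval_cases (finrank F W₀) <;> simp_all only [_root_.Nat.card_coe_set_eq, _root_.MulZeroClass.mul_zero, _root_.mul_one, _root_.isUnit_iff_eq_one, _root_.IsUnit.dvd, _root_.Nat.one_le_ofNat, _root_.ne_eq, _root_.OfNat.one_ne_ofNat, _root_.not_false_eq_true, _root_.not_true_eq_false, _root_.Nat.reduceDvd, _root_.Nat.reduceLeDiff, _root_.Nat.reduceEqDiff, _root_.OfNat.ofNat_ne_one, _root_.or_false, _root_.or_true, _root_.OfNat.ofNat_ne_zero, _root_.mul_eq_right₀, _root_.Set.ncard_eq_one, _root_.dvd_refl, _root_.Std.le_refl]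
  have hfix : ∀ W ∈ O, W.map (ρ x) = W := fun W hW => S.fix E T hx hW (by
    rw [hall W hW]; omega)
  obtain ⟨W₁, hW₁, hr, hr2⟩ := S.le E T hfix
  have hne4 : finrank F W₀ ≠ 4 := by
    intro h4
    have hspan : ∀ s ∈ Submodule.span F {v, ρ x v}, s ∈ W₁ := by
      have h1 : v ∈ LinearMap.range (ρ x - 1) := by
        refine ⟨(3 : F)⁻¹ • (-(ρ x v + (2 : F) • v)), ?_⟩
        rw [map_smul]
        show (3 : F)⁻¹ • (ρ x (-(ρ x v + (2 : F) • v)) - -(ρ x v + (2 : F) • v)) = v
        rw [ T.mem, smul_smul, inv_mul_cancel₀ E.three, one_smul]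
      have h2 : ρ x v ∈ LinearMap.range (ρ x - 1) := by
        have : ρ x v = v + (ρ x v - v) := by abel
        rw [this]
        exact Submodule.add_mem _ h1 ⟨v, rfl⟩
      have h3 : Submodule.span F {v, ρ x v} ≤ W₁ := by
        rw [Submodule.span_le]
        rintro s (rfl | rfl)
        · exact hr h1
        · exact hr h2
      exact h3
    have hwfix : W₁.map (ρ w) = W₁ := by
      by_contra hne
      obtain ⟨h5, h6⟩ := Sys.three hw3 hne
      have hc2 : Nat.card O = 2 := by rw [h4] at hc; omega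
      have hfO : Finite O := Nat.finite_of_card_ne_zero (by rw [hc2]; norm_num)
      have := Fintype.ofFinite O
      rw [Nat.card_eq_fintype_card] at hc2
      have h7 : ({⟨W₁, hW₁⟩, ⟨W₁.map (ρ w), S.inv _ hW₁ _ hw⟩, ⟨W₁.map (ρ (w ^ 2)), S.inv _ hW₁ _ (H.pow_mem hw 2)⟩} :
          Finset O).card = 3 := by
        rw [Finset.card_insert_of_notMem, Finset.card_pair]
        · intro h; exact h6 (congrArg Subtype.val h)
        · intro h
          rcases Finset.mem_insert.1 h with h | h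
          · exact hne (congrArg Subtype.val h).symm
          · exact h5 (congrArg Subtype.val (Finset.mem_singleton.1 h))
      have h8 := Finset.card_le_univ ({⟨W₁, hW₁⟩, ⟨W₁.map (ρ w), S.inv _ hW₁ _ hw⟩,
        ⟨W₁.map (ρ (w ^ 2)), S.inv _ hW₁ _ (H.pow_mem hw 2)⟩} : Finset O)
      rw [h7, hc2] at h8
      omega
    have h5 := six E T hw3 ho hspan (fun s hs => by
      have : ρ w s ∈ W₁.map (ρ w) := ⟨s, hs, rfl⟩
      rwa [hwfix] at this)
    rw [hall W₁ hW₁] at h5
    omega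
  have h2 : finrank F W₀ = 2 := h24.resolve_right hne4
  have hc4 : Nat.card O = 4 := by rw [h2] at hc; omega
  have hfO : Finite O := Nat.finite_of_card_ne_zero (by rw [hc4]; norm_num)
  obtain ⟨ε⟩ : Nonempty (Fin 4 ≃ O) := by
    refine ⟨?_⟩
    have := Finite.equivFin O
    rw [hc4] at this
    exact this.symm
  have hW₁r : LinearMap.range (ρ x - 1) = W₁ :=
    Submodule.eq_of_le_of_finrank_le hr (by rw [hall W₁ hW₁, h2]; exact hr2)
  refine ⟨fun i => ε i, ?_, ?_, ?_, ?_, ?_⟩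
  · intro i j hij
    exact S.orth _ (ε i).2 _ (ε j).2 fun h => hij (ε.injective (Subtype.ext h))
  · intro i
    exact (hall _ (ε i).2).trans h2
  · apply S.top
    intro W hW
    have h3 := le_iSup (fun i => (ε i : Submodule F V)) (ε.symm ⟨W, hW⟩)
    rwa [Equiv.apply_symm_apply] at h3
  · intro i
    obtain ⟨h, hh, hhW⟩ := S.trans W₁ hW₁ _ (ε i).2
    refine ⟨h * x * h⁻¹, ?_, ?_, ?_⟩
    · rw [conj_pow, T.x3, mul_one, mul_inv_cancel]
    · intro h1
      have h3 : x = 1 := by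
        have : x = h⁻¹ * (h * x * h⁻¹) * h := by group
        rw [this, h1]; group
      have h4 := T.rel
      rw [h3, one_ap, one_ap] at h4
      have h5 : (3 : F) • v = 0 := by
        have : (3 : F) = 1 + 1 + 1 := by norm_num
        rw [this, add_smul, add_smul, one_smul]
        exact h4
      exact T.ne_zero ((smul_eq_zero.1 h5).resolve_left E.three)
    · show _ = (ε i : Submodule F V)
      rw [← hhW, ← hW₁r]
      ext u
      constructor
      · rintro ⟨y, rfl⟩
        refine ⟨ρ x (ρ h⁻¹ y) - ρ h⁻¹ y, ⟨ρ h⁻¹ y, rfl⟩, ?_⟩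
        show ρ h _ = ρ (h * x * h⁻¹) y - y
        rw [map_sub, ap_inv, mul_ap, mul_ap]
      · rintro ⟨_, ⟨y, rfl⟩, rfl⟩
        refine ⟨ρ h y, ?_⟩
        show ρ (h * x * h⁻¹) (ρ h y) - ρ h y = ρ h (ρ x y - y)
        rw [map_sub, mul_ap, mul_ap, inv_ap]
  · intro h hh i
    refine ⟨ε.symm ⟨_, S.inv _ (ε i).2 h hh⟩, ?_⟩
    show _ = (ε (ε.symm _) : Submodule F V)
    rw [Equiv.apply_symm_apply]

end Cfsg.Agent.H358.D4
end

-- part: H358/D4/Grp
section
/-!
# S4311, BOX A: group theory (helper358)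

`exists_elem`: the noncentral elementary abelian normal 2-subgroup.
-/

set_option autoImplicit false

namespace Cfsg.Agent.H358.D4

open Subgroup

variable {G : Type*} [Group G]

theorem le_norm {P N : Subgroup G} (h : ∀ g ∈ P, ∀ n ∈ N, g * n * g⁻¹ ∈ N) : P ≤ normalizer (N : Set G) := by
  intro g hg
  rw [mem_normalizer_iff]
  intro n
  refine ⟨fun hn => h g hg n hn, fun hn => ?_⟩
  have h1 := h g⁻¹ (P.inv_mem hg) _ hn
  have h2 : g⁻¹ * (g * n * g⁻¹) * g⁻¹⁻¹ = n := by group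
  rw [h2] at h1
  exact h1

/-- a 2-group acting on a nontrivial 2-group modulo `Z` has a nontrivial fixed point -/
theorem exists_fix [Finite G] {P N Z : Subgroup G} [Z.Normal] (hP : IsPGroup 2 P) (hNP : N ≤ P)
    (hn : ∀ g ∈ P, ∀ n ∈ N, g * n * g⁻¹ ∈ N) (hNZ : ∃ n ∈ N, n ∉ Z) :
    ∃ n ∈ N, n ∉ Z ∧ ∀ g ∈ P, g * n * g⁻¹ * n⁻¹ ∈ Z := by
  have : Fact (Nat.Prime 2) := ⟨Nat.prime_two⟩
  let π := QuotientGroup.mk' Z
  let act : MulAction P (N.map π) :=
    { smul := fun g m => ⟨π g * m * (π g)⁻¹, by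
        obtain ⟨n, hnN, hnm⟩ := m.2
        refine ⟨g * n * (g : G)⁻¹, hn g g.2 n hnN, ?_⟩
        rw [map_mul, map_mul, map_inv, hnm]⟩
      one_smul := fun m => Subtype.ext (by
        show π (1 : G) * m * (π (1 : G))⁻¹ = m
        rw [map_one, one_mul, inv_one, mul_one])
      mul_smul := fun g h m => Subtype.ext (by
        show π ((g : G) * h) * m * (π ((g : G) * h))⁻¹ = π g * (π h * m * (π h)⁻¹) * (π g)⁻¹
        rw [map_mul, mul_inv_rev]
        simp only [mul_assoc]) }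
  have h2 : 2 ∣ Nat.card (N.map π) := by
    have h3 : IsPGroup 2 (N.map π) := (hP.to_le hNP).map π
    rcases h3.card_eq_or_dvd with h | h
    · exfalso
      obtain ⟨n, hnN, hnZ⟩ := hNZ
      apply hnZ
      rw [Subgroup.card_eq_one] at h
      have h4 : π n ∈ N.map π := ⟨n, hnN, rfl⟩
      rw [h, mem_bot] at h4
      exact (QuotientGroup.eq_one_iff n).1 h4
    · exact h
  have h1 : (1 : N.map π) ∈ MulAction.fixedPoints P (N.map π) := by
    intro g
    apply Subtype.ext
    show π g * 1 * (π g)⁻¹ = 1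
    rw [mul_one, mul_inv_cancel]
  obtain ⟨b, hb, hb1⟩ := hP.exists_fixed_point_of_prime_dvd_card_of_fixed_point (N.map π) h2 h1
  obtain ⟨n, hnN, hnb⟩ := b.2
  refine ⟨n, hnN, fun hnZ => hb1 ?_, fun g hg => ?_⟩
  · apply Subtype.ext
    rw [← hnb]
    exact ((QuotientGroup.eq_one_iff n).2 hnZ).symm
  · have h3 : π g * b * (π g)⁻¹ = b := congrArg Subtype.val (hb ⟨g, hg⟩)
    rw [← hnb] at h3
    refine (QuotientGroup.eq_one_iff _).1 ?_
    show π (g * n * g⁻¹ * n⁻¹) = 1
    rw [map_mul, map_mul, map_mul, map_inv, map_inv, h3, mul_inv_cancel]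

/-- the class-2 subgroup of exponent 2 modulo `Z` -/
def Om2 (N Z : Subgroup G) [Z.Normal] : Subgroup G where
  carrier := {m | m ∈ N ∧ (QuotientGroup.mk m * QuotientGroup.mk m : G ⧸ Z) = 1 ∧
    ∀ k ∈ N, (QuotientGroup.mk k * QuotientGroup.mk m : G ⧸ Z) = QuotientGroup.mk m * QuotientGroup.mk k}
  one_mem' := ⟨N.one_mem, by rw [QuotientGroup.mk_one, one_mul], fun k _ => by
    rw [QuotientGroup.mk_one, one_mul, mul_one]⟩
  mul_mem' := by
    rintro a b ⟨ha, ha2, hac⟩ ⟨hb, hb2, hbc⟩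
    refine ⟨N.mul_mem ha hb, ?_, fun k hk => ?_⟩
    · rw [QuotientGroup.mk_mul]
      calc (QuotientGroup.mk a * QuotientGroup.mk b * (QuotientGroup.mk a * QuotientGroup.mk b) : G ⧸ Z)
          = QuotientGroup.mk a * (QuotientGroup.mk b * QuotientGroup.mk a) * QuotientGroup.mk b := by
            simp only [mul_assoc]
        _ = (QuotientGroup.mk a * QuotientGroup.mk a) * (QuotientGroup.mk b * QuotientGroup.mk b) := by
            rw [hac b hb]; simp only [mul_assoc]
        _ = 1 := by rw [ha2, hb2, one_mul]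
    · rw [QuotientGroup.mk_mul, ← mul_assoc, hac k hk, mul_assoc, hbc k hk, mul_assoc]
  inv_mem' := by
    rintro a ⟨ha, ha2, hac⟩
    refine ⟨N.inv_mem ha, ?_, fun k hk => ?_⟩
    · rw [QuotientGroup.mk_inv, ← mul_inv_rev, ha2, inv_one]
    · rw [QuotientGroup.mk_inv]
      have h1 := hac k hk
      rw [eq_inv_mul_iff_mul_eq, ← mul_assoc, ← h1, mul_assoc, mul_inv_cancel, mul_one]

theorem Om2_conj {N Z H : Subgroup G} [Z.Normal] (hH : ∀ h ∈ H, ∀ n ∈ N, h * n * h⁻¹ ∈ N) :
    ∀ h ∈ H, ∀ n ∈ Om2 N Z, h * n * h⁻¹ ∈ Om2 N Z := by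
  rintro h hh n ⟨hn, hn2, hnc⟩
  refine ⟨hH h hh n hn, ?_, fun k hk => ?_⟩
  · rw [← QuotientGroup.mk_mul]
    have h1 : h * n * h⁻¹ * (h * n * h⁻¹) = h * (n * n) * h⁻¹ := by group
    rw [h1, QuotientGroup.mk_mul, QuotientGroup.mk_mul, QuotientGroup.mk_mul, hn2, mul_one, QuotientGroup.mk_inv,
      mul_inv_cancel]
  · have h1 : h⁻¹ * k * h ∈ N := by
      have := hH h⁻¹ (H.inv_mem hh) k hk
      rwa [inv_inv] at this
    have h2 := hnc _ h1
    rw [← QuotientGroup.mk_mul, ← QuotientGroup.mk_mul] at h2 ⊢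
    have h3 : k * (h * n * h⁻¹) = h * (h⁻¹ * k * h * n) * h⁻¹ := by group
    have h4 : h * n * h⁻¹ * k = h * (n * (h⁻¹ * k * h)) * h⁻¹ := by group
    rw [h3, h4, QuotientGroup.mk_mul, QuotientGroup.mk_mul, h2, ← QuotientGroup.mk_mul, ← QuotientGroup.mk_mul]

theorem exists_elem [Finite G] {Z H N P : Subgroup G} [Z.Normal] (hP : IsPGroup 2 P) (hPH : P ≤ H)
    (hN : IsPGroup 2 N) (hNH : ∀ h ∈ H, ∀ n ∈ N, h * n * h⁻¹ ∈ N) (hNZ : ∃ n ∈ N, n ∉ Z)
    (hdiag : ∀ n, (∀ g ∈ P, g * n * g⁻¹ * n⁻¹ ∈ Z) → n * n = 1)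
    (hcl : ∀ M : Subgroup G, M ≤ N → (∀ h ∈ H, ∀ n ∈ M, h * n * h⁻¹ ∈ M) → (∀ n ∈ M, n * n ∈ Z) →
      (∀ n ∈ M, ∀ m ∈ M, n * m * n⁻¹ * m⁻¹ ∈ Z) → (∃ n ∈ M, n ∉ Z) → ∃ b ∈ M, b ∉ Z ∧ ∀ c ∈ M, c * b = b * c) :
    ∃ A : Subgroup G, (∀ h ∈ H, ∀ a ∈ A, h * a * h⁻¹ ∈ A) ∧ (∀ a ∈ A, a * a = 1) ∧
      (∀ a ∈ A, ∀ b ∈ A, a * b = b * a) ∧ ∃ a ∈ A, a ∉ Z := by
  -- a noncentral involution centralised by `P` modulo `Z`
  have key : ∀ M : Subgroup G, M ≤ N → (∀ h ∈ H, ∀ n ∈ M, h * n * h⁻¹ ∈ M) → (∃ n ∈ M, n ∉ Z) →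
      ∃ n ∈ M, n ∉ Z ∧ n * n = 1 ∧ ∀ g ∈ M, g * n * g⁻¹ * n⁻¹ ∈ Z := by
    intro M hMN hMH hMZ
    have hPM : IsPGroup 2 (P ⊔ M : Subgroup G) :=
      hP.to_sup_of_normal_right' (hN.to_le hMN) (le_norm fun g hg => hMH g (hPH hg))
    have hle : P ⊔ M ≤ normalizer (M : Set G) :=
      sup_le (le_norm fun g hg => hMH g (hPH hg)) (le_norm fun g hg n hn => M.mul_mem (M.mul_mem hg hn) (M.inv_mem hg))
    obtain ⟨n, hn, hnZ, h1⟩ := exists_fix (Z := Z) hPM le_sup_right
      (fun g hg n hn => (mem_normalizer_iff.1 (hle hg) n).1 hn) hMZ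
    exact ⟨n, hn, hnZ, hdiag n fun g hg => h1 g ((le_sup_left : P ≤ P ⊔ M) hg), fun g hg =>
      h1 g ((le_sup_right : M ≤ P ⊔ M) hg)⟩
  obtain ⟨n, hn, hnZ, hn2, hnc⟩ := key N le_rfl hNH hNZ
  have hM0 : n ∈ Om2 N Z := by
    refine ⟨hn, ?_, fun k hk => ?_⟩
    · rw [← QuotientGroup.mk_mul, hn2, QuotientGroup.mk_one]
    · have h1 := (QuotientGroup.eq_one_iff _).2 (hnc k hk)
      rw [QuotientGroup.mk_mul, QuotientGroup.mk_mul, QuotientGroup.mk_mul, QuotientGroup.mk_inv, QuotientGroup.mk_inv,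
        mul_inv_eq_one, mul_inv_eq_iff_eq_mul] at h1
      exact h1
  have hMN : Om2 N Z ≤ N := fun m hm => hm.1
  obtain ⟨b, hb, hbZ, hbc⟩ := hcl (Om2 N Z) hMN (Om2_conj hNH) (fun m hm => by
      refine (QuotientGroup.eq_one_iff _).1 ?_
      rw [QuotientGroup.mk_mul]; exact hm.2.1) (fun m hm k hk => by
      refine (QuotientGroup.eq_one_iff _).1 ?_
      rw [QuotientGroup.mk_mul, QuotientGroup.mk_mul, QuotientGroup.mk_mul, QuotientGroup.mk_inv, QuotientGroup.mk_inv,
        mul_inv_eq_one, mul_inv_eq_iff_eq_mul]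
      exact hk.2.2 m hm.1) ⟨n, hM0, hnZ⟩
  -- the centre of `Om2 N Z`
  let A₀ : Subgroup G := Om2 N Z ⊓ centralizer (Om2 N Z : Set G)
  have memA₀ : ∀ a, a ∈ A₀ ↔ a ∈ Om2 N Z ∧ ∀ c ∈ Om2 N Z, c * a = a * c := by
    intro a
    show a ∈ Om2 N Z ∧ a ∈ centralizer (Om2 N Z : Set G) ↔ _
    rw [mem_centralizer_iff]
    rfl
  have hA₀H : ∀ h ∈ H, ∀ a ∈ A₀, h * a * h⁻¹ ∈ A₀ := by
    intro h hh a ha
    rw [memA₀] at ha ⊢
    refine ⟨Om2_conj hNH h hh a ha.1, fun c hc => ?_⟩
    have h1 : h⁻¹ * c * h ∈ Om2 N Z := by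
      have := Om2_conj hNH h⁻¹ (H.inv_mem hh) c hc
      rwa [inv_inv] at this
    have h2 := ha.2 _ h1
    have h3 : c * (h * a * h⁻¹) = h * (h⁻¹ * c * h * a) * h⁻¹ := by group
    rw [h3, h2]; group
  have hA₀c : ∀ a ∈ A₀, ∀ b ∈ A₀, a * b = b * a := fun a ha b hb => ((memA₀ b).1 hb).2 a ((memA₀ a).1 ha).1
  obtain ⟨m, hm, hmZ, hm2, -⟩ := key A₀ (fun a ha => hMN ((memA₀ a).1 ha).1) hA₀H ⟨b, (memA₀ b).2 ⟨hb, hbc⟩, hbZ⟩
  refine ⟨{ carrier := {a | a ∈ A₀ ∧ a * a = 1}
            one_mem' := ⟨A₀.one_mem, one_mul 1⟩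
            mul_mem' := ?_
            inv_mem' := ?_ }, ?_, fun a ha => ha.2, fun a ha b hb => hA₀c a ha.1 b hb.1, ⟨m, ⟨hm, hm2⟩, hmZ⟩⟩
  · rintro a b ⟨ha, ha2⟩ ⟨hb, hb2⟩
    refine ⟨A₀.mul_mem ha hb, ?_⟩
    calc a * b * (a * b) = a * (b * a) * b := by simp only [mul_assoc]
      _ = (a * a) * (b * b) := by rw [hA₀c b hb a ha]; simp only [mul_assoc]
      _ = 1 := by rw [ha2, hb2, one_mul]
  · rintro a ⟨ha, ha2⟩
    exact ⟨A₀.inv_mem ha, by rw [← mul_inv_rev, ha2, inv_one]⟩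
  · rintro h hh a ⟨ha, ha2⟩
    refine ⟨hA₀H h hh a ha, ?_⟩
    have : h * a * h⁻¹ * (h * a * h⁻¹) = h * (a * a) * h⁻¹ := by group
    rw [this, ha2, mul_one, mul_inv_cancel]

end Cfsg.Agent.H358.D4
end

-- part: H358/D4/Mon
section
/-!
# S4311, BOX A: the monomial 2-group (helper358)
-/

set_option autoImplicit false
set_option linter.unusedSectionVars false

namespace Cfsg.Agent.H358.D4

open Module QuadraticMap Cfsg.Agent.H167.OP Cfsg.Agent.H170.HL Cfsg.Agent.H170.HL.OmRow Cfsg.Agent.H556.Om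
open Cfsg Subgroup Cfsg.Agent.H485.RV Cfsg.Agent.H561.RV Cfsg.Agent.H561.D4

variable {F : Type} [Field F] {ι : Type} [Fintype ι] [DecidableEq ι] {Q : QuadraticForm F (ι → F)}
  {E : Fin 2 × A4 → ι → F}

theorem env (h : Q8 Q) : Env (polarBilin Q) (rep (inc (⇑Q))) where
  two := h.two
  three := h.three
  symm := polar_symm
  nd := fun u hu => h.gq.nd.1 u hu
  iso := polar_omega
  inj := rep_inj
  cen g := by
    have h1 : g ∈ Subgroup.center (Cfsg.Omega F (⇑Q)) ↔ inc (⇑Q) g = 1 ∨ inc (⇑Q) g = -1 :=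
      Cfsg.Agent.LieClassical.OmegaCenter.mem_center_omega_iff Q h.gq.nd h.gq.card h.gq.sing g
    rw [h1]
    constructor
    · rintro (h2 | h2)
      · left
        apply LinearMap.ext
        intro v
        rw [rep_apply, h2, Matrix.one_mulVec]; rfl
      · right
        apply LinearMap.ext
        intro v
        rw [rep_apply, h2, Matrix.neg_mulVec, Matrix.one_mulVec]; rfl
    · rintro (h2 | h2)
      · left
        rw [rep_inj (h2.trans (map_one _).symm), map_one]
      · right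
        apply Matrix.toLin'.injective
        apply LinearMap.ext
        intro v
        have h3 : rep (inc (⇑Q)) g v = -v := by rw [h2]; rfl
        rw [rep_apply] at h3
        rw [Matrix.toLin'_apply, h3, Matrix.toLin'_apply, Matrix.neg_mulVec, Matrix.one_mulVec]
  dim := by rw [Module.finrank_fintype_fun_eq_card, h.dim]

/-- the frame is complete -/
theorem complete (h : Q8 Q) (hF : Frame (polarBilin Q) E) {w : ι → F} (hw : ∀ j, polarBilin Q (E j) w = 0) : w = 0 := by
  apply (env h).nd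
  intro v
  rw [polar_symm]
  have h1 : Submodule.span F (Set.range E) = ⊤ :=
    (hF.linearIndependent h.two).span_eq_top_of_card_eq_finrank' (by rw [(env h).dim]; rfl)
  have h2 : v ∈ Submodule.span F (Set.range E) := by rw [h1]; trivial
  induction h2 using Submodule.span_induction with
  | mem v hv =>
    obtain ⟨j, rfl⟩ := hv
    exact hw j
  | zero => rw [map_zero, LinearMap.zero_apply]
  | add v w _ _ h1 h2 => rw [map_add, LinearMap.add_apply, h1, h2, add_zero]
  | smul c v _ h1 => rw [map_smul, LinearMap.smul_apply, h1, smul_zero]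

/-- sign changes -/
theorem sg_apply (h2 : (2 : F) ≠ 0) {i j : Fin 2 × A4} (hij : i ≠ j) (u : ι → F) :
    mono (polarBilin Q) E (H556.Om.sg F i j) id u = u - (polarBilin Q (E i) u • E i + polarBilin Q (E j) u • E j) := by
  rw [mono_apply, sub_eq_add_neg]
  congr 1
  rw [Finset.sum_eq_add i j hij]
  · have e1 : ∀ e : ι → F, (2 : F)⁻¹ • ((-1 : F) • e - e) = -e := by
      intro e
      have : (-1 : F) • e - e = -((2 : F) • e) := by rw [two_smul, neg_one_smul]; abel
      rw [this, smul_neg, smul_smul, inv_mul_cancel₀ h2, one_smul]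
    have e2 : H556.Om.sg F i j i = -1 := if_pos (Or.inl rfl)
    have e3 : H556.Om.sg F i j j = -1 := if_pos (Or.inr rfl)
    rw [e2, e3, id, id, e1, e1, smul_neg, smul_neg, neg_add]
  · rintro c - ⟨h3, h4⟩
    have e1 : H556.Om.sg F i j c = 1 := if_neg (by tauto)
    rw [e1, one_smul, id, sub_self, smul_zero, smul_zero]
  · intro h; exact absurd (Finset.mem_univ i) h
  · intro h; exact absurd (Finset.mem_univ j) h

theorem card_off : ∀ i j : Fin 2 × A4, 5 ≤ Fintype.card {k : Fin 2 × A4 // k ≠ i ∧ k ≠ j} := by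
  decide +kernel

/-- the elements of `Ω` commuting with `PM` modulo the centre are involutions -/
theorem diag (h : Q8 Q) (hF : Frame (polarBilin Q) E) {n : Cfsg.Omega F (⇑Q)}
    (hn : ∀ g ∈ PM h.two hF, g * n * g⁻¹ * n⁻¹ ∈ Subgroup.center (Cfsg.Omega F (⇑Q))) : n * n = 1 := by
  have EE := env h
  -- `n` commutes with the sign changes
  have h1 : ∀ i j, i ≠ j → ∃ t : Cfsg.Omega F (⇑Q),
      rep (inc (⇑Q)) t = mono (polarBilin Q) E (H556.Om.sg F i j) id ∧ t * n = n * t := by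
    intro i j hij
    obtain ⟨t, ht⟩ := exists_sg h.gq h.two hF hij
    refine ⟨t, ht, ?_⟩
    by_contra hne
    have h3 := EE.anti (hn t (sg_mem_PM h.two hF ht)) hne
    have hte : ∀ k : {k : Fin 2 × A4 // k ≠ i ∧ k ≠ j}, rep (inc (⇑Q)) t (E k) = E k := by
      rintro ⟨k, hk1, hk2⟩
      rw [ht, mono_e hF h.two]
      have e1 : H556.Om.sg F i j k = 1 := if_neg (by (clear * - i j k hk1 hk2; tauto))
      rw [e1, one_smul]; rfl
    have hcross : ∀ k l : {k : Fin 2 × A4 // k ≠ i ∧ k ≠ j}, polarBilin Q (E k) (rep (inc (⇑Q)) n (E l)) = 0 := by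
      intro k l
      have e1 := polar_omega t (E k) (rep (inc (⇑Q)) n (E l))
      rw [hte k, h3, hte l, map_neg] at e1
      have e2 : (2 : F) * polarBilin Q (E k) (rep (inc (⇑Q)) n (E l)) = 0 := by linear_combination -e1
      exact (mul_eq_zero.1 e2).resolve_left h.two
    have hli : LinearIndependent F (Sum.elim (fun k : {k : Fin 2 × A4 // k ≠ i ∧ k ≠ j} => E k)
        (fun k : {k : Fin 2 × A4 // k ≠ i ∧ k ≠ j} => rep (inc (⇑Q)) n (E k))) := by
      refine indep_of_orth (B := polarBilin Q) ?_ ?_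
      · rintro (k | k) (l | l) hkl
        · exact hF.orth _ _ fun h => hkl (congrArg Sum.inl (Subtype.ext h))
        · exact hcross k l
        · show polarBilin Q (rep (inc (⇑Q)) n (E k)) (E l) = 0
          rw [polar_symm]; exact hcross l k
        · show polarBilin Q (rep (inc (⇑Q)) n (E k)) (rep (inc (⇑Q)) n (E l)) = 0
          rw [polar_omega]
          exact hF.orth _ _ fun h => hkl (congrArg Sum.inr (Subtype.ext h))
      · rintro (k | k)
        · show polarBilin Q (E k) (E k) ≠ 0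
          rw [hF.self]; exact h.two
        · show polarBilin Q (rep (inc (⇑Q)) n (E k)) (rep (inc (⇑Q)) n (E k)) ≠ 0
          rw [polar_omega, hF.self]; exact h.two
    have h4 := hli.fintype_card_le_finrank
    rw [Fintype.card_sum, EE.dim] at h4
    have h5 := card_off i j
    omega
  -- `n` is diagonal
  have h3 : ∀ l k : Fin 2 × A4, l ≠ k → polarBilin Q (E l) (rep (inc (⇑Q)) n (E k)) = 0 := by
    intro l k hlk
    obtain ⟨m, hml, hmk⟩ : ∃ m, m ≠ l ∧ m ≠ k := by
      have h4 : 0 < Fintype.card {m : Fin 2 × A4 // m ≠ l ∧ m ≠ k} := lt_of_lt_of_le (by norm_num) (card_off l k)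
      obtain ⟨⟨m, hm⟩⟩ := Fintype.card_pos_iff.1 h4
      exact ⟨m, hm⟩
    obtain ⟨t, ht, htn⟩ := h1 l m (Ne.symm hml)
    have e1 := polar_omega t (E l) (rep (inc (⇑Q)) n (E k))
    have e2 : rep (inc (⇑Q)) t (E l) = (-1 : F) • E l := by
      rw [ht, mono_e hF h.two]
      have e1 : H556.Om.sg F l m l = -1 := if_pos (Or.inl rfl)
      rw [e1]; rfl
    have e3 : rep (inc (⇑Q)) t (E k) = E k := by
      rw [ht, mono_e hF h.two]
      have e1 : H556.Om.sg F l m k = 1 := if_neg (by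
        rintro (h | h)
        · exact hlk h.symm
        · exact hmk h.symm)
      rw [e1, one_smul]; rfl
    have e4 : rep (inc (⇑Q)) t (rep (inc (⇑Q)) n (E k)) = rep (inc (⇑Q)) n (E k) := by
      rw [← mul_ap, htn, mul_ap, e3]
    rw [e4, e2, map_smul, LinearMap.smul_apply, smul_eq_mul, neg_one_mul] at e1
    have e5 : (2 : F) * polarBilin Q (E l) (rep (inc (⇑Q)) n (E k)) = 0 := by linear_combination -e1
    exact (mul_eq_zero.1 e5).resolve_left h.two
  have h4 : ∀ k, ∃ c : F, c * c = 1 ∧ rep (inc (⇑Q)) n (E k) = c • E k := by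
    intro k
    have e1 : rep (inc (⇑Q)) n (E k) = ((2 : F)⁻¹ * polarBilin Q (E k) (rep (inc (⇑Q)) n (E k))) • E k := by
      rw [← sub_eq_zero]
      apply complete h hF
      intro l
      by_cases hlk : l = k
      · subst hlk
        rw [map_sub, map_smul, hF.self, smul_eq_mul, mul_comm _ (2 : F), ← mul_assoc, mul_inv_cancel₀ h.two, one_mul,
          sub_self]
      · rw [map_sub, map_smul, h3 l k hlk, hF.orth l k hlk, smul_zero, sub_zero]
    refine ⟨_, ?_, e1⟩
    have e2 := polar_omega n (E k) (E k)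
    rw [e1, map_smul, map_smul, LinearMap.smul_apply, hF.self, smul_eq_mul, smul_eq_mul, ← mul_assoc] at e2
    exact (mul_eq_right₀ h.two).1 e2
  apply rep_inj (Q := Q)
  refine ext_frame hF h.two (fun k => ?_) fun w hw => ?_
  · obtain ⟨c, hc, hnc⟩ := h4 k
    rw [mul_ap, hnc, map_smul, hnc, smul_smul, hc, one_smul, map_one]; rfl
  · rw [complete h hF hw, map_zero, map_zero]

/-- `PM` is transitive on the frame -/
theorem trans (h : Q8 Q) (hF : Frame (polarBilin Q) E) (j k : Fin 2 × A4) :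
    ∃ g ∈ PM h.two hF, rep (inc (⇑Q)) g (E j) = E k := by
  have h1 : Equiv.Perm.sign (pp (Equiv.swap j.1 k.1) (fun _ => false) fun _ => j.2 + k.2) = 1 := sign_pp _ _ _
  obtain ⟨g, hg⟩ := exists_perm h.gq h.two hF h1
  refine ⟨g, perm_mem_PM h.two hF (pp_mem _ _ _) hg, ?_⟩
  rw [hg, mono_e hF h.two, one_smul]
  obtain ⟨k', a⟩ := j
  rw [pp_apply]
  dsimp only
  rw [Equiv.swap_apply_left]
  have h2 : lin false a + (a + k.2) = k.2 := by
    simp only [lin, Bool.false_eq_true, if_false]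
    rw [← add_assoc, CharTwo.add_self_eq_zero, zero_add]
  rw [h2]

/-- `PM` is irreducible -/
theorem irr (h : Q8 Q) (hF : Frame (polarBilin Q) E) {H : Subgroup (Cfsg.Omega F (⇑Q))} (hPH : PM h.two hF ≤ H)
    (W : Submodule F (ι → F)) (hW : W ≠ ⊥) (hWH : ∀ g ∈ H, ∀ w ∈ W, rep (inc (⇑Q)) g w ∈ W) : W = ⊤ := by
  obtain ⟨u, hu, hu0⟩ := Submodule.exists_mem_ne_zero_of_ne_bot hW
  obtain ⟨k, hk⟩ : ∃ k, polarBilin Q (E k) u ≠ 0 := by
    by_contra hcon
    push Not at hcon
    exact hu0 (complete h hF hcon)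
  have h1 : ∀ i j, i ≠ j → ∀ u ∈ W, polarBilin Q (E i) u • E i + polarBilin Q (E j) u • E j ∈ W := by
    intro i j hij u hu
    obtain ⟨t, ht⟩ := exists_sg h.gq h.two hF hij
    have h3 := hWH t (hPH (sg_mem_PM h.two hF ht)) u hu
    rw [ht, sg_apply h.two hij] at h3
    have h4 := W.sub_mem hu h3
    rwa [sub_sub_cancel] at h4
  have hkW : E k ∈ W := by
    have h4 : 1 < Fintype.card {m : Fin 2 × A4 // m ≠ k ∧ m ≠ k} := lt_of_lt_of_le (by norm_num) (card_off k k)
    obtain ⟨⟨a, ha, _⟩, ⟨b, hb, _⟩, hab⟩ := Fintype.exists_pair_of_one_lt_card h4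
    have hab' : a ≠ b := fun h => hab (Subtype.ext h)
    have h5 := h1 k b (Ne.symm hb) _ (h1 k a (Ne.symm ha) u hu)
    rw [map_add, map_add, map_smul, map_smul, map_smul, map_smul, hF.self, hF.orth k a (Ne.symm ha),
      hF.orth b k hb, hF.orth b a (Ne.symm hab')] at h5
    simp only [smul_eq_mul, mul_zero, add_zero, zero_smul] at h5
    have h6 := W.smul_mem (polarBilin Q (E k) u * 2)⁻¹ h5
    rwa [smul_smul, inv_mul_cancel₀ (mul_ne_zero hk h.two), one_smul] at h6
  have h7 : ∀ j, E j ∈ W := by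
    intro j
    obtain ⟨g, hg, hgj⟩ := trans h hF k j
    rw [← hgj]
    exact hWH g (hPH hg) _ hkW
  have h8 : Submodule.span F (Set.range E) = ⊤ :=
    (hF.linearIndependent h.two).span_eq_top_of_card_eq_finrank' (by rw [(env h).dim]; rfl)
  rw [eq_top_iff, ← h8, Submodule.span_le]
  rintro _ ⟨j, rfl⟩
  exact h7 j

/-- `H` contains a group `PM` -/
theorem exists_PM [Finite F] (h : Q8 Q) {H : Subgroup (Cfsg.Omega F (⇑Q))} (hi : ¬ 2 ∣ H.index) :
    ∃ (E : Fin 2 × A4 → ι → F) (hF : Frame (polarBilin Q) E), PM h.two hF ≤ H := by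
  have hfin : Finite (Cfsg.Omega F (⇑Q)) := inferInstance
  obtain ⟨E, hF⟩ := h.frame
  obtain ⟨c, hc⟩ := H556.Om.exists_conj hi (PM_isPGroup h.two hF)
  refine ⟨_, hF.map (polar_omega c), ?_⟩
  rintro x ⟨s, σ, hs, hσ, hx⟩
  have h1 := hc _ ⟨s, σ, hs, hσ, conj_mono hx⟩
  have h2 : c * (c⁻¹ * x * c) * c⁻¹ = x := by group
  rwa [h2] at h1

end Cfsg.Agent.H358.D4
end

-- part: H358/D4/Wr
section
/-!
# S4311, BOX A: the 3-group `C₃ wr C₃` (helper358)

`exists_pair`: if `x` has order three and rank two, `w` has order three and `[V,x]`, `w [V,x]` are orthogonal then `x`, `w` generate a 3-group,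
so simultaneous conjugates belong to every subgroup of index prime to three.
-/

set_option autoImplicit false

namespace Cfsg.Agent.H358.D4

open Module Cfsg.Agent.H167.OP

variable {F : Type*} [Field F] {V : Type*} [AddCommGroup V] [Module F V] {G : Type*} [Group G]
  {B : V →ₗ[F] V →ₗ[F] F} {ρ : Representation F G V}

/-- orthogonal supports -/
def Perp (B : V →ₗ[F] V →ₗ[F] F) (ρ : Representation F G V) (x : G) (v : V) (x' : G) (v' : V) : Prop :=
  ∀ s ∈ Submodule.span F {v, ρ x v}, ∀ s' ∈ Submodule.span F {v', ρ x' v'}, B s s' = 0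

theorem Perp.of {x x' : G} {v v' : V} (h00 : B v v' = 0) (h01 : B v (ρ x' v') = 0) (h10 : B (ρ x v) v' = 0)
    (h11 : B (ρ x v) (ρ x' v') = 0) : Perp B ρ x v x' v' := by
  intro s hs s' hs'
  obtain ⟨a, b, rfl⟩ := Submodule.mem_span_pair.1 hs
  obtain ⟨c, d, rfl⟩ := Submodule.mem_span_pair.1 hs'
  rw [map_add, map_add, map_smul, map_smul, map_smul, map_smul, LinearMap.add_apply, LinearMap.add_apply,
    LinearMap.smul_apply, LinearMap.smul_apply, LinearMap.smul_apply, LinearMap.smul_apply, h00, h01, h10, h11]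
  simp

theorem Perp.symm (E : Env B ρ) {x x' : G} {v v' : V} (h : Perp B ρ x v x' v') : Perp B ρ x' v' x v :=
  fun s hs s' hs' => by rw [E.symm]; exact h s' hs' s hs

theorem conj_ap (g x : G) (v : V) : ρ (g * x * g⁻¹) (ρ g v) = ρ g (ρ x v) := by
  rw [mul_ap, mul_ap, inv_ap]

theorem Perp.conj (E : Env B ρ) {x x' : G} {v v' : V} (h : Perp B ρ x v x' v') (g : G) :
    Perp B ρ (g * x * g⁻¹) (ρ g v) (g * x' * g⁻¹) (ρ g v') := by
  have h1 : v ∈ Submodule.span F {v, ρ x v} := Submodule.subset_span (Or.inl rfl)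
  have h2 : ρ x v ∈ Submodule.span F {v, ρ x v} := Submodule.subset_span (Or.inr rfl)
  have h3 : v' ∈ Submodule.span F {v', ρ x' v'} := Submodule.subset_span (Or.inl rfl)
  have h4 : ρ x' v' ∈ Submodule.span F {v', ρ x' v'} := Submodule.subset_span (Or.inr rfl)
  refine Perp.of ?_ ?_ ?_ ?_
  · rw [E.iso]; exact h _ h1 _ h3
  · rw [conj_ap, E.iso]; exact h _ h1 _ h4
  · rw [conj_ap, E.iso]; exact h _ h2 _ h3
  · rw [conj_ap, conj_ap, E.iso]; exact h _ h2 _ h4

theorem Thr.fixes (E : Env B ρ) {x : G} {v : V} (T : Thr B ρ x v) {u : V}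
    (h : ∀ s ∈ Submodule.span F {v, ρ x v}, B u s = 0) : ρ x u = u := by
  rw [← sub_eq_zero]
  apply E.nd
  intro y
  have h1 : B (ρ x u) y = B u (ρ x⁻¹ y) := by
    rw [← E.iso x u, ap_inv]
  have h2 : ρ x⁻¹ y - y = -(ρ x (ρ x⁻¹ y) - ρ x⁻¹ y) := by rw [ap_inv]; abel
  rw [map_sub, LinearMap.sub_apply, h1, ← map_sub, h2, map_neg, h _ (T.rng _), neg_zero]

theorem Thr.comm (E : Env B ρ) {x x' : G} {v v' : V} (T : Thr B ρ x v) (T' : Thr B ρ x' v') (h : Perp B ρ x v x' v') :
    x * x' = x' * x := by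
  apply E.inj
  apply LinearMap.ext
  intro u
  rw [mul_ap, mul_ap]
  have h1 : ρ x (ρ x' u - u) = ρ x' u - u := T.fixes E fun s hs => by
    rw [E.symm]; exact h s hs _ (T'.rng u)
  have h2 : ρ x' (ρ x u - u) = ρ x u - u := T'.fixes E fun s hs => h _ (T.rng u) s hs
  rw [map_sub] at h1 h2
  have h3 : ρ x (ρ x' u) = ρ x' u - u + ρ x u := eq_add_of_sub_eq h1
  have h4 : ρ x' (ρ x u) = ρ x u - u + ρ x' u := eq_add_of_sub_eq h2
  rw [h3, h4]; abel

theorem isPGroup_zpowers {x : G} (hx : x ^ 3 = 1) : IsPGroup 3 (Subgroup.zpowers x) := by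
  rintro ⟨y, hy⟩
  obtain ⟨k, rfl⟩ := hy
  refine ⟨1, ?_⟩
  apply Subtype.ext
  rw [Subgroup.coe_pow, Subgroup.coe_one]
  show (x ^ k) ^ 3 ^ 1 = 1
  rw [pow_one, ← zpow_natCast, ← zpow_mul, mul_comm, zpow_mul]
  have : x ^ ((3 : ℕ) : ℤ) = 1 := by rw [zpow_natCast, hx]
  rw [this, one_zpow]

theorem isPGroup_sup {K : Subgroup G} {x : G} (hK : IsPGroup 3 K) (hx : x ^ 3 = 1) (h : ∀ n ∈ K, x * n * x⁻¹ ∈ K) :
    IsPGroup 3 (Subgroup.zpowers x ⊔ K : Subgroup G) := by
  refine (isPGroup_zpowers hx).to_sup_of_normal_right' hK ?_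
  rw [Subgroup.zpowers_le, Subgroup.mem_normalizer_iff]
  intro n
  refine ⟨h n, fun hn => ?_⟩
  have h1 := h _ (h _ hn)
  have h2 : x * (x * (x * n * x⁻¹) * x⁻¹) * x⁻¹ = x ^ 3 * n * (x ^ 3)⁻¹ := by
    rw [pow_succ, pow_two]
    group
  rw [h2, hx, one_mul, inv_one, mul_one] at h1
  exact h1

/-- `p`-subgroups are conjugate into subgroups of index prime to `p` -/
theorem exists_conj_p [Finite G] {p : ℕ} (hp : p.Prime) {K P : Subgroup G} (hK : ¬ p ∣ K.index) (hP : IsPGroup p P) :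
    ∃ c : G, ∀ x ∈ P, c * x * c⁻¹ ∈ K := by
  have := Fact.mk hp
  have h2 : ¬ p ∣ Nat.card (G ⧸ K) := hK
  obtain ⟨a, ha⟩ := hP.nonempty_fixed_point_of_prime_not_dvd_card (G ⧸ K) h2
  obtain ⟨c, rfl⟩ := QuotientGroup.mk_surjective a
  refine ⟨c⁻¹, fun x hx => ?_⟩
  have h3 := ha ⟨x, hx⟩
  have h4 : (QuotientGroup.mk (x * c) : G ⧸ K) = QuotientGroup.mk c := h3
  rw [QuotientGroup.eq] at h4
  have h5 := K.inv_mem h4
  simpa only [mul_assoc, _root_.inv_inv, _root_.mul_inv_rev] using h5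

/-- **simultaneous conjugates in `H`** -/
theorem exists_pair [Finite G] (E : Env B ρ) {x w : G} {v : V} (T : Thr B ρ x v) (hw : w ^ 3 = 1)
    (hp : Perp B ρ x v (w * x * w⁻¹) (ρ w v)) {H : Subgroup G} (hH : ¬ 3 ∣ H.index) :
    ∃ (x w : G) (v : V), Thr B ρ x v ∧ x ∈ H ∧ w ^ 3 = 1 ∧ w ∈ H ∧
      ∀ s ∈ Submodule.span F {v, ρ x v}, ∀ s' ∈ Submodule.span F {v, ρ x v}, B s (ρ w s') = 0 := by
  have T1 := T.conj E w
  have T2 := T1.conj E w
  have p12 : Perp B ρ (w * x * w⁻¹) (ρ w v) (w * (w * x * w⁻¹) * w⁻¹) (ρ w (ρ w v)) := hp.conj E w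
  have p20 : Perp B ρ (w * (w * x * w⁻¹) * w⁻¹) (ρ w (ρ w v)) x v := by
    have h1 := p12.conj E w
    have h2 : w * (w * (w * x * w⁻¹) * w⁻¹) * w⁻¹ = w ^ 3 * x * (w ^ 3)⁻¹ := by
      rw [pow_succ, pow_two]; group
    have h3 : ρ w (ρ w (ρ w v)) = v := by
      rw [← mul_ap, ← mul_ap, ← pow_two, ← pow_succ, hw, one_ap]
    rw [h2, hw, one_mul, inv_one, mul_one, h3] at h1
    exact h1
  have c01 := T.comm E T1 hp
  have c12 := T1.comm E T2 p12
  have c20 := T2.comm E T p20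
  obtain ⟨y, hy⟩ : ∃ y, y = w * x * w⁻¹ := ⟨_, rfl⟩
  obtain ⟨z, hz⟩ : ∃ z, z = w * y * w⁻¹ := ⟨_, rfl⟩
  rw [← hy] at c01 c12 c20 T1 T2
  rw [← hz] at c12 c20 T2
  have hzx : w * z * w⁻¹ = x := by
    have h2 : w * (w * (w * x * w⁻¹) * w⁻¹) * w⁻¹ = w ^ 3 * x * (w ^ 3)⁻¹ := by
      rw [pow_succ, pow_two]; group
    rw [hz, hy, h2, hw, one_mul, inv_one, mul_one]
  have k1 : IsPGroup 3 (Subgroup.zpowers y ⊔ Subgroup.zpowers x : Subgroup G) := by
    refine isPGroup_sup (isPGroup_zpowers T.x3) T1.x3 ?_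
    rintro n ⟨k, rfl⟩
    have h1 : y * x ^ k * y⁻¹ = x ^ k := by
      have h2 : Commute y (x ^ k) := (Commute.zpow_right (show Commute y x from c01.symm) k)
      rw [h2.eq, mul_inv_cancel_right]
    show y * x ^ k * y⁻¹ ∈ _
    rw [h1]
    exact ⟨k, rfl⟩
  have k2 : IsPGroup 3 (Subgroup.zpowers z ⊔ (Subgroup.zpowers y ⊔ Subgroup.zpowers x) : Subgroup G) := by
    refine isPGroup_sup k1 T2.x3 ?_
    intro n hn
    have h1 : Subgroup.zpowers y ⊔ Subgroup.zpowers x ≤ Subgroup.centralizer {z} :=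
      sup_le (Subgroup.zpowers_le.2 (Subgroup.mem_centralizer_singleton_iff.2 c12))
        (Subgroup.zpowers_le.2 (Subgroup.mem_centralizer_singleton_iff.2 c20.symm))
    have h2 := Subgroup.mem_centralizer_singleton_iff.1 (h1 hn)
    rw [← h2, mul_inv_cancel_right]
    exact hn
  have hxm : x ∈ Subgroup.zpowers z ⊔ (Subgroup.zpowers y ⊔ Subgroup.zpowers x) :=
    (le_sup_right.trans le_sup_right : Subgroup.zpowers x ≤ _) (Subgroup.mem_zpowers x)
  have hym : y ∈ Subgroup.zpowers z ⊔ (Subgroup.zpowers y ⊔ Subgroup.zpowers x) :=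
    (le_sup_left.trans le_sup_right : Subgroup.zpowers y ≤ _) (Subgroup.mem_zpowers y)
  have hzm : z ∈ Subgroup.zpowers z ⊔ (Subgroup.zpowers y ⊔ Subgroup.zpowers x) :=
    (le_sup_left : Subgroup.zpowers z ≤ _) (Subgroup.mem_zpowers z)
  obtain ⟨K, hK⟩ : ∃ K, K = Subgroup.zpowers z ⊔ (Subgroup.zpowers y ⊔ Subgroup.zpowers x) := ⟨_, rfl⟩
  rw [← hK] at k2 hxm hym hzm
  have k3 : IsPGroup 3 (Subgroup.zpowers w ⊔ K : Subgroup G) := by
    refine isPGroup_sup k2 hw ?_
    have h1 : K ≤ K.comap (MulAut.conj w).toMonoidHom := by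
      nth_rewrite 1 [hK]
      refine sup_le (Subgroup.zpowers_le.2 ?_) (sup_le (Subgroup.zpowers_le.2 ?_) (Subgroup.zpowers_le.2 ?_))
      · show w * z * w⁻¹ ∈ K
        rw [hzx]; exact hxm
      · show w * y * w⁻¹ ∈ K
        rw [← hz]; exact hzm
      · show w * x * w⁻¹ ∈ K
        rw [← hy]; exact hym
    exact fun n hn => h1 hn
  obtain ⟨g, hg⟩ := exists_conj_p Nat.prime_three hH k3
  refine ⟨g * x * g⁻¹, g * w * g⁻¹, ρ g v, T.conj E g, hg _ ((show K ≤ Subgroup.zpowers w ⊔ K from le_sup_right) hxm), ?_,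
    hg _ ((show Subgroup.zpowers w ≤ Subgroup.zpowers w ⊔ K from le_sup_left) (Subgroup.mem_zpowers w)), ?_⟩
  · rw [conj_pow, hw, mul_one, mul_inv_cancel]
  · intro s hs s' hs'
    have h1 := hp.conj E g
    refine h1 s hs _ ?_
    obtain ⟨a, b, rfl⟩ := Submodule.mem_span_pair.1 hs'
    refine Submodule.mem_span_pair.2 ⟨a, b, ?_⟩
    rw [map_add, map_smul, map_smul, conj_ap, conj_ap, conj_ap, conj_ap, conj_ap]

end Cfsg.Agent.H358.D4
end

-- part: H358/D4/Elt
section
/-!
# S4311, BOX A: the elements `x` and `w` (helper358)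

In terms of an orthonormal frame `e₀, …, e₇`: `x = (e₀ e₁ e₂)`; `w` permutes cyclically the vectors
`e₀ - e₁, e₃ - e₄, e₆ + e₇` of norm `4` and `e₀ + e₁ - 2 e₂, e₃ + e₄ - 2 e₅, e₀ + ⋯ + e₅` of norm `12`.
-/

set_option autoImplicit false

namespace Cfsg.Agent.H358.D4

open Module Cfsg.Agent.H556.Om

variable {F : Type*} [Field F] {V : Type*} [AddCommGroup V] [Module F V] {f : V →ₗ[F] V →ₗ[F] F}

/-- the 3-cycle -/
def cyc (i : Fin 3) : Fin 3 := i + 1

theorem cyc_inj : Function.Injective cyc := by decide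

theorem mono_three {g : Fin 3 → V} (h2 : (2 : F) ≠ 0) (hF : Frame f g) :
    mono f g (fun _ => 1) cyc * mono f g (fun _ => 1) cyc * mono f g (fun _ => 1) cyc = 1 := by
  rw [mono_mul hF h2, mono_mul hF h2]
  refine mono_one hF h2 (fun j => ?_) fun j => ?_
  · simp only [mul_one]
  · revert j
    decide

/-- an endomorphism fixing the frame -/
theorem fix_mono {g : Fin 3 → V} {T : Module.End F V}
    (hT : ∀ j, T (g j) = g j) (v : V) : T (mono f g (fun _ => 1) cyc v) = T v + mono f g (fun _ => 1) cyc v - v := by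
  have h1 : ∀ j, T (f (g j) v • ((2 : F)⁻¹ • ((1 : F) • g (cyc j) - g j))) =
      f (g j) v • ((2 : F)⁻¹ • ((1 : F) • g (cyc j) - g j)) := by
    intro j
    rw [map_smul, map_smul, map_sub, map_smul, hT, hT]
  rw [mono_apply, map_add, map_sum, Finset.sum_congr rfl fun j _ => h1 j]
  abel

section elt

variable {e : Fin 8 → V}

/-- norm 4 -/
def g0 (e : Fin 8 → V) : Fin 3 → V := ![e 0 - e 1, e 3 - e 4, e 6 + e 7]

/-- norm 12 -/
def g1 (F : Type*) [Field F] [Module F V] (e : Fin 8 → V) : Fin 3 → V :=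
  ![e 0 + e 1 - (2 : F) • e 2, e 3 + e 4 - (2 : F) • e 5, e 0 + e 1 + e 2 + e 3 + e 4 + e 5]

theorem g0_g0 (hF : Frame f e) (i j : Fin 3) : f (g0 e i) (g0 e j) = if i = j then 4 else 0 := by
  (revert i j; simp only [g0, hF.form, _root_.Fin.forall_fin_succ, Fin.isValue, _root_.Matrix.cons_val_zero, _root_.map_sub, _root_.Matrix.cons_val_succ, _root_.Fin.succ_zero_eq_one, _root_.Matrix.cons_val_fin_one, _root_.map_add, _root_.Fin.succ_one_eq_two, _root_.IsEmpty.forall_iff, _root_.and_true, _root_.LinearMap.sub_apply, ↓reduceIte, _root_.one_ne_zero, _root_.sub_zero, _root_.zero_ne_one, _root_.zero_sub, _root_.sub_neg_eq_add, Fin.reduceEq, _root_.sub_self, _root_.add_zero, _root_.and_self, _root_.Fin.succ_ne_zero, _root_.true_and, _root_.LinearMap.add_apply, _root_.right_eq_ite_iff, _root_.zero_add]) <;> (repeat' with_reducible apply And.intro) <;> norm_num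

theorem g1_g1 (hF : Frame f e) (i j : Fin 3) : f (g1 F e i) (g1 F e j) = if i = j then 12 else 0 := by
  (revert i j; simp only [g1, hF.form, _root_.Fin.forall_fin_succ, Fin.isValue, _root_.Matrix.cons_val_zero, _root_.map_sub, _root_.map_add, _root_.map_smul, _root_.smul_eq_mul, _root_.Matrix.cons_val_succ, _root_.Fin.succ_zero_eq_one, _root_.Matrix.cons_val_fin_one, _root_.Fin.succ_one_eq_two, _root_.IsEmpty.forall_iff, _root_.and_true, _root_.LinearMap.sub_apply, _root_.LinearMap.add_apply, ↓reduceIte, _root_.one_ne_zero, _root_.add_zero, _root_.LinearMap.smul_apply, Fin.reduceEq, _root_.MulZeroClass.mul_zero, _root_.sub_zero, _root_.zero_ne_one, _root_.zero_add, _root_.zero_sub, _root_.mul_neg, _root_.sub_neg_eq_add, _root_.sub_self, _root_.true_and, _root_.Fin.succ_ne_zero, _root_.and_self_left]) <;> (repeat' with_reducible apply And.intro) <;> norm_num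

theorem g0_g1 (hF : Frame f e) (i j : Fin 3) : f (g0 e i) (g1 F e j) = 0 := by
  (revert i j; simp only [g0, g1, hF.form, _root_.Fin.forall_fin_succ, Fin.isValue, _root_.Matrix.cons_val_zero, _root_.map_sub, _root_.map_add, _root_.map_smul, _root_.smul_eq_mul, _root_.Matrix.cons_val_succ, _root_.Matrix.cons_val_fin_one, _root_.forall_const, _root_.LinearMap.sub_apply, ↓reduceIte, _root_.one_ne_zero, _root_.sub_zero, _root_.zero_ne_one, _root_.zero_sub, _root_.add_neg_cancel, Fin.reduceEq, _root_.sub_self, _root_.MulZeroClass.mul_zero, _root_.add_zero, _root_.and_self, _root_.zero_add, _root_.LinearMap.add_apply, _root_.implies_true])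

theorem frame0 (h2 : (2 : F) ≠ 0) (hF : Frame f e) : Frame ((2 : F)⁻¹ • f) (g0 e) := by
  refine ⟨fun i => ?_, fun i j hij => ?_⟩
  · rw [LinearMap.smul_apply, LinearMap.smul_apply, g0_g0 hF, if_pos rfl, smul_eq_mul, inv_mul_eq_iff_eq_mul₀ h2]
    norm_num
  · rw [LinearMap.smul_apply, LinearMap.smul_apply, g0_g0 hF, if_neg hij, smul_zero]

theorem frame1 (h6 : (6 : F) ≠ 0) (hF : Frame f e) : Frame ((6 : F)⁻¹ • f) (g1 F e) := by
  refine ⟨fun i => ?_, fun i j hij => ?_⟩
  · rw [LinearMap.smul_apply, LinearMap.smul_apply, g1_g1 hF, if_pos rfl, smul_eq_mul, inv_mul_eq_iff_eq_mul₀ h6]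
    norm_num
  · rw [LinearMap.smul_apply, LinearMap.smul_apply, g1_g1 hF, if_neg hij, smul_zero]

/-- the first factor of `w` -/
noncomputable def W0 (f : V →ₗ[F] V →ₗ[F] F) (e : Fin 8 → V) : Module.End F V :=
  mono ((2 : F)⁻¹ • f) (g0 e) (fun _ => 1) cyc

/-- the second factor of `w` -/
noncomputable def W1 (f : V →ₗ[F] V →ₗ[F] F) (e : Fin 8 → V) : Module.End F V :=
  mono ((6 : F)⁻¹ • f) (g1 F e) (fun _ => 1) cyc

/-- the map `w` -/
noncomputable def WW (f : V →ₗ[F] V →ₗ[F] F) (e : Fin 8 → V) : Module.End F V := W0 f e * W1 f e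

theorem W0_g1 (hF : Frame f e) (i : Fin 3) : W0 f e (g1 F e i) = g1 F e i :=
  mono_orth fun j => by rw [LinearMap.smul_apply, LinearMap.smul_apply, g0_g1 hF, smul_zero]

theorem W1_g0 (hsym : ∀ u v, f u v = f v u) (hF : Frame f e) (i : Fin 3) : W1 f e (g0 e i) = g0 e i :=
  mono_orth fun j => by rw [LinearMap.smul_apply, LinearMap.smul_apply, hsym, g0_g1 hF, smul_zero]

theorem W_comm (hsym : ∀ u v, f u v = f v u) (hF : Frame f e) : W0 f e * W1 f e = W1 f e * W0 f e := by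
  apply LinearMap.ext
  intro v
  show W0 f e (W1 f e v) = W1 f e (W0 f e v)
  have h1 : W0 f e (W1 f e v) = W0 f e v + W1 f e v - v := fix_mono (W0_g1 hF) v
  have h2 : W1 f e (W0 f e v) = W1 f e v + W0 f e v - v := fix_mono (W1_g0 hsym hF) v
  rw [h1, h2]; abel

theorem WW_three (h2 : (2 : F) ≠ 0) (h6 : (6 : F) ≠ 0) (hsym : ∀ u v, f u v = f v u) (hF : Frame f e) :
    WW f e * WW f e * WW f e = 1 := by
  have h3 : (W0 f e * W1 f e) ^ 3 = W0 f e ^ 3 * W1 f e ^ 3 := Commute.mul_pow (W_comm hsym hF) 3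
  have h4 : W0 f e ^ 3 = 1 := by
    rw [pow_succ, pow_two]; exact mono_three h2 (frame0 h2 hF)
  have h5 : W1 f e ^ 3 = 1 := by
    rw [pow_succ, pow_two]; exact mono_three h2 (frame1 h6 hF)
  rw [h4, h5, one_mul, pow_succ, pow_two] at h3
  exact h3

theorem WW_iso (h2 : (2 : F) ≠ 0) (h6 : (6 : F) ≠ 0) (hsym : ∀ u v, f u v = f v u) (hF : Frame f e) (u v : V) :
    f (WW f e u) (WW f e v) = f u v := by
  have key : ∀ (c : F) (g : Fin 3 → V), c ≠ 0 → Frame (c⁻¹ • f) g → ∀ u v,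
      f (mono (c⁻¹ • f) g (fun _ => 1) cyc u) (mono (c⁻¹ • f) g (fun _ => 1) cyc v) = f u v := by
    intro c g hc hg u v
    have h1 := mono_form (fun u v => by
      rw [LinearMap.smul_apply, LinearMap.smul_apply, LinearMap.smul_apply, LinearMap.smul_apply, hsym]) hg h2
      (s := fun _ => 1) (fun _ => one_mul 1) cyc_inj u v
    rw [LinearMap.smul_apply, LinearMap.smul_apply, LinearMap.smul_apply, LinearMap.smul_apply, smul_eq_mul,
      smul_eq_mul] at h1
    exact mul_left_cancel₀ (inv_ne_zero hc) h1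
  show f (W0 f e (W1 f e u)) (W0 f e (W1 f e v)) = f u v
  rw [W0, W1, key 2 _ h2 (frame0 h2 hF), key 6 _ h6 (frame1 h6 hF)]

theorem WW_g0 (h2 : (2 : F) ≠ 0) (hsym : ∀ u v, f u v = f v u) (hF : Frame f e) (i : Fin 3) :
    WW f e (g0 e i) = g0 e (cyc i) := by
  show W0 f e (W1 f e (g0 e i)) = _
  rw [W1_g0 hsym hF, W0, mono_e (frame0 h2 hF) h2, one_smul]

theorem WW_g1 (h2 : (2 : F) ≠ 0) (h6 : (6 : F) ≠ 0) (hF : Frame f e) (i : Fin 3) :
    WW f e (g1 F e i) = g1 F e (cyc i) := by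
  show W0 f e (W1 f e (g1 F e i)) = _
  rw [W1, mono_e (frame1 h6 hF) h2, one_smul, W0_g1 hF]

/-- `w (e₀ - e₁) = e₃ - e₄` -/
theorem WW_a (h2 : (2 : F) ≠ 0) (hsym : ∀ u v, f u v = f v u) (hF : Frame f e) : WW f e (e 0 - e 1) = e 3 - e 4 :=
  WW_g0 h2 hsym hF 0

/-- `w (e₁ - e₂) = e₄ - e₅` -/
theorem WW_b (h2 : (2 : F) ≠ 0) (h6 : (6 : F) ≠ 0) (hsym : ∀ u v, f u v = f v u) (hF : Frame f e) :
    WW f e (e 1 - e 2) = e 4 - e 5 := by
  have h1 : ∀ a b c : V, b - c = (2 : F)⁻¹ • ((a + b - (2 : F) • c) - (a - b)) := by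
    intro a b c
    have : (a + b - (2 : F) • c) - (a - b) = (2 : F) • (b - c) := by rw [smul_sub, two_smul, two_smul]; abel
    rw [this, smul_smul, inv_mul_cancel₀ h2, one_smul]
  rw [h1 (e 0) (e 1) (e 2), map_smul, map_sub]
  have h3 : WW f e (e 0 + e 1 - (2 : F) • e 2) = e 3 + e 4 - (2 : F) • e 5 := WW_g1 h2 h6 hF 0
  rw [h3, WW_a h2 hsym hF, ← h1]

/-- the first three vectors -/
def e3 (e : Fin 8 → V) : Fin 3 → V := ![e 0, e 1, e 2]

theorem frame3 (hF : Frame f e) : Frame f (e3 e) := by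
  refine ⟨fun i => ?_, fun i j hij => ?_⟩
  · fin_cases i <;> simp [e3, hF.form]
  · fin_cases i <;> fin_cases j <;> simp_all [e3, hF.form]

/-- the map `x` -/
noncomputable def XX (f : V →ₗ[F] V →ₗ[F] F) (e : Fin 8 → V) : Module.End F V :=
  mono f (e3 e) (fun _ => 1) cyc

theorem XX_three (h2 : (2 : F) ≠ 0) (hF : Frame f e) : XX f e * XX f e * XX f e = 1 := mono_three h2 (frame3 hF)

theorem XX_iso (h2 : (2 : F) ≠ 0) (hsym : ∀ u v, f u v = f v u) (hF : Frame f e) (u v : V) :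
    f (XX f e u) (XX f e v) = f u v :=
  mono_form hsym (frame3 hF) h2 (fun _ => one_mul 1) cyc_inj u v

theorem XX_e (h2 : (2 : F) ≠ 0) (hF : Frame f e) : XX f e (e 0) = e 1 ∧ XX f e (e 1) = e 2 ∧ XX f e (e 2) = e 0 := by
  have h1 : ∀ i, XX f e (e3 e i) = e3 e (cyc i) := fun i => by rw [XX, mono_e (frame3 hF) h2, one_smul]
  exact ⟨h1 0, h1 1, h1 2⟩

theorem XX_rng (u : V) : XX f e u - u ∈ Submodule.span F {e 0 - e 1, e 1 - e 2} := by
  rw [XX, mono_apply, add_sub_cancel_left]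
  refine Submodule.sum_mem _ fun j _ => Submodule.smul_mem _ _ (Submodule.smul_mem _ _ ?_)
  have ha : e 0 - e 1 ∈ Submodule.span F {e 0 - e 1, e 1 - e 2} := Submodule.subset_span (Or.inl rfl)
  have hb : e 1 - e 2 ∈ Submodule.span F {e 0 - e 1, e 1 - e 2} := Submodule.subset_span (Or.inr rfl)
  rw [one_smul]
  fin_cases j
  · have h1 := Submodule.neg_mem _ ha
    rw [neg_sub] at h1
    exact h1
  · have h1 := Submodule.neg_mem _ hb
    rw [neg_sub] at h1
    exact h1
  · show e 0 - e 2 ∈ _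
    have : e 0 - e 2 = (e 0 - e 1) + (e 1 - e 2) := by abel
    rw [this]; exact Submodule.add_mem _ ha hb

end elt

end Cfsg.Agent.H358.D4
end

-- part: H358/D4/BoxA
section
/-!
# S4311, the row `PΩ₈⁺(q)`: BOX A (helper358)

`boxA`: `BoxA Q` for the forms `Q` over finite fields with `BoxN Q`.
-/

set_option autoImplicit false
set_option linter.unusedSectionVars false

namespace Cfsg.Agent.H358.D4

open Module QuadraticMap Cfsg.Agent.H167.OP Cfsg.Agent.H170.HL Cfsg.Agent.H170.HL.OmRow Cfsg.Agent.H556.Om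
open Cfsg Subgroup Cfsg.Agent.H485.RV Cfsg.Agent.H561.RV Cfsg.Agent.H561.D4

variable {F : Type} [Field F] {ι : Type} [Fintype ι] [DecidableEq ι] {Q : QuadraticForm F (ι → F)}

/-- isometries of order three belong to `Ω` -/
theorem exists_of_three (h : Q8 Q) {z : Module.End F (ι → F)} (h3 : z * z * z = 1)
    (hz : ∀ u v, polarBilin Q (z u) (z v) = polarBilin Q u v) : ∃ g : Cfsg.Omega F (⇑Q), rep (inc (⇑Q)) g = z := by
  obtain ⟨A, hA⟩ := exists_of_iso (⇑Q) z (z * z) (by rw [← mul_assoc]; exact h3) h3 (Q_eq_of h.two hz)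
  have hA3 : A ^ 3 = 1 := by
    apply rep_injective inc'_injective
    rw [pow_succ, pow_two, map_mul, map_mul, hA, h3, map_one]
  exact ⟨⟨A, mem_omega_of_odd h.gq (by decide : Odd 3) hA3⟩, hA⟩

theorem pow_three_of {g : Cfsg.Omega F (⇑Q)} {z : Module.End F (ι → F)} (h3 : z * z * z = 1)
    (hg : rep (inc (⇑Q)) g = z) : g ^ 3 = 1 := by
  apply rep_inj (Q := Q)
  rw [pow_succ, pow_two, map_mul, map_mul, hg, h3, map_one]

/-- the elements `x` and `w` in `Ω` -/
theorem exists_xw (h : Q8 Q) : ∃ (x w : Cfsg.Omega F (⇑Q)) (v : ι → F), Thr (polarBilin Q) (rep (inc (⇑Q))) x v ∧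
    w ^ 3 = 1 ∧ Perp (polarBilin Q) (rep (inc (⇑Q))) x v (w * x * w⁻¹) (rep (inc (⇑Q)) w v) := by
  obtain ⟨E, hE⟩ := h.frame
  have h6 : (6 : F) ≠ 0 := by
    have : (6 : F) = 2 * 3 := by norm_num
    rw [this]; exact mul_ne_zero h.two h.three
  let ε : Fin 8 ≃ Fin 2 × A4 := (Fintype.equivFinOfCardEq (show Fintype.card (Fin 2 × A4) = 8 from rfl)).symm
  obtain ⟨e, he⟩ : ∃ e, e = E ∘ ε := ⟨_, rfl⟩
  have hF : Frame (polarBilin Q) e := he ▸ hE.comp ε.injective
  obtain ⟨x, hx⟩ := exists_of_three h (XX_three h.two hF) (XX_iso h.two polar_symm hF)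
  obtain ⟨w, hw⟩ := exists_of_three h (WW_three h.two h6 polar_symm hF) (WW_iso h.two h6 polar_symm hF)
  obtain ⟨x0, x1, x2⟩ := XX_e h.two hF
  have hxa : rep (inc (⇑Q)) x (e 0 - e 1) = e 1 - e 2 := by rw [hx, map_sub, x0, x1]
  have hxb : rep (inc (⇑Q)) x (e 1 - e 2) = e 2 - e 0 := by rw [hx, map_sub, x1, x2]
  have hwa : rep (inc (⇑Q)) w (e 0 - e 1) = e 3 - e 4 := by rw [hw, WW_a h.two polar_symm hF]
  have hwb : rep (inc (⇑Q)) w (e 1 - e 2) = e 4 - e 5 := by rw [hw, WW_b h.two h6 polar_symm hF]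
  have key : ∀ a b c d : Fin 8, a ≠ c → a ≠ d → b ≠ c → b ≠ d → polarBilin Q (e a - e b) (e c - e d) = 0 := by
    intro a b c d h1 h2 h3 h4
    rw [map_sub, map_sub, LinearMap.sub_apply, LinearMap.sub_apply, hF.orth _ _ h1, hF.orth _ _ h2, hF.orth _ _ h3,
      hF.orth _ _ h4]
    simp
  refine ⟨x, w, e 0 - e 1, ⟨pow_three_of (XX_three h.two hF) hx, ?_, ?_, ?_⟩,
    pow_three_of (WW_three h.two h6 polar_symm hF) hw, ?_⟩
  · rw [map_sub, map_sub, LinearMap.sub_apply, LinearMap.sub_apply, hF.self, hF.self, hF.orth 0 1 (by decide),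
      hF.orth 1 0 (by decide)]
    have : (2 : F) - 0 - (0 - 2) = 2 * 2 := by norm_num
    rw [this]
    exact mul_ne_zero h.two h.two
  · rw [hxa, hxb]; abel
  · intro u
    rw [hxa, hx]
    exact XX_rng u
  · refine Perp.of ?_ ?_ ?_ ?_
    · rw [hwa]; exact key _ _ _ _ (by decide) (by decide) (by decide) (by decide)
    · rw [conj_ap, hxa, hwb]; exact key _ _ _ _ (by decide) (by decide) (by decide) (by decide)
    · rw [hxa, hwa]; exact key _ _ _ _ (by decide) (by decide) (by decide) (by decide)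
    · rw [conj_ap, hxa, hwb]; exact key _ _ _ _ (by decide) (by decide) (by decide) (by decide)

/-- **BOX A** (`BoxZ Q` is not needed) -/
theorem boxA' [Finite F] (hN : BoxN Q) : BoxA Q := by
  intro H hH hT
  have hfin : Finite (Cfsg.Omega F (⇑Q)) := inferInstance
  have h := hH.q8
  have EE := env h
  have hpos : Nat.card H ≠ 0 := by
    intro h0
    exact hH.char (by rw [h0, Nat.cast_zero])
  have hi2 : ¬ 2 ∣ H.index := fun hd => by
    have h1 := Nat.Coprime.eq_one_of_dvd (hH.hall.coprime_dvd_right hd).symm hH.two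
    omega
  have hi3 : ¬ 3 ∣ H.index := fun hd => by
    have h1 := Nat.Coprime.eq_one_of_dvd (hH.hall.coprime_dvd_right hd).symm hH.three
    omega
  obtain ⟨E, hF, hPH⟩ := exists_PM h hi2
  obtain ⟨x₀, w₀, v₀, T₀, hw₀, hp₀⟩ := exists_xw h
  obtain ⟨x, w, v, T, hx, hw3, hw, ho⟩ := exists_pair EE T₀ hw₀ hp₀ hi3
  obtain ⟨N, hNH, hN2, hNn, hNZ⟩ := hT
  obtain ⟨A, hA, hA2, hAc, hAZ⟩ := exists_elem (Z := Subgroup.center (Cfsg.Omega F (⇑Q))) (PM_isPGroup h.two hF) hPH
    hN2 hNn hNZ (fun n hn => diag h hF hn) (by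
      intro M hMN hMH hsq hcom hne
      by_contra hcon
      push Not at hcon
      obtain ⟨b, hb, hbZ⟩ := hne
      exact class2 EE T (hN2.to_le hMN) (hMH x hx) hsq hcom hcon hb hbZ)
  obtain ⟨O, S⟩ := exists_sys EE hA hA2 hAc hAZ (fun W hW hWH => irr h hF hPH W hW hWH)
  have h27 : 27 ∣ Nat.card H := by
    obtain ⟨a, b, ha, -, -, h3, -, -⟩ := hN
    have h1 : 3 ^ (4 * a + 1) ∣ Nat.card (Cfsg.Omega F (⇑Q)) := by
      rw [← h3]; exact Nat.ordProj_dvd _ _
    have h2 : 3 ^ 3 ∣ Nat.card H * H.index := by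
      rw [H.card_mul_index]
      exact (pow_dvd_pow 3 (by omega)).trans h1
    exact (Nat.Coprime.pow_left 3 ((Nat.Prime.coprime_iff_not_dvd Nat.prime_three).2 hi3)).dvd_of_dvd_mul_right h2
  obtain ⟨U, h1, h2, h3, h4, h5⟩ := S.dec EE T hx hw3 hw ho h27
  exact ⟨U, ⟨h1, h2, h3, h4⟩, fun g hg => ⟨h5 g hg, h5 g⁻¹ (H.inv_mem hg)⟩⟩

end Cfsg.Agent.H358.D4
end

private theorem dce_3fb2b91327b2 : _root_.True := by
  try have : _root_.True := by simp only [_root_.Cfsg.Agent.H358.D4.W1.eq_1]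
  try have : _root_.True := by simp only [_root_.Cfsg.Agent.H358.D4.g0.eq_1]
  try have : _root_.True := by simp only [_root_.Cfsg.Agent.H167.OP.rk.eq_1]
  try have : _root_.True := by simp only [_root_.Cfsg.Agent.H358.D4.XX.eq_1]
  try have : _root_.True := by simp only [_root_.Cfsg.Agent.H358.D4.e3.eq_1]
  try have : _root_.True := by simp only [_root_.Cfsg.Agent.H358.D4.g1.eq_1]
  try have : _root_.True := by simp only [_root_.Cfsg.Agent.H358.D4.W0.eq_1]
  exact _root_.True.intro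
end

-- part: H1/D4/BoxCOne
section
prune_inst 0x4e5100a004900020000000082110000603a00040200430000086003000288cc600d022640b83010100808880440300048114400b002000000000004000119018010800204b148a10002000e000800000000000000000000000000000000000004000000000
set_option linter.all false
open scoped Cfsg.Agent.FastGrp

-- part: H1/D4/NoTwo
section
/-!
# S4311, box C1: two components are impossible, conclusion (helper1)
-/

set_option autoImplicit false
set_option linter.unusedSectionVars false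

namespace Cfsg.Agent.H1.D4

open Module Subgroup Cfsg.Agent.Lib.MinNormal Cfsg.Agent.Lib.MinNormalNonabelian

variable {F : Type*} [Field F] {V : Type*} [AddCommGroup V] [Module F V] {G : Type*} [Group G] [Finite G]
  {X : Type*} [Group X] [Finite X] {ρ : Representation F G V} {B : LinearMap.BilinForm F V} {f : G →* X}
  {N T₁ T₂ : Subgroup X} {J : Type*} [Fintype J] [DecidableEq J] {e : J → V}

theorem no_two_aux (h : Cx ρ B f) (hS : Soc N {T₁, T₂}) (hne : T₁ ≠ T₂) (he : Fr ρ B e) {x : G} (hx3 : x ^ 3 = 1)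
    (hxr : finrank F (rg ρ x) ≤ 2) (hxa : ∃ a ∈ T₁, f x * a ≠ a * f x) : False := by
  have := h.fd
  have m1 : T₁ ∈ ({T₁, T₂} : Set (Subgroup X)) := Or.inl rfl
  have m2 : T₂ ∈ ({T₁, T₂} : Set (Subgroup X)) := Or.inr rfl
  have hQ₁ := h.qs hS m1
  have hQ₂ := h.qs hS m2
  have hc : ∀ a ∈ kt f T₁, ∀ b ∈ kt f T₂, a * b = b * a := kt_comm h.hcen (hS.comm _ m1 _ m2 hne)
  have hfx : f x ^ 3 = 1 := by rw [← map_pow, hx3, map_one]
  obtain ⟨hx₁', hx₂'⟩ := perm3 hS hne hfx
  have key : ∀ {g : G} {S T : Subgroup X}, S.map (MulAut.conj (f g)).toMonoidHom = T →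
      ∀ k ∈ kt f S, g * k * g⁻¹ ∈ kt f T :=
    fun h => kt_conj fun s hs => by rw [← h]; exact ⟨s, hs, rfl⟩
  obtain ⟨a, ha, hab⟩ := hxa
  obtain ⟨a', ha', rfl⟩ := lift_of h.surj (hS.perf _ m1) ha
  have hb1 : f (x * a' * x⁻¹ * a'⁻¹) ≠ 1 := by
    intro h1
    rw [map_mul, map_mul, map_mul, map_inv, map_inv, mul_inv_eq_one, mul_inv_eq_iff_eq_mul] at h1
    exact hab h1
  obtain ⟨y, hy⟩ := hS.conj _ m1 _ m2
  obtain ⟨g, rfl⟩ := h.surj y
  have hg' : T₂.map (MulAut.conj (f g⁻¹)).toMonoidHom = T₁ := by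
    rw [hy, map_conj_map_conj, map_inv, inv_mul_cancel, map_conj_one]
  have hinv : ∀ g : G, ∀ v ∈ cm ρ (kt f T₁) ⊔ cm ρ (kt f T₂), ρ g v ∈ cm ρ (kt f T₁) ⊔ cm ρ (kt f T₂) := by
    intro g v hv
    obtain ⟨u, hu, w, hw, rfl⟩ := Submodule.mem_sup.1 hv
    rw [map_add]
    rcases kt_perm (f := f) hS hne g with ⟨h1, h2⟩ | ⟨h1, h2⟩
    · exact Submodule.add_mem _ (Submodule.mem_sup_left (cm_map h1 hu)) (Submodule.mem_sup_right (cm_map h2 hw))
    · exact Submodule.add_mem _ (Submodule.mem_sup_right (cm_map h1 hu)) (Submodule.mem_sup_left (cm_map h2 hw))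
  have hne0 : cm ρ (kt f T₁) ⊔ cm ρ (kt f T₂) ≠ ⊥ := by
    intro h0
    have h1 : cm ρ (kt f T₁) = ⊥ := eq_bot_iff.2 (le_sup_left.trans h0.le)
    apply hb1
    rw [h.ker]
    left
    have hk : x * a' * x⁻¹ * a'⁻¹ ∈ kt f T₁ := (kt f T₁).mul_mem (key hx₁' _ ha') ((kt f T₁).inv_mem ha')
    intro v
    have h3 := cm_mem (ρ := ρ) hk v
    rw [h1, Submodule.mem_bot, sub_eq_zero] at h3
    exact h3
  have htop := he.irr h.h2 hinv hne0
  obtain ⟨hA4, hD4, hinf, hperp⟩ := pair_final h.h2 h.dim h.symm h.nd h.inv (fun z hz g => h.hcen z hz g) hQ₁ hQ₂ hc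
    (key hx₁') (key hx₂') hxr (h.ss x) (fun k _ => h.ss k) ha' hb1 (key hy.symm)
    (fun k hk => by have := key hg' k hk; rwa [inv_inv] at this) htop
  obtain ⟨A, hA⟩ : ∃ A, A = cm ρ (kt f T₁) := ⟨_, rfl⟩
  obtain ⟨D, hD⟩ : ∃ D, D = cm ρ (kt f T₂) := ⟨_, rfl⟩
  rw [← hA] at hA4 hinf hperp htop
  rw [← hD] at hD4 hinf hperp htop
  have hM : ∀ j k, j ≠ k → ∀ v ∈ A, B (e j) v • e j + B (e k) v • e k ∈ A := by
    intro j k hjk v hv
    obtain ⟨t, ht⟩ := he.t j k hjk
    rcases kt_perm (f := f) hS hne t with ⟨h1, -⟩ | ⟨h1, -⟩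
    · have h3 : ρ t v ∈ A := by rw [hA] at hv ⊢; exact cm_map h1 hv
      have h4 := A.sub_mem hv h3
      rw [ht] at h4
      have h5 : v - (v - B (e j) v • e j - B (e k) v • e k) = B (e j) v • e j + B (e k) v • e k := by abel
      rwa [h5] at h4
    · exfalso
      let φ : A →ₗ[F] (F × F) := ((B (e j)).prod (B (e k))).comp A.subtype
      have h3 : LinearMap.ker φ ≠ ⊥ := by
        apply LinearMap.ker_ne_bot_of_finrank_lt
        rw [Module.finrank_prod, Module.finrank_self, hA4]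
        norm_num
      obtain ⟨w, hw, hw0⟩ := Submodule.exists_mem_ne_zero_of_ne_bot h3
      have h4 : B (e j) (w : V) = 0 := congrArg Prod.fst (LinearMap.mem_ker.1 hw)
      have h5 : B (e k) (w : V) = 0 := congrArg Prod.snd (LinearMap.mem_ker.1 hw)
      have h6 : ρ t (w : V) = w := by rw [ht, h4, h5, zero_smul, zero_smul, sub_zero, sub_zero]
      have h7 : ρ t (w : V) ∈ D := by
        rw [hD]
        refine cm_map h1 ?_
        rw [← hA]
        exact w.2
      rw [h6] at h7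
      have h8 : (w : V) ∈ A ⊓ D := ⟨w.2, h7⟩
      rw [hinf, Submodule.mem_bot] at h8
      exact hw0 (Subtype.ext h8)
  obtain ⟨z, hzA, hzD'⟩ := he.exists_neg h.h2 hM hA4
  have hzD : ∀ v ∈ D, ρ z v = v := fun v hv => hzD' v fun a ha => hperp a ha v hv
  -- `z` commutes with `K₁` and `K₂`
  have hcomm : ∀ k : G, (∀ v ∈ A, ρ k v ∈ A) → (∀ v ∈ D, ρ k v ∈ D) → z * k = k * z := by
    intro k hkA hkD
    refine h.eq fun v => ?_
    have hv : v ∈ A ⊔ D := by rw [htop]; exact Submodule.mem_top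
    obtain ⟨u, hu, w, hw, rfl⟩ := Submodule.mem_sup.1 hv
    rw [rho_mul, rho_mul, map_add, map_add, map_add, hzA u hu, hzD w hw, hzA _ (hkA u hu), hzD _ (hkD w hw), map_add,
      map_neg]
  have e1 : ∀ k ∈ kt f T₁, z * k = k * z := by
    intro k hk
    refine hcomm k (fun v hv => ?_) fun v hv => ?_
    · rw [hA] at hv ⊢
      exact cm_map (fun l hl => (kt f T₁).mul_mem ((kt f T₁).mul_mem hk hl) ((kt f T₁).inv_mem hk)) hv
    · rw [hD] at hv ⊢
      refine cm_map (fun l hl => ?_) hv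
      rw [hc k hk l hl, mul_inv_cancel_right]
      exact hl
  have e2 : ∀ k ∈ kt f T₂, z * k = k * z := by
    intro k hk
    refine hcomm k (fun v hv => ?_) fun v hv => ?_
    · rw [hA] at hv ⊢
      refine cm_map (fun l hl => ?_) hv
      rw [← hc l hl k hk, mul_inv_cancel_right]
      exact hl
    · rw [hD] at hv ⊢
      exact cm_map (fun l hl => (kt f T₂).mul_mem ((kt f T₂).mul_mem hk hl) ((kt f T₂).inv_mem hk)) hv
  have hfz : f z = 1 := by
    refine hS.comm_one (fun t ht => ?_) fun t ht => ?_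
    · obtain ⟨k, hk, rfl⟩ := lift_of h.surj (hS.perf _ m1) ht
      rw [← map_mul, e1 k hk, map_mul]
    · obtain ⟨k, hk, rfl⟩ := lift_of h.surj (hS.perf _ m2) ht
      rw [← map_mul, e2 k hk, map_mul]
  have hnt : ∀ U : Submodule F V, finrank F U = 4 → ∃ u ∈ U, u ≠ 0 := by
    intro U hU
    apply Submodule.exists_mem_ne_zero_of_ne_bot
    intro h0
    rw [h0, finrank_bot] at hU
    norm_num at hU
  rcases (h.ker z).1 hfz with h1 | h1
  · obtain ⟨u, hu, hu0⟩ := hnt A hA4
    have h3 := hzA u hu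
    rw [h1] at h3
    exact hu0 (two_zero h.h2 h3)
  · obtain ⟨u, hu, hu0⟩ := hnt D hD4
    have h3 := hzD u hu
    rw [h1] at h3
    exact hu0 (two_zero h.h2 h3.symm)

/-- **two components are impossible** -/
theorem no_two (h : Cx ρ B f) {s : Set (Subgroup X)} (hS : Soc N s) (hs2 : s.ncard = 2) (he : Fr ρ B e) {x : G}
    (hx3 : x ^ 3 = 1) (hxr : finrank F (rg ρ x) ≤ 2) (hx1 : f x ≠ 1) : False := by
  obtain ⟨T₁, T₂, hne, rfl⟩ := Set.ncard_eq_two.1 hs2
  by_cases h1 : ∃ a ∈ T₁, f x * a ≠ a * f x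
  · exact no_two_aux h hS hne he hx3 hxr h1
  · by_cases h3 : ∃ a ∈ T₂, f x * a ≠ a * f x
    · rw [Set.pair_comm] at hS
      exact no_two_aux h hS hne.symm he hx3 hxr h3
    · push Not at h1 h3
      exact hx1 (hS.comm_one h1 h3)

end Cfsg.Agent.H1.D4
end

-- part: H561/D4/RThree
section
/-!
# S4311, the row `PΩ₈⁺(q)`: (r3) for subgroups of `Ω` (from helper556's `exists_invol`) (helper561)
-/

set_option autoImplicit false
set_option linter.unusedSectionVars false

namespace Cfsg.Agent.H561.D4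

open Module QuadraticMap Cfsg.Agent.H167.OP Cfsg.Agent.H170.HL Cfsg.Agent.H170.HL.OmRow Cfsg.Agent.H556.Om
open Cfsg Subgroup Cfsg.Agent.H485.RV Cfsg.Agent.H561.RV

variable {F : Type} [Field F] {ι : Type} [Fintype ι] [DecidableEq ι] {Q : QuadraticForm F (ι → F)}

/-- (r3) -/
def R3 (Q : QuadraticForm F (ι → F)) : Prop :=
  ∀ (H R : Subgroup (Cfsg.Omega F (⇑Q))) (r : ℕ), ¬ 2 ∣ H.index → (Nat.card H : F) ≠ 0 → r.Prime → r ≠ 2 → R ≤ H →
    R ≠ ⊥ → IsPGroup r R → (∀ g ∈ H, ∀ x ∈ R, g * x * g⁻¹ ∈ R) → NTwo H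

theorem r3 [Finite F] (hQ : GoodQ Q) (h2 : (2 : F) ≠ 0) (hN : 5 ≤ Fintype.card ι) : R3 Q := by
  intro H R r hidx hcard hr hr2 hRH hR0 hRr hRn
  have hfin : Finite (Cfsg.Omega F (⇑Q)) := inferInstance
  have := Fact.mk hr
  have hRnt : Nontrivial R := (Subgroup.nontrivial_iff_ne_bot R).mpr hR0
  have hZ : Nontrivial (Subgroup.center R) := hRr.center_nontrivial
  let C : Subgroup (Cfsg.Omega F (⇑Q)) := (Subgroup.center R).map R.subtype
  have hCR : C ≤ R := Subgroup.map_subtype_le _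
  have hC1 : C ≠ ⊥ := by
    intro h
    rw [Subgroup.map_eq_bot_iff_of_injective _ R.subtype_injective] at h
    exact (Subgroup.nontrivial_iff_ne_bot _).mp hZ h
  have hCB' : ∀ c ∈ C, ∀ b ∈ R, c * b = b * c := by
    rintro _ ⟨c, hc, rfl⟩ b hb
    exact (congrArg Subtype.val (Subgroup.mem_center_iff.mp hc ⟨b, hb⟩)).symm
  have hCn : ∀ h ∈ H, ∀ c ∈ C, h * c * h⁻¹ ∈ C := by
    intro h hh c hc
    have h1 : h * c * h⁻¹ ∈ R := hRn h hh c (hCR hc)
    refine ⟨⟨h * c * h⁻¹, h1⟩, ?_, rfl⟩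
    rw [SetLike.mem_coe, Subgroup.mem_center_iff]
    rintro ⟨b, hb⟩
    apply Subtype.ext
    show b * (h * c * h⁻¹) = h * c * h⁻¹ * b
    have h3 : h⁻¹ * b * h ∈ R := by
      have := hRn h⁻¹ (H.inv_mem hh) b hb
      rwa [inv_inv] at this
    have h4 := hCB' c hc _ h3
    calc b * (h * c * h⁻¹) = h * (h⁻¹ * b * h * c) * h⁻¹ := by group
      _ = h * (c * (h⁻¹ * b * h)) * h⁻¹ := by rw [h4]
      _ = h * c * h⁻¹ * b := by group
  let A : Subgroup H := C.subgroupOf H
  have hAn : A.Normal := ⟨fun a ha g => hCn g g.2 a ha⟩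
  have hCH : C ≤ H := hCR.trans hRH
  have hcA : Nat.card A = Nat.card C := Nat.card_congr (Subgroup.subgroupOfEquivOfLe hCH).toEquiv
  have hA1 : A ≠ ⊥ := by
    intro h
    apply hC1
    rw [← Subgroup.card_eq_one, ← hcA, h, Subgroup.card_bot]
  have hAa : ∀ a ∈ A, ∀ b ∈ A, a * b = b * a := fun a ha b hb => Subtype.ext (hCB' a ha b (hCR hb))
  have hAo : Odd (Nat.card A) := by
    rw [hcA]
    obtain ⟨m, hm⟩ := (hRr.to_le hCR).exists_card_eq
    rw [hm]
    exact (hr.odd_of_ne_two hr2).pow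
  obtain ⟨z, hz1, hz2, ⟨v, hv0, hv⟩, w, hw0, hw⟩ := Cfsg.Agent.H556.OddCore.exists_invol hQ h2 hN hidx hcard hA1 hAa hAo
  obtain ⟨N, hN1, hzN, hN2⟩ := Cfsg.Agent.H556.OddCore.exists_normal hz1 hz2
  refine ⟨N.map H.subtype, Subgroup.map_subtype_le _, hN2.map _, ?_, z, ⟨z, hzN, rfl⟩, ?_⟩
  · rintro g hg _ ⟨n, hn, rfl⟩
    have h1 : (⟨g, hg⟩ : H) * n * (⟨g, hg⟩ : H)⁻¹ ∈ N := hN1.conj_mem n hn ⟨g, hg⟩
    have h2 : H.subtype ((⟨g, hg⟩ : H) * n * (⟨g, hg⟩ : H)⁻¹) = g * H.subtype n * g⁻¹ := by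
      simp only [_root_.MonoidHom.map_mul, _root_.MonoidHom.map_mul, _root_.MonoidHom.map_inv, Subgroup.subtype_apply]
    rw [← h2]
    exact Subgroup.mem_map_of_mem _ h1
  · intro hc
    have h0 : inc (⇑Q) (z : Cfsg.Omega F (⇑Q)) = 1 ∨ inc (⇑Q) (z : Cfsg.Omega F (⇑Q)) = -1 :=
      (Cfsg.Agent.LieClassical.OmegaCenter.mem_center_omega_iff Q hQ.nd hQ.card hQ.sing
      (z : Cfsg.Omega F (⇑Q))).mp hc
    rcases h0 with h3 | h3
    · have h4 : rep (inc (⇑Q)) (z : Cfsg.Omega F (⇑Q)) w = w := by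
        have h5 : (z : Cfsg.Omega F (⇑Q)) = 1 := inc_injective (h3.trans (map_one _).symm)
        rw [h5, map_one, Module.End.one_apply]
      rw [hw] at h4
      have h5 : (2 : F) • w = 0 := by
        rw [two_smul]
        nth_rewrite 1 [← h4]
        exact neg_add_cancel w
      exact hw0 ((smul_eq_zero.mp h5).resolve_left h2)
    · have h4 : rep (inc (⇑Q)) (z : Cfsg.Omega F (⇑Q)) v = -v := by
        rw [rep_apply, h3, Matrix.neg_mulVec, Matrix.one_mulVec]
      rw [hv] at h4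
      have h5 : (2 : F) • v = 0 := by
        rw [two_smul]
        nth_rewrite 1 [h4]
        exact neg_add_cancel v
      exact hv0 ((smul_eq_zero.mp h5).resolve_left h2)

end Cfsg.Agent.H561.D4
end

-- part: H1/D4/Conc
section
/-!
# S4311, box C1: the concrete situation (helper1)
-/

set_option autoImplicit false
set_option linter.unusedSectionVars false

namespace Cfsg.Agent.H1.D4

open Module QuadraticMap Cfsg.Agent.H167.OP Cfsg.Agent.H170.HL Cfsg.Agent.H170.HL.OmRow Cfsg.Agent.H556.Om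
open Cfsg Subgroup Cfsg.Agent.H485.RV Cfsg.Agent.H561.RV Cfsg.Agent.H561.D4

variable {F : Type} [Field F] {ι : Type} [Fintype ι] [DecidableEq ι] {Q : QuadraticForm F (ι → F)}
  {E : Fin 2 × A4 → ι → F} {H : Subgroup (Cfsg.Omega F (⇑Q))}

/-- the image in `PΩ` -/
abbrev Xg (H : Subgroup (Cfsg.Omega F (⇑Q))) : Subgroup (Cfsg.Omega F (⇑Q) ⧸ Subgroup.center (Cfsg.Omega F (⇑Q))) :=
  H.map (QuotientGroup.mk' (Subgroup.center (Cfsg.Omega F (⇑Q))))

/-- the projection -/
abbrev fH (H : Subgroup (Cfsg.Omega F (⇑Q))) : H →* Xg H :=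
  (QuotientGroup.mk' (Subgroup.center (Cfsg.Omega F (⇑Q)))).subgroupMap H

/-- the representation -/
noncomputable abbrev rH (H : Subgroup (Cfsg.Omega F (⇑Q))) : Representation F H (ι → F) :=
  (rep (inc (⇑Q))).comp H.subtype

theorem rH_apply (g : H) (v : ι → F) : rH H g v = rep (inc (⇑Q)) (g : Cfsg.Omega F (⇑Q)) v := rfl

theorem fH_one (g : H) : fH H g = 1 ↔ (g : Cfsg.Omega F (⇑Q)) ∈ Subgroup.center (Cfsg.Omega F (⇑Q)) := by
  simp only [← QuotientGroup.eq_one_iff]
  constructor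
  · intro h
    exact congrArg Subtype.val h
  · intro h
    exact Subtype.ext h

theorem mem_cen (hq : GoodQ Q) [Finite F] (g : Cfsg.Omega F (⇑Q)) : g ∈ Subgroup.center (Cfsg.Omega F (⇑Q)) ↔
    (∀ v, rep (inc (⇑Q)) g v = v) ∨ ∀ v, rep (inc (⇑Q)) g v = -v := by
  have h1 : g ∈ Subgroup.center (Cfsg.Omega F (⇑Q)) ↔ inc (⇑Q) g = 1 ∨ inc (⇑Q) g = -1 :=
    Cfsg.Agent.LieClassical.OmegaCenter.mem_center_omega_iff Q hq.nd hq.card hq.sing g
  rw [h1]
  constructor
  · rintro (h | h)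
    · left
      intro v
      rw [rep_apply, h, Matrix.one_mulVec]
    · right
      intro v
      rw [rep_apply, h, Matrix.neg_mulVec, Matrix.one_mulVec]
  · rintro (h | h)
    · left
      have h3 : g = 1 := rep_inj (LinearMap.ext fun v => by rw [h, map_one, Module.End.one_apply])
      rw [h3, map_one]
    · right
      ext i j
      have h3 := congrFun (h (Pi.single j 1)) i
      rw [rep_apply, Matrix.mulVec_single_one] at h3
      rw [Matrix.neg_apply, Matrix.one_apply]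
      simpa [Pi.single_apply, Matrix.col_apply] using h3

theorem cxH [Finite F] (h : HD H) : Cx (rH H) (polarBilin Q) (fH H) where
  h2 := h.q8.two
  dim := by rw [Module.finrank_fintype_fun_eq_card, h.q8.dim]
  symm := polar_symm
  nd := fun u hu => h.q8.gq.nd.1 u hu
  inv := fun g u v => polar_omega (g : Cfsg.Omega F (⇑Q)) u v
  surj := MonoidHom.subgroupMap_surjective _ _
  ker := fun g => by simp only [fH_one, mem_cen h.q8.gq]; rfl
  inj := fun g hg => Subtype.ext (rep_inj (LinearMap.ext fun v => by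
    rw [Subgroup.coe_one, map_one, Module.End.one_apply]
    exact hg v))
  char := h.char

theorem HD.not_two (h : HD H) : ¬ 2 ∣ H.index := fun h1 =>
  Nat.not_coprime_of_dvd_of_dvd (by norm_num) h.two h1 h.hall

theorem HD.not_three (h : HD H) : ¬ 3 ∣ H.index := fun h1 =>
  Nat.not_coprime_of_dvd_of_dvd (by norm_num) h.three h1 h.hall

/-- a frame whose monomial group lies in `H` -/
theorem exists_frameH [Finite F] (h : HD H) : ∃ (E : Fin 2 × A4 → ι → F) (hF : Frame (polarBilin Q) E),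
    PM h.q8.two hF ≤ H := by
  obtain ⟨E, hF⟩ := h.q8.frame
  obtain ⟨g, hg⟩ := exists_conj (HD.not_two h) (PM_isPGroup h.q8.two hF)
  have hF' : Frame (polarBilin Q) (fun j => rep (inc (⇑Q)) g (E j)) := hF.map (polar_omega g)
  refine ⟨_, hF', fun x hx => ?_⟩
  obtain ⟨s, σ, hs, hσ, hx⟩ := hx
  have h1 : g⁻¹ * x * g ∈ PM h.q8.two hF := ⟨s, σ, hs, hσ, conj_mono hx⟩
  have h3 := hg _ h1
  have h4 : g * (g⁻¹ * x * g) * g⁻¹ = x := by group
  rwa [h4] at h3

theorem PP_trans (i j : Fin 2 × A4) : ∃ τ c, pp τ (fun _ => false) c i = j :=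
  ⟨Equiv.swap i.1 j.1, fun _ => i.2 + j.2, by
    obtain ⟨k, a⟩ := i
    obtain ⟨l, b⟩ := j
    rw [pp_apply]
    refine Prod.ext (Equiv.swap_apply_left k l) ?_
    show lin false a + (a + b) = b
    rw [← add_assoc]
    show a + a + b = b
    rw [CharTwo.add_self_eq_zero, zero_add]⟩

theorem mono_sg (h2 : (2 : F) ≠ 0) {j k : Fin 2 × A4} (hjk : j ≠ k) (v : ι → F) :
    mono (polarBilin Q) E (H556.Om.sg F j k) id v = v - polarBilin Q (E j) v • E j - polarBilin Q (E k) v • E k := by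
  rw [mono_apply]
  have h1 : ∀ i, polarBilin Q (E i) v • ((2 : F)⁻¹ • (H556.Om.sg F j k i • E (id i) - E i)) =
      (if i = j then -(polarBilin Q (E j) v • E j) else 0) + if i = k then -(polarBilin Q (E k) v • E k) else 0 := by
    intro i
    simp only [H556.Om.sg, id]
    by_cases h3 : i = j
    · subst h3
      rw [if_pos (Or.inl rfl), if_pos rfl, if_neg hjk, add_zero, neg_one_smul]
      have h4 : (2 : F)⁻¹ • (-E i - E i) = -E i := by
        have : -E i - E i = (2 : F) • -E i := by rw [two_smul]; abel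
        rw [this, smul_smul, inv_mul_cancel₀ h2, one_smul]
      rw [h4, smul_neg]
    · by_cases h5 : i = k
      · subst h5
        rw [if_pos (Or.inr rfl), if_neg h3, if_pos rfl, zero_add, neg_one_smul]
        have h4 : (2 : F)⁻¹ • (-E i - E i) = -E i := by
          have : -E i - E i = (2 : F) • -E i := by rw [two_smul]; abel
          rw [this, smul_smul, inv_mul_cancel₀ h2, one_smul]
        rw [h4, smul_neg]
      · rw [if_neg (by rintro (h | h); exacts [h3 h, h5 h]), if_neg h3, if_neg h5, one_smul, sub_self, smul_zero, smul_zero,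
          add_zero]
  rw [Finset.sum_congr rfl fun i _ => h1 i, Finset.sum_add_distrib, Finset.sum_ite_eq' Finset.univ j,
    Finset.sum_ite_eq' Finset.univ k, if_pos (Finset.mem_univ _), if_pos (Finset.mem_univ _)]
  abel

theorem frH [Finite F] (h : HD H) (hF : Frame (polarBilin Q) E) (hP : PM h.q8.two hF ≤ H) :
    Fr (rH H) (polarBilin Q) E where
  form := fun i j => hF.form i j
  sp := by
    intro v hv
    have h8 : Fintype.card (Fin 2 × A4) = finrank F (ι → F) := by
      rw [Module.finrank_fintype_fun_eq_card, h.q8.dim]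
      rfl
    have h1 : v ∈ Submodule.span F (Set.range E) := by
      rw [(hF.linearIndependent h.q8.two).span_eq_top_of_card_eq_finrank' h8]
      exact Submodule.mem_top
    apply h.q8.gq.nd.1 v
    intro w
    have h2 : w ∈ Submodule.span F (Set.range E) := by
      rw [(hF.linearIndependent h.q8.two).span_eq_top_of_card_eq_finrank' h8]
      exact Submodule.mem_top
    induction h2 using Submodule.span_induction with
    | mem w hw =>
      obtain ⟨j, rfl⟩ := hw
      rw [polar_symm, hv]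
    | zero => rw [map_zero]
    | add a b _ _ ha hb => rw [map_add, ha, hb, add_zero]
    | smul c a _ ha => rw [map_smul, ha, smul_zero]
  t := by
    intro j k hjk
    (have h_ob := exists_sg h.q8.gq h.q8.two hF hjk
     revert h_ob; rintro (⟨t, ht⟩))
    refine ⟨⟨t, hP (sg_mem_PM h.q8.two hF ht)⟩, fun v => ?_⟩
    rw [rH_apply]
    show rep (inc (⇑Q)) t v = _
    rw [ht, mono_sg h.q8.two hjk]
  tr := by
    intro i j
    (have h_ob := PP_trans i j
     revert h_ob; rintro (⟨τ, c, hτ⟩))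
    (have h_ob := H556.Om.exists_perm h.q8.gq h.q8.two hF (sign_pp τ false c)
     revert h_ob; rintro (⟨g, hg⟩))
    refine ⟨⟨g, hP (perm_mem_PM h.q8.two hF (pp_mem τ _ c) hg)⟩, ?_⟩
    rw [rH_apply]
    show rep (inc (⇑Q)) g (E i) = E j
    rw [hg, mono_e hF h.q8.two, one_smul, hτ]
  third := by
    intro j k
    have h1 : ∃ l, l ∉ ({j, k} : Finset (Fin 2 × A4)) := by
      by_contra hcon
      push Not at hcon
      have h3 : (Finset.univ : Finset (Fin 2 × A4)) ⊆ {j, k} := fun l _ => hcon l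
      have h4 := (Finset.card_le_card h3).trans Finset.card_le_two
      revert h4
      decide
    obtain ⟨l, hl⟩ := h1
    rw [Finset.mem_insert, Finset.mem_singleton, not_or] at hl
    exact ⟨l, hl.1, hl.2⟩

end Cfsg.Agent.H1.D4
end

-- part: H1/D4/Ord
section
/-!
# S4311, box C1: `O_r(X) = 1` (helper1)
-/

set_option autoImplicit false
set_option linter.unusedSectionVars false

namespace Cfsg.Agent.H1.D4

open Module QuadraticMap Cfsg.Agent.H167.OP Cfsg.Agent.H170.HL Cfsg.Agent.H170.HL.OmRow Cfsg.Agent.H556.Om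
open Cfsg Subgroup Cfsg.Agent.H485.RV Cfsg.Agent.H561.RV Cfsg.Agent.H561.D4

/-- the Sylow subgroup of a central extension of an `r`-group -/
theorem exists_normal_lift {G X : Type*} [Group G] [Finite G] [Group X] {f : G →* X} (hf : Function.Surjective f)
    (hcen : ∀ z, f z = 1 → ∀ g, z * g = g * z) {R : Subgroup X} {r : ℕ} (hr : r.Prime) (hR : R.Normal)
    (hRr : IsPGroup r R) (hne : R ≠ ⊥) : ∃ S : Subgroup G, S.Normal ∧ IsPGroup r S ∧ S ≠ ⊥ := by
  have := Fact.mk hr
  have : Finite X := Finite.of_surjective f hf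
  have hfin : Finite R := inferInstance
  have hN : (R.comap f).Normal := hR.comap f
  have hRn : Group.IsNilpotent R := hRr.isNilpotent
  let φ : R.comap f →* R := (f.comp (R.comap f).subtype).codRestrict R fun x => x.2
  have hker : φ.ker ≤ Subgroup.center (R.comap f) := by
    intro x hx
    rw [Subgroup.mem_center_iff]
    intro y
    have h1 : f (x : G) = 1 := congrArg Subtype.val hx
    exact Subtype.ext (hcen _ h1 y).symm
  have hnil : Group.IsNilpotent (R.comap f) := Subgroup.isNilpotent_of_ker_le_center φ hker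
  obtain ⟨P⟩ : Nonempty (Sylow r (R.comap f)) := inferInstance
  have hPn : (P : Subgroup (R.comap f)).Normal := ((Group.isNilpotent_of_finite_tfae (G := R.comap f)).out 0 3 rfl rfl).1
    hnil r inferInstance P
  have hPc : (P : Subgroup (R.comap f)).Characteristic := P.characteristic_of_normal hPn
  refine ⟨(P : Subgroup (R.comap f)).map (R.comap f).subtype, inferInstance, P.2.map _, ?_⟩
  intro h0
  rw [Subgroup.map_eq_bot_iff_of_injective _ (R.comap f).subtype_injective] at h0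
  have h1 : r ∣ Nat.card R := by
    obtain ⟨n, hn⟩ := hRr.exists_card_eq
    have hn0 : n ≠ 0 := by
      rintro rfl
      rw [pow_zero] at hn
      exact hne (Subgroup.card_eq_one.1 hn)
    rw [hn]
    exact dvd_pow_self r hn0
  have h2 : r ∣ Nat.card (R.comap f) := by
    refine h1.trans ?_
    have hs : Function.Surjective φ := by
      rintro ⟨x, hx⟩
      obtain ⟨g, rfl⟩ := hf x
      exact ⟨⟨g, hx⟩, rfl⟩
    exact Subgroup.card_dvd_of_surjective φ hs
  have h3 := P.dvd_card_of_dvd_card h2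
  have h4 : Nat.card (P : Subgroup (R.comap f)) = 1 := by rw [h0]; exact Subgroup.card_bot
  have h5 : Nat.card P = 1 := h4
  rw [h5] at h3
  exact hr.one_lt.ne' (Nat.dvd_one.1 h3)

variable {F : Type} [Field F] {ι : Type} [Fintype ι] [DecidableEq ι] {Q : QuadraticForm F (ι → F)}
  {H : Subgroup (Cfsg.Omega F (⇑Q))}

theorem normal_map {S : Subgroup H} (hS : S.Normal) : ∀ g ∈ H, ∀ n ∈ S.map H.subtype, g * n * g⁻¹ ∈ S.map H.subtype := by
  rintro g hg _ ⟨n, hn, rfl⟩
  have h1 : (⟨g, hg⟩ : H) * n * (⟨g, hg⟩ : H)⁻¹ ∈ S := hS.conj_mem n hn ⟨g, hg⟩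
  have h2 : H.subtype ((⟨g, hg⟩ : H) * n * (⟨g, hg⟩ : H)⁻¹) = g * H.subtype n * g⁻¹ := by
    simp only [_root_.MonoidHom.map_mul, _root_.MonoidHom.map_mul, _root_.MonoidHom.map_inv, Subgroup.subtype_apply]
  rw [← h2]
  exact Subgroup.mem_map_of_mem _ h1

theorem hO [Finite F] (h : HD H) (hn : ¬ NTwo H) (R : Subgroup (Xg H)) (r : ℕ) (hr : r.Prime) (hR : R.Normal)
    (hRr : IsPGroup r R) : R = ⊥ := by
  have hfin : Finite (Cfsg.Omega F (⇑Q)) := inferInstance
  by_contra hne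
  apply hn
  by_cases h2 : r = 2
  · subst h2
    refine ⟨(R.comap (fH H)).map H.subtype, Subgroup.map_subtype_le _, ?_, normal_map (hR.comap _), ?_⟩
    · apply IsPGroup.map
      rintro ⟨x, hx⟩
      (have h_ob := hRr ⟨fH H x, hx⟩
       revert h_ob; rintro (⟨k, hk⟩))
      refine ⟨k + 1, Subtype.ext ?_⟩
      show x ^ 2 ^ (k + 1) = 1
      have h1 : fH H (x ^ 2 ^ k) = 1 := by
        rw [map_pow]
        exact congrArg Subtype.val hk
      have h3 : ∀ y : H, fH H y = 1 → y * y = 1 := by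
        intro y hy
        refine (cxH h).inj _ fun v => ?_
        rw [rho_mul]
        (have h_ob := ((cxH h).ker y).1 hy
         revert h_ob; rintro (h4 | h4))
        · rw [h4, h4]
        · rw [h4, h4, neg_neg]
      rw [pow_succ, pow_mul, pow_two]
      exact h3 _ h1
    · obtain ⟨⟨x, hxR⟩, hx1⟩ := (Subgroup.ne_bot_iff_exists_ne_one).1 hne
      (have h_ob := (cxH h).surj x
       revert h_ob; rintro (⟨g, rfl⟩))
      refine ⟨g, ⟨g, hxR, rfl⟩, fun hc => hx1 (Subtype.ext ?_)⟩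
      exact (fH_one g).2 hc
  · obtain ⟨S, hS, hSr, hS1⟩ := exists_normal_lift (cxH h).surj (cxH h).hcen hr hR hRr hne
    refine r3 h.q8.gq h.q8.two (by rw [h.q8.dim]; norm_num) H (S.map H.subtype) r (HD.not_two h) h.char hr h2
      (Subgroup.map_subtype_le _) ?_ (hSr.map _) (normal_map hS)
    intro h0
    rw [Subgroup.map_eq_bot_iff_of_injective _ H.subtype_injective] at h0
    exact hS1 h0

end Cfsg.Agent.H1.D4
end

-- part: H1/D4/BoxCOne
section
/-!
# S4311, box C1 (helper1)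
-/

set_option autoImplicit false
set_option linter.unusedSectionVars false

namespace Cfsg.Agent.H1.D4

open Module QuadraticMap Cfsg.Agent.H167.OP Cfsg.Agent.H170.HL Cfsg.Agent.H170.HL.OmRow Cfsg.Agent.H556.Om
open Cfsg Subgroup Cfsg.Agent.H485.RV Cfsg.Agent.H561.RV Cfsg.Agent.H561.D4

variable {F : Type} [Field F] {ι : Type} [Fintype ι] [DecidableEq ι] {Q : QuadraticForm F (ι → F)}
  {E : Fin 2 × A4 → ι → F} {H : Subgroup (Cfsg.Omega F (⇑Q))}

theorem z_mem_PM (h2 : (2 : F) ≠ 0) (hF : Frame (polarBilin Q) E) {z : Cfsg.Omega F (⇑Q)} (hz : IsZ Q E z) :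
    z ∈ PM h2 hF :=
  ⟨_, 1, fun j => by
    simp only [s0]
    split_ifs <;> norm_num, PP.one_mem, hz⟩

theorem comm_one_aux {G X : Type*} [Group G] [Group X] (f : G →* X) {g y : G} (h : f y * f g = f g * f y) :
    f (g * y * g⁻¹ * y⁻¹) = 1 := by
  rw [map_mul, map_mul, map_mul, map_inv, map_inv, ← h, mul_inv_cancel_right, mul_inv_cancel]

theorem mul_one_aux {G X : Type*} [Group G] [Group X] (f : G →* X) {g y : G} (h : f (g * y⁻¹) = 1) :
    f g = f y := by
  rwa [map_mul, map_inv, mul_inv_eq_one] at h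

open scoped Classical in
/-- an element of order three with small commutator space -/
theorem exists_x [Finite F] (h : HD H) (hF : Frame (polarBilin Q) E) :
    ∃ x : H, x ^ 3 = 1 ∧ finrank F (rg (rH H) x) ≤ 2 ∧ fH H x ≠ 1 := by
  have hfin : Finite (Cfsg.Omega F (⇑Q)) := inferInstance
  have h2 := h.q8.two
  (have h_ob : ∃ a : Fin 2 × A4, a = (0, 0, 0) := ⟨_, rfl⟩
   revert h_ob; rintro (⟨a, ha⟩))
  (have h_ob : ∃ b : Fin 2 × A4, b = (0, 0, 1) := ⟨_, rfl⟩
   revert h_ob; rintro (⟨b, hb⟩))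
  (have h_ob : ∃ c : Fin 2 × A4, c = (0, 1, 0) := ⟨_, rfl⟩
   revert h_ob; rintro (⟨c, hc⟩))
  have hab : a ≠ b := by rw [ha, hb]; decide
  have hac : a ≠ c := by rw [ha, hc]; decide
  have hbc : b ≠ c := by rw [hb, hc]; decide
  have h3 := Equiv.Perm.isThreeCycle_swap_mul_swap_same hab hac hbc
  (have h_ob : ∃ σ, σ = Equiv.swap a b * Equiv.swap a c := ⟨_, rfl⟩
   revert h_ob; rintro (⟨σ, hσ⟩))
  rw [← hσ] at h3
  have hσ3 : σ ^ 3 = 1 := by rw [← h3.orderOf, pow_orderOf_eq_one]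
  (have h_ob := H556.Om.exists_perm h.q8.gq h2 hF h3.sign
   revert h_ob; rintro (⟨g, hg⟩))
  have hg3 : g ^ 3 = 1 := by
    apply rep_inj (Q := Q)
    simp only [pow_succ g 2, pow_two g, _root_.MonoidHom.map_mul (rep (inc ⇑Q)) (g * g) g, _root_.MonoidHom.map_mul (rep (inc ⇑Q)) g g, hg, mono_mul hF h2, mono_mul hF h2, _root_.MonoidHom.map_one]
    refine mono_one hF h2 (fun j => by simp) fun j => ?_
    have h4 := congrArg (fun τ : Equiv.Perm _ => τ j) hσ3
    exact h4
  have hσa : σ a = c := by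
    rw [hσ, Equiv.Perm.mul_apply, Equiv.swap_apply_left, Equiv.swap_apply_of_ne_of_ne hac.symm hbc.symm]
  have hσc : σ c = b := by
    rw [hσ, Equiv.Perm.mul_apply, Equiv.swap_apply_right, Equiv.swap_apply_left]
  have hσb : σ b = a := by
    rw [hσ, Equiv.Perm.mul_apply, Equiv.swap_apply_of_ne_of_ne hab.symm hbc, Equiv.swap_apply_right]
  have hσo : ∀ j, j ≠ a → j ≠ b → j ≠ c → σ j = j := by
    intro j h1 h2 h3
    rw [hσ, Equiv.Perm.mul_apply, Equiv.swap_apply_of_ne_of_ne h1 h3, Equiv.swap_apply_of_ne_of_ne h1 h2]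
  -- conjugate into `H`
  (have h_ob := exists_conj_r Nat.prime_three (HD.not_three h) (x := g) (n := 1) (by rw [pow_one, hg3])
   revert h_ob; rintro (⟨d, hd⟩))
  have hx3 : (⟨d * g * d⁻¹, hd⟩ : H) ^ 3 = 1 := by
    apply Subtype.ext
    show (d * g * d⁻¹) ^ 3 = 1
    rw [conj_pow, hg3, mul_one, mul_inv_cancel]
  refine ⟨⟨d * g * d⁻¹, hd⟩, hx3, ?_, ?_⟩
  · have hsub : rg (rH H) (⟨d * g * d⁻¹, hd⟩ : H) ≤
        Submodule.span F {rep (inc (⇑Q)) d (E b - E a), rep (inc (⇑Q)) d (E c - E b)} := by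
      intro u hu
      obtain ⟨v, rfl⟩ := mem_rg.1 hu
      (have h_ob : ∃ w, w = rep (inc (⇑Q)) d⁻¹ v := ⟨_, rfl⟩
       revert h_ob; rintro (⟨w, hw⟩))
      have hv : v = rep (inc (⇑Q)) d w := by rw [hw, inv_rep]
      have h5 : rH H (⟨d * g * d⁻¹, hd⟩ : H) v - v = rep (inc (⇑Q)) d (rep (inc (⇑Q)) g w - w) := by
        (simp +singlePass only [rH_apply]; (conv => enter [@3]; rw [map_sub]); (conv => enter [@3, @6]; rw [← hv]))
        show rep (inc (⇑Q)) (d * g * d⁻¹) v - v = _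
        simp only [_root_.MonoidHom.map_mul, _root_.MonoidHom.map_mul, Module.End.mul_apply, Module.End.mul_apply, ← hw]
      rw [h5]
      have h6 : rep (inc (⇑Q)) g w - w ∈ Submodule.span F {E b - E a, E c - E b} := by
        rw [hg, mono_apply, add_sub_cancel_left]
        refine Submodule.sum_mem _ fun j _ => Submodule.smul_mem _ _ (Submodule.smul_mem _ _ ?_)
        rw [one_smul]
        have m1 : E b - E a ∈ Submodule.span F {E b - E a, E c - E b} := Submodule.subset_span (Or.inl rfl)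
        have m2 : E c - E b ∈ Submodule.span F {E b - E a, E c - E b} := Submodule.subset_span (Or.inr rfl)
        by_cases e1 : j = a
        · rw [e1, hσa]
          have := Submodule.add_mem _ m1 m2
          have h7 : E b - E a + (E c - E b) = E c - E a := by abel
          rwa [h7] at this
        · by_cases e2 : j = b
          · rw [e2, hσb]
            have := Submodule.neg_mem _ m1
            rwa [neg_sub] at this
          · by_cases e3 : j = c
            · rw [e3, hσc]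
              have := Submodule.neg_mem _ m2
              rwa [neg_sub] at this
            · rw [hσo j e1 e2 e3, sub_self]
              exact Submodule.zero_mem _
      have h8 := Submodule.mem_map_of_mem (f := rep (inc (⇑Q)) d) h6
      rw [Submodule.map_span, Set.image_pair] at h8
      exact h8
    refine (Submodule.finrank_mono hsub).trans ?_
    have h9 := finrank_span_finset_le_card (R := F)
      ({rep (inc (⇑Q)) d (E b - E a), rep (inc (⇑Q)) d (E c - E b)} : Finset (ι → F))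
    rw [Finset.coe_pair] at h9
    exact h9.trans Finset.card_le_two
  · intro h1
    rw [(cxH h).ker] at h1
    have key : ∀ v, rH H ((⟨d * g * d⁻¹, hd⟩ : H) ^ 3) v = v := fun v => by rw [hx3, map_one, Module.End.one_apply]
    have hE : ∀ s : F, (∀ v, rep (inc (⇑Q)) (d * g * d⁻¹) v = s • v) → False := by
      intro s hs
      have h5 := hs (rep (inc (⇑Q)) d (E a))
      simp only [_root_.MonoidHom.map_mul, _root_.MonoidHom.map_mul, Module.End.mul_apply, Module.End.mul_apply, H485.RV.rep_inv, hg, mono_e hF h2, one_smul, hσa,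
        ← map_smul] at h5
      have h6 : E c = s • E a := by
        have := congrArg (rep (inc (⇑Q)) d⁻¹) h5
        rwa [H485.RV.rep_inv, H485.RV.rep_inv] at this
      have h7 := hF.form c c
      rw [if_pos rfl] at h7
      nth_rewrite 2 [h6] at h7
      rw [map_smul, hF.form, if_neg hac.symm, smul_zero] at h7
      exact h2 h7.symm
    rcases h1 with h1 | h1
    · exact hE 1 fun v => by rw [one_smul]; exact h1 v
    · exact hE (-1) fun v => by rw [neg_one_smul]; exact h1 v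

set_option maxHeartbeats 2000000 in
/-- **BOX C1** -/
theorem boxC1 [Finite F] (hZ : BoxZ Q) : BoxC1 Q := by
  intro H h hn
  have hfin : Finite (Cfsg.Omega F (⇑Q)) := inferInstance
  (have h_ob := exists_frameH h
   revert h_ob; rintro (⟨E, hF, hP⟩))
  (have h_ob := exists_x h hF
   revert h_ob; rintro (⟨x, hx3, hxr, hx1⟩))
  have hX : Nontrivial (Xg H) := ⟨fH H x, 1, hx1⟩
  (have h_ob := hZ h.q8 E hF
   revert h_ob; rintro (⟨⟨z, hz⟩, hzz⟩))
  have hzP := z_mem_PM h.q8.two hF hz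
  let P₀ : Subgroup H := (PM h.q8.two hF).subgroupOf H
  have hP₀ : IsPGroup 2 P₀ := (PM_isPGroup h.q8.two hF).of_equiv (Subgroup.subgroupOfEquivOfLe hP).symm
  have hz₀ : ∀ s : Xg H, (∀ y ∈ P₀.map (fH H), y * s = s * y) → s = 1 ∨ s = fH H ⟨z, hP hzP⟩ := by
    intro s hs
    (have h_ob := (cxH h).surj s
     revert h_ob; rintro (⟨g, rfl⟩))
    have h1 : ∀ y ∈ PM h.q8.two hF, (g : Cfsg.Omega F (⇑Q)) * y * (g : Cfsg.Omega F (⇑Q))⁻¹ * y⁻¹ ∈
        Subgroup.center (Cfsg.Omega F (⇑Q)) := by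
      intro y hy
      obtain ⟨y', hy'⟩ : ∃ y' : H, (y' : Cfsg.Omega F (⇑Q)) = y := ⟨⟨y, hP hy⟩, rfl⟩
      have hyP : y' ∈ P₀ := by
        rw [Subgroup.mem_subgroupOf, hy']
        exact hy
      have h3 := hs (fH H y') (Subgroup.mem_map_of_mem _ hyP)
      have h4 : fH H (g * y' * g⁻¹ * y'⁻¹) = 1 := comm_one_aux _ h3
      have h5 := (fH_one _).1 h4
      simp only [Subgroup.coe_mul, Subgroup.coe_mul, Subgroup.coe_mul, Subgroup.coe_inv, Subgroup.coe_inv, hy'] at h5
      exact h5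
    (have h_ob := hzz z g hz h1
     revert h_ob; rintro (h3 | h3))
    · exact Or.inl ((fH_one g).2 h3)
    · right
      have h4 : fH H (g * (⟨z, hP hzP⟩ : H)⁻¹) = 1 := by
        rw [fH_one, Subgroup.coe_mul, Subgroup.coe_inv]
        exact h3
      exact mul_one_aux _ h4
  (have h_ob := exists_socle hX (hP₀.map (fH H)) hz₀ (hO h hn)
   revert h_ob; rintro (⟨N, s, hS, k, hk⟩))
  have hk4 : ¬ 4 ≤ s.ncard := fun h4 => (cxH h).le_two hS h4
  have hk2 : s.ncard ≠ 2 := fun h2 => no_two (cxH h) hS h2 (frH h hF hP) hx3 hxr hx1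
  have hk1 : s.ncard = 1 := by
    rcases k with _ | _ | k
    · rw [hk, pow_zero]
    · exact absurd (by rw [hk]; norm_num) hk2
    · exfalso
      apply hk4
      rw [hk, pow_add]
      have : 1 ≤ 2 ^ k := Nat.one_le_two_pow
      omega
  (have h_ob := Set.ncard_eq_one.1 hk1
   revert h_ob; rintro (⟨T, rfl⟩))
  have hTN : T = N := by rw [← hS.sup, sSup_singleton]
  subst hTN
  refine ⟨T, hS.nor, hS.simple T rfl, ?_, hS.cent⟩
  intro hc
  obtain ⟨t, ht⟩ := @exists_ne T (hS.simple T rfl).toNontrivial 1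
  apply ht
  apply Subtype.ext
  refine hS.cen T rfl t t.2 fun u hu => ?_
  exact congrArg Subtype.val (hc.1.1 t ⟨u, hu⟩)

end Cfsg.Agent.H1.D4
end

private theorem dce_924cd2c6517c : _root_.True := by
  try have : _root_.True := by simp only [_root_.Cfsg.Agent.H561.D4.s0.eq_1]
  exact _root_.True.intro
end

-- part: H982/DfThree
section
prune_inst 0x4e11002004900100000000506800000603200040201000000802000000088ac600d002000b83000100880000440380048104c00800040000004000000011801800000000081480000000000000000000000000000000000000000000000000000000000000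
set_option linter.all false
open scoped Cfsg.Agent.FastGrp

-- part: H982/DfMat
section
/-!
# S4311, BOX D3: isometries of the determinant form on `M₂(F)` (helper982)

* `typ_of_iso` : every linear isometry is `X ↦ A X B` or `X ↦ A adj(X) B`, `det A det B = 1`;
* `det_typ_false`, `det_typ_true` : their determinants are `1`, `-1`.
-/

set_option autoImplicit false

namespace Cfsg.Agent.H982.DfMat

open Matrix

variable {F : Type*} [Field F]

/-- `2 × 2` matrices -/
abbrev M2 (F : Type*) [Field F] := Matrix (Fin 2) (Fin 2) F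

/-- the polar form of the determinant -/
def pd (X Y : M2 F) : F := X 0 0 * Y 1 1 + X 1 1 * Y 0 0 - X 0 1 * Y 1 0 - X 1 0 * Y 0 1

theorem det_add' (X Y : M2 F) : (X + Y).det = X.det + Y.det + pd X Y := by
  rw [det_fin_two, det_fin_two, det_fin_two, pd]
  simp only [Matrix.add_apply]
  ring

theorem pd_of_det {g : M2 F →ₗ[F] M2 F} (h : ∀ X, (g X).det = X.det) (X Y : M2 F) : pd (g X) (g Y) = pd X Y := by
  have h1 := h (X + Y)
  rw [map_add, det_add', det_add', h, h] at h1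
  linear_combination h1

/-- the idempotent -/
def e0 (F : Type*) [Field F] : M2 F := !![1, 0; 0, 0]

theorem exists_col {P : M2 F} (ht : P 0 0 + P 1 1 = 1) (hd : P.det = 0) : ∃ C : M2 F, C.det = 1 ∧ P * C = C * e0 F := by
  rw [det_fin_two] at hd
  by_cases ha : P 0 0 = 0
  · refine ⟨!![P 0 1, -1; 1, P 1 0], ?_, ?_⟩
    · rw [det_fin_two_of]
      rw [ha] at hd
      linear_combination -hd
    · have h1 : P 1 1 = 1 := by rw [ha, zero_add] at ht; exact ht
      have h2 : P 0 1 * P 1 0 = 0 := by rw [ha] at hd; linear_combination -hd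
      ext i j
      fin_cases i <;> fin_cases j
      · simp [e0, Matrix.mul_apply, Fin.sum_univ_two, ha]
      · simp [e0, Matrix.mul_apply, Fin.sum_univ_two, ha]
        exact mul_eq_zero.1 h2
      · simp [e0, Matrix.mul_apply, Fin.sum_univ_two, h1]
        exact (mul_eq_zero.1 h2).symm
      · simp [e0, Matrix.mul_apply, Fin.sum_univ_two, h1]
  · refine ⟨!![P 0 0, -P 0 1 / P 0 0; P 1 0, 1], ?_, ?_⟩
    · rw [det_fin_two_of]
      field_simp
      linear_combination P 0 0 * ht - hd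
    · ext i j
      fin_cases i <;> fin_cases j
      · simp only [e0, Matrix.mul_apply, Fin.sum_univ_two, _root_.Fin.isValue, _root_.Fin.zero_eta, _root_.Matrix.of_apply, _root_.Matrix.cons_val', _root_.Matrix.cons_val_zero, _root_.Matrix.cons_val_fin_one, _root_.Matrix.cons_val_one, _root_.mul_one, _root_.MulZeroClass.mul_zero, _root_.add_zero]
        linear_combination P 0 0 * ht - hd
      · simp only [e0, Matrix.mul_apply, Fin.sum_univ_two, _root_.Fin.isValue, _root_.Fin.zero_eta, _root_.Fin.mk_one, _root_.Matrix.of_apply, _root_.Matrix.cons_val', _root_.Matrix.cons_val_one, _root_.Matrix.cons_val_fin_one, _root_.Matrix.cons_val_zero, _root_.mul_one, _root_.MulZeroClass.mul_zero, _root_.add_zero]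
        field_simp
        ring
      · simp only [e0, Matrix.mul_apply, Fin.sum_univ_two, _root_.Fin.isValue, _root_.Fin.mk_one, _root_.Fin.zero_eta, _root_.Matrix.of_apply, _root_.Matrix.cons_val', _root_.Matrix.cons_val_zero, _root_.Matrix.cons_val_fin_one, _root_.Matrix.cons_val_one, _root_.mul_one, _root_.MulZeroClass.mul_zero, _root_.add_zero]
        linear_combination P 1 0 * ht
      · simp only [e0, Matrix.mul_apply, Fin.sum_univ_two, _root_.Fin.isValue, _root_.Fin.mk_one, _root_.Matrix.of_apply, _root_.Matrix.cons_val', _root_.Matrix.cons_val_one, _root_.Matrix.cons_val_fin_one, _root_.Matrix.cons_val_zero, _root_.mul_one, _root_.MulZeroClass.mul_zero, _root_.add_zero]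
        field_simp
        linear_combination hd

/-- an isometry fixing `1` and `e0` -/
theorem iso_std {g : M2 F →ₗ[F] M2 F} (h : ∀ X, (g X).det = X.det) (h1 : g 1 = 1) (he : g (e0 F) = e0 F) :
    ∃ c : F, c ≠ 0 ∧ ((∀ X, g X = !![X 0 0, c * X 0 1; c⁻¹ * X 1 0, X 1 1]) ∨
      (∀ X, g X = !![X 0 0, c * X 1 0; c⁻¹ * X 0 1, X 1 1])) := by
  have hp := pd_of_det h
  have h11 : ∀ X, (g X) 1 1 = X 1 1 := by
    intro X
    have := hp X (e0 F)
    rw [he] at this
    simpa [pd, e0] using this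
  have h00 : ∀ X, (g X) 0 0 = X 0 0 := by
    intro X
    have := hp X 1
    rw [h1] at this
    simp only [pd, _root_.Fin.isValue, _root_.Matrix.one_apply_eq, _root_.mul_one, _root_.ne_eq, _root_.one_ne_zero, _root_.not_false_eq_true, _root_.Matrix.one_apply_ne, _root_.MulZeroClass.mul_zero, _root_.sub_zero, _root_.zero_ne_one] at this
    rw [h11] at this
    linear_combination this
  obtain ⟨P, hP⟩ : ∃ P, P = g !![0, 1; 0, 0] := ⟨_, rfl⟩
  obtain ⟨R, hR⟩ : ∃ R, R = g !![0, 0; 1, 0] := ⟨_, rfl⟩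
  have hgX : ∀ X, g X = X 0 0 • e0 F + X 0 1 • P + X 1 0 • R + X 1 1 • (1 - e0 F) := by
    intro X
    have hX : X = X 0 0 • e0 F + X 0 1 • !![0, 1; 0, 0] + X 1 0 • !![0, 0; 1, 0] + X 1 1 • (1 - e0 F) := by
      ext i j
      (revert i j; simp only [e0, _root_.Fin.forall_fin_succ, Fin.isValue, _root_.Matrix.smul_of, _root_.Matrix.smul_cons, _root_.smul_eq_mul, _root_.mul_one, _root_.MulZeroClass.mul_zero, _root_.Matrix.smul_empty, _root_.Matrix.of_add_of, _root_.Matrix.add_cons, _root_.Matrix.head_cons, _root_.add_zero, _root_.Matrix.tail_cons, _root_.zero_add, _root_.Matrix.empty_add_empty, _root_.Matrix.add_apply, _root_.Matrix.of_apply, _root_.Matrix.cons_val', _root_.Matrix.cons_val_fin_one, _root_.Matrix.smul_apply, _root_.Matrix.sub_apply, _root_.Matrix.cons_val_zero, _root_.Matrix.cons_val_succ, _root_.Fin.succ_zero_eq_one, _root_.IsEmpty.forall_iff, _root_.and_true, _root_.Matrix.one_apply_eq, _root_.sub_self, Nat.reduceAdd, _root_.ne_eq,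 _root_.zero_ne_one, _root_.not_false_eq_true, _root_.Matrix.one_apply_ne, _root_.and_self, _root_.Fin.succ_ne_zero, _root_.sub_zero])
    conv_lhs => rw [hX]
    rw [map_add, map_add, map_add, map_smul, map_smul, map_smul, map_smul, map_sub, h1, he, ← hP, ← hR]
  have hP00 : P 0 0 = 0 := by rw [hP, h00]; simp
  have hP11 : P 1 1 = 0 := by rw [hP, h11]; simp
  have hR00 : R 0 0 = 0 := by rw [hR, h00]; simp
  have hR11 : R 1 1 = 0 := by rw [hR, h11]; simp
  have hPd : P 0 1 * P 1 0 = 0 := by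
    have := h !![0, 1; 0, 0]
    rw [← hP, det_fin_two, hP00, hP11, det_fin_two_of] at this
    linear_combination -this
  have hRd : R 0 1 * R 1 0 = 0 := by
    have := h !![0, 0; 1, 0]
    rw [← hR, det_fin_two, hR00, hR11, det_fin_two_of] at this
    linear_combination -this
  have hPR : P 0 1 * R 1 0 + P 1 0 * R 0 1 = 1 := by
    have := hp !![0, 1; 0, 0] !![0, 0; 1, 0]
    rw [← hP, ← hR, pd, pd, hP00, hP11] at this
    simp at this
    linear_combination -this
  rcases mul_eq_zero.1 hPd with h2 | h2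
  · rw [h2, zero_mul, zero_add] at hPR
    have h3 : R 0 1 ≠ 0 := right_ne_zero_of_mul_eq_one hPR
    have h4 : R 1 0 = 0 := (mul_eq_zero.1 hRd).resolve_left h3
    refine ⟨R 0 1, h3, Or.inr fun X => ?_⟩
    have h5 : P 1 0 = (R 0 1)⁻¹ := eq_inv_of_mul_eq_one_left hPR
    rw [hgX]
    ext i j
    fin_cases i <;> fin_cases j
    · simp [e0, hP00, hR00]
    · simp only [e0, h2, _root_.Fin.isValue, _root_.Matrix.smul_of, _root_.Matrix.smul_cons, _root_.smul_eq_mul, _root_.mul_one, _root_.MulZeroClass.mul_zero, _root_.Matrix.smul_empty, _root_.Fin.zero_eta, _root_.Fin.mk_one, _root_.Matrix.add_apply, _root_.Matrix.of_apply, _root_.Matrix.cons_val', _root_.Matrix.cons_val_one, _root_.Matrix.cons_val_fin_one, _root_.Matrix.cons_val_zero, _root_.Matrix.smul_apply, _root_.add_zero, _root_.zero_add, _root_.Matrix.sub_apply, _root_.Nat.reduceAdd, _root_.ne_eq, _root_.zero_ne_one, _root_.not_false_eq_true, _root_.Matrix.one_apply_ne, _root_.sub_self]; ring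
    · simp [e0, h4, h5]; ring
    · simp [e0, hP11, hR11]
  · rw [h2, zero_mul, add_zero] at hPR
    have h3 : P 0 1 ≠ 0 := left_ne_zero_of_mul_eq_one hPR
    have h4 : R 1 0 ≠ 0 := right_ne_zero_of_mul_eq_one hPR
    have h6 : R 0 1 = 0 := (mul_eq_zero.1 hRd).resolve_right h4
    refine ⟨P 0 1, h3, Or.inl fun X => ?_⟩
    have h5 : R 1 0 = (P 0 1)⁻¹ := eq_inv_of_mul_eq_one_right hPR
    rw [hgX]
    ext i j
    fin_cases i <;> fin_cases j
    · simp [e0, hP00, hR00]
    · simp [e0, h6]; ring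
    · simp [e0, h2, h5]; ring
    · simp [e0, hP11, hR11]

/-- the two types of isometries -/
def Typ (b : Bool) (A B X : M2 F) : M2 F := if b then A * X.adjugate * B else A * X * B

theorem adj2 (X : M2 F) : X.adjugate = !![X 1 1, -X 0 1; -X 1 0, X 0 0] := adjugate_fin_two X

/-- **Isometries of `(M₂(F), det)`.** -/
theorem typ_of_iso {g : M2 F →ₗ[F] M2 F} (h : ∀ X, (g X).det = X.det) :
    ∃ (b : Bool) (A B : M2 F), A.det * B.det = 1 ∧ ∀ X, g X = Typ b A B X := by
  obtain ⟨S, hS⟩ : ∃ S, S = g 1 := ⟨_, rfl⟩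
  have hSd : S.det = 1 := by rw [hS, h, det_one]
  have hS1 : S.adjugate * S = 1 := by rw [adjugate_mul, hSd, one_smul]
  have hS2 : S * S.adjugate = 1 := by rw [mul_adjugate, hSd, one_smul]
  have hSa : S.adjugate.det = 1 := by
    have := congrArg Matrix.det hS1
    rwa [det_mul, hSd, mul_one, det_one] at this
  let g₁ : M2 F →ₗ[F] M2 F :=
    { toFun := fun X => S.adjugate * g X
      map_add' := fun X Y => by rw [map_add, mul_add]
      map_smul' := fun c X => by rw [map_smul, RingHom.id_apply, Matrix.mul_smul] }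
  have hg₁ : ∀ X, g₁ X = S.adjugate * g X := fun _ => rfl
  have h₁ : ∀ X, (g₁ X).det = X.det := fun X => by rw [hg₁, det_mul, hSa, one_mul, h]
  have h₁1 : g₁ 1 = 1 := by rw [hg₁, ← hS, hS1]
  obtain ⟨C, hC, hPC⟩ := exists_col (P := g₁ (e0 F)) (by
    have := pd_of_det h₁ (e0 F) 1
    rw [h₁1] at this
    simp only [pd, e0, _root_.Fin.isValue, _root_.Matrix.one_apply_eq, _root_.mul_one, _root_.ne_eq, _root_.one_ne_zero, _root_.not_false_eq_true, _root_.Matrix.one_apply_ne, _root_.MulZeroClass.mul_zero, _root_.sub_zero, _root_.zero_ne_one, _root_.Matrix.of_apply, _root_.Matrix.cons_val', _root_.Matrix.cons_val_zero, _root_.Matrix.cons_val_fin_one, _root_.Matrix.cons_val_one, _root_.add_zero] at this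
    exact this) (by rw [h₁]; simp [e0])
  have hC1 : C.adjugate * C = 1 := by rw [adjugate_mul, hC, one_smul]
  have hC2 : C * C.adjugate = 1 := by rw [mul_adjugate, hC, one_smul]
  have hCa : C.adjugate.det = 1 := by
    have := congrArg Matrix.det hC1
    rwa [det_mul, hC, mul_one, det_one] at this
  let g₂ : M2 F →ₗ[F] M2 F :=
    { toFun := fun X => C.adjugate * g₁ X * C
      map_add' := fun X Y => by rw [map_add, mul_add, add_mul]
      map_smul' := fun c X => by rw [map_smul, RingHom.id_apply, Matrix.mul_smul, Matrix.smul_mul] }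
  have hg₂ : ∀ X, g₂ X = C.adjugate * g₁ X * C := fun _ => rfl
  have h₂ : ∀ X, (g₂ X).det = X.det := fun X => by rw [hg₂, det_mul, det_mul, hCa, hC, one_mul, mul_one, h₁]
  have h₂1 : g₂ 1 = 1 := by rw [hg₂, h₁1, mul_one, hC1]
  have h₂e : g₂ (e0 F) = e0 F := by rw [hg₂, mul_assoc, hPC, ← mul_assoc, hC1, one_mul]
  have hback : ∀ X, g X = S * (C * g₂ X * C.adjugate) := by
    intro X
    rw [hg₂]
    calc g X = (S * S.adjugate) * g X := by rw [hS2, one_mul]
      _ = S * g₁ X := by rw [hg₁, mul_assoc]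
      _ = S * ((C * C.adjugate) * g₁ X * (C * C.adjugate)) := by rw [hC2, one_mul, mul_one]
      _ = _ := by simp only [mul_assoc]
  obtain ⟨c, hc, h3 | h3⟩ := iso_std h₂ h₂1 h₂e
  · refine ⟨false, S * C * !![c, 0; 0, 1], !![c⁻¹, 0; 0, 1] * C.adjugate, ?_, fun X => ?_⟩
    · rw [det_mul, det_mul, det_mul, hSd, hC, hCa, det_fin_two_of, det_fin_two_of]
      field_simp
      ring
    · have h4 : g₂ X = !![c, 0; 0, 1] * X * !![c⁻¹, 0; 0, 1] := by
        rw [h3]
        conv_rhs => rw [Matrix.eta_fin_two X]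
        ext i j
        (revert i j; simp only [Matrix.mul_apply, Fin.sum_univ_two, _root_.Fin.forall_fin_succ, Fin.isValue, _root_.Matrix.of_apply, _root_.Matrix.cons_val', _root_.Matrix.cons_val_fin_one, _root_.Matrix.cons_mul, _root_.Nat.succ_eq_add_one, Nat.reduceAdd, _root_.Matrix.vecMul_cons, _root_.Matrix.head_cons, _root_.Matrix.smul_cons, _root_.smul_eq_mul, _root_.Matrix.smul_empty, _root_.Matrix.tail_cons, _root_.zero_smul, _root_.Matrix.empty_vecMul, _root_.add_zero, _root_.one_smul, _root_.zero_add, _root_.Matrix.empty_mul, _root_.Equiv.symm_apply_apply, _root_.Matrix.cons_val_zero, _root_.Matrix.cons_val_one, _root_.MulZeroClass.mul_zero, _root_.Matrix.cons_val_succ, _root_.mul_one, _root_.implies_true, _root_.and_true, _root_.forall_const]) <;> (repeat' with_reducible apply And.intro) <;> field_simp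
      rw [hback, h4]
      simp only [Typ, Bool.false_eq_true, if_false, mul_assoc]
  · refine ⟨true, S * C * !![0, c; -1, 0], !![0, -1; c⁻¹, 0] * C.adjugate, ?_, fun X => ?_⟩
    · rw [det_mul, det_mul, det_mul, hSd, hC, hCa, det_fin_two_of, det_fin_two_of]
      field_simp
      ring
    · have h4 : g₂ X = !![0, c; -1, 0] * X.adjugate * !![0, -1; c⁻¹, 0] := by
        rw [h3, adj2]
        ext i j
        (revert i j; simp only [Matrix.mul_apply, Fin.sum_univ_two, _root_.Fin.forall_fin_succ, Fin.isValue, _root_.Matrix.of_apply, _root_.Matrix.cons_val', _root_.Matrix.cons_val_fin_one, _root_.Matrix.cons_mul, _root_.Nat.succ_eq_add_one, Nat.reduceAdd, _root_.Matrix.vecMul_cons, _root_.Matrix.head_cons, _root_.zero_smul, _root_.Matrix.tail_cons, _root_.Matrix.smul_cons, _root_.smul_eq_mul, _root_.mul_neg, _root_.Matrix.smul_empty, _root_.Matrix.empty_vecMul, _root_.add_zero, _root_.zero_add, _root_.neg_smul, _root_.one_smul, _root_.Matrix.neg_cons,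 _root_.neg_neg, _root_.Matrix.neg_empty, _root_.Matrix.empty_mul, _root_.Equiv.symm_apply_apply, _root_.Matrix.cons_val_zero, _root_.Matrix.cons_val_one, _root_.MulZeroClass.mul_zero, _root_.Matrix.cons_val_succ, _root_.mul_one, _root_.forall_const, _root_.and_true]) <;> (repeat' with_reducible apply And.intro) <;> field_simp
      rw [hback, h4]
      simp only [Typ, if_true, mul_assoc]

/-! ### Determinants -/

/-- `X ↦ A X` -/
def lmL (A : M2 F) : M2 F →ₗ[F] M2 F where
  toFun X := A * X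
  map_add' X Y := mul_add _ _ _
  map_smul' c X := by rw [RingHom.id_apply, Matrix.mul_smul]

/-- `X ↦ X B` -/
def rmL (B : M2 F) : M2 F →ₗ[F] M2 F where
  toFun X := X * B
  map_add' X Y := add_mul _ _ _
  map_smul' c X := by rw [RingHom.id_apply, Matrix.smul_mul]

/-- the transposition -/
def tpL (F : Type*) [Field F] : M2 F ≃ₗ[F] M2 F := Matrix.transposeLinearEquiv (Fin 2) (Fin 2) F F

theorem det_rmL (B : M2 F) : LinearMap.det (rmL B) = B.det ^ 2 := by
  have h := LinearMap.det_pi (R := F) (ι := Fin 2) (M := Fin 2 → F) (fun _ => Matrix.toLin' Bᵀ)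
  rw [Fin.prod_univ_two, LinearMap.det_toLin', det_transpose, ← pow_two] at h
  rw [← h]
  congr 1
  apply LinearMap.ext
  intro X
  funext i
  change (X * B) i = Bᵀ.toLin' (X i)
  rw [Matrix.toLin'_apply, Matrix.mulVec_transpose]
  rfl

theorem det_lmL (A : M2 F) : LinearMap.det (lmL A) = A.det ^ 2 := by
  have h : lmL A = (tpL F : M2 F →ₗ[F] M2 F) ∘ₗ rmL Aᵀ ∘ₗ ((tpL F).symm : M2 F →ₗ[F] M2 F) := by
    apply LinearMap.ext
    intro X
    change A * X = (Xᵀ * Aᵀ)ᵀ
    rw [transpose_mul, transpose_transpose, transpose_transpose]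
  rw [h, LinearMap.det_conj, det_rmL, det_transpose]

/-- the adjugate -/
def adL (F : Type*) [Field F] : M2 F →ₗ[F] M2 F where
  toFun X := X.adjugate
  map_add' X Y := by
    rw [adj2, adj2, adj2]
    ext i j
    (revert i j; simp only [_root_.Fin.forall_fin_succ, Fin.isValue, _root_.Matrix.add_apply, _root_.neg_add_rev, _root_.Matrix.of_apply, _root_.Matrix.cons_val', _root_.Matrix.cons_val_fin_one, _root_.Matrix.cons_val_zero, _root_.Matrix.cons_val_succ, _root_.forall_const, _root_.true_and, _root_.and_true]) <;> (repeat' with_reducible apply And.intro) <;> ring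
  map_smul' c X := by
    rw [adj2, adj2]
    ext i j
    (revert i j; simp only [_root_.Fin.forall_fin_succ, Fin.isValue, _root_.Matrix.smul_apply, _root_.smul_eq_mul, _root_.Matrix.of_apply, _root_.Matrix.cons_val', _root_.Matrix.cons_val_fin_one, _root_.RingHom.id_apply, _root_.Matrix.cons_val_zero, _root_.Matrix.cons_val_succ, _root_.forall_const, _root_.mul_neg, _root_.and_self, _root_.implies_true])

theorem det_adL : LinearMap.det (adL F) = -1 := by
  have h : adL F = (-1 : F) • LinearMap.transvection (-(Matrix.traceLinearMap (Fin 2) F F)) (1 : M2 F) := by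
    apply LinearMap.ext
    intro X
    rw [LinearMap.smul_apply, LinearMap.transvection.apply]
    change X.adjugate = (-1 : F) • (X + (-Matrix.trace X) • (1 : M2 F))
    rw [adj2]
    ext i j
    (revert i j; simp only [Matrix.trace, Fin.sum_univ_two, _root_.Fin.forall_fin_succ, Fin.isValue, _root_.Matrix.of_apply, _root_.Matrix.cons_val', _root_.Matrix.cons_val_fin_one, _root_.Matrix.diag_apply, _root_.neg_add_rev, _root_.Matrix.smul_apply, _root_.Matrix.add_apply, _root_.smul_eq_mul, _root_.neg_mul, _root_.one_mul, _root_.Matrix.cons_val_zero, _root_.Matrix.cons_val_succ, _root_.Fin.succ_zero_eq_one, _root_.IsEmpty.forall_iff, _root_.and_true, _root_.Matrix.one_apply_eq, _root_.mul_one, _root_.neg_neg, _root_.add_neg_cancel_comm, Nat.reduceAdd, _root_.ne_eq, _root_.zero_ne_one, _root_.not_false_eq_true, _root_.Matrix.one_apply_ne, _root_.MulZeroClass.mul_zero, _root_.neg_zero, _root_.zero_add, _root_.and_self, _root_.Fin.succ_ne_zero, _root_.neg_inj,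 _root_.add_neg_cancel_right])
  rw [h, LinearMap.det_smul, LinearMap.transvection.det]
  have h1 : Module.finrank F (M2 F) = 4 := by
    rw [Module.finrank_matrix]
    simp
  rw [h1]
  simp only [_root_.LinearMap.neg_apply, _root_.Matrix.traceLinearMap_apply, _root_.Matrix.trace_one, _root_.Fintype.card_fin, _root_.Nat.cast_ofNat]
  norm_num

theorem det_typ {b : Bool} {A B : M2 F} (h : A.det * B.det = 1) {f : M2 F →ₗ[F] M2 F} (hf : ∀ X, f X = Typ b A B X) :
    LinearMap.det f = if b then -1 else 1 := by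
  have h2 : A.det ^ 2 * B.det ^ 2 = 1 := by rw [← mul_pow, h, one_pow]
  cases b with
  | false =>
    have h1 : f = lmL A ∘ₗ rmL B := by
      apply LinearMap.ext
      intro X
      rw [hf]
      change A * X * B = A * (X * B)
      rw [mul_assoc]
    rw [h1, LinearMap.det_comp, det_lmL, det_rmL, h2]
    rfl
  | true =>
    have h1 : f = lmL A ∘ₗ rmL B ∘ₗ adL F := by
      apply LinearMap.ext
      intro X
      rw [hf]
      change A * X.adjugate * B = A * (X.adjugate * B)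
      rw [mul_assoc]
    rw [h1, LinearMap.det_comp, LinearMap.det_comp, det_lmL, det_rmL, det_adL, ← mul_assoc, h2, one_mul]
    rfl

end Cfsg.Agent.H982.DfMat
end

-- part: H982/DfQuat
section
/-!
# S4311, BOX D3: the quaternion units in `SL₂(F)` (helper982)

`u α β a` : `1, i, j, k` (`α² + β² = -1`); `QQ` : the quaternion group `{± u a}`; `card_QQ`, `QQ_norm`.
-/

set_option autoImplicit false
set_option linter.unusedSectionVars false

namespace Cfsg.Agent.H982.DfMat

open Matrix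

variable {F : Type*} [Field F]

/-- the index group -/
abbrev A4 := ZMod 2 × ZMod 2

/-- the quaternion units -/
def u (α β : F) (a : A4) : M2 F :=
  if a = (0, 0) then 1 else if a = (1, 0) then !![α, β; β, -α] else if a = (0, 1) then !![0, 1; -1, 0] else
    !![-β, α; α, β]

theorem u00 (α β : F) : u α β (0, 0) = 1 := rfl
theorem u10 (α β : F) : u α β (1, 0) = !![α, β; β, -α] := rfl
theorem u01 (α β : F) : u α β (0, 1) = !![0, 1; -1, 0] := rfl
theorem u11 (α β : F) : u α β (1, 1) = !![-β, α; α, β] := rfl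

theorem a4_cases {P : A4 → Prop} (h0 : P (0, 0)) (h1 : P (1, 0)) (h2 : P (0, 1)) (h3 : P (1, 1)) (a : A4) : P a := by
  obtain ⟨x, y⟩ := a
  fin_cases x <;> fin_cases y
  · exact h0
  · exact h2
  · exact h1
  · exact h3

/-- computes an identity modulo `h` -/
local macro "lch" h:term : tactic => `(tactic| (first | linear_combination ($h) | linear_combination -($h) | ring))

variable {α β : F} (h : α * α + β * β = -1)

include h

theorem u_mul (a b : A4) : ∃ s : F, s * s = 1 ∧ u α β a * u α β b = s • u α β (a + b) := by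
  have e1 : ((1, 0) : A4) + (1, 0) = (0, 0) := by decide
  have e2 : ((1, 0) : A4) + (0, 1) = (1, 1) := by decide
  have e3 : ((1, 0) : A4) + (1, 1) = (0, 1) := by decide
  have e4 : ((0, 1) : A4) + (1, 0) = (1, 1) := by decide
  have e5 : ((0, 1) : A4) + (0, 1) = (0, 0) := by decide
  have e6 : ((0, 1) : A4) + (1, 1) = (1, 0) := by decide
  have e7 : ((1, 1) : A4) + (1, 0) = (0, 1) := by decide
  have e8 : ((1, 1) : A4) + (0, 1) = (1, 0) := by decide
  have e9 : ((1, 1) : A4) + (1, 1) = (0, 0) := by decide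
  have e0 : ∀ a : A4, (0, 0) + a = a := by decide
  have e0' : ∀ a : A4, a + (0, 0) = a := by decide
  have m1 : (-1 : F) * -1 = 1 := by ring
  revert b
  refine a4_cases (P := fun a => ∀ b, ∃ s : F, s * s = 1 ∧ u α β a * u α β b = s • u α β (a + b)) ?_ ?_ ?_ ?_ a
  · intro b
    exact ⟨1, one_mul 1, by rw [u00, one_mul, e0, one_smul]⟩
  · intro b
    refine a4_cases (P := fun b => ∃ s : F, s * s = 1 ∧ u α β (1, 0) * u α β b = s • u α β ((1, 0) + b)) ?_ ?_ ?_ ?_ b
    · exact ⟨1, one_mul 1, by rw [u00, mul_one, e0', one_smul]⟩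
    · refine ⟨-1, m1, ?_⟩
      rw [e1, u10, u00]
      ext i j
      (revert i j; simp only [Matrix.mul_apply, Fin.sum_univ_two, _root_.Fin.forall_fin_succ, _root_.Matrix.of_apply, _root_.Matrix.cons_val', _root_.Matrix.cons_val_fin_one, Fin.isValue, _root_.Matrix.cons_val_zero, _root_.Matrix.cons_val_one, _root_.Matrix.smul_apply, _root_.smul_eq_mul, _root_.neg_mul, _root_.one_mul, _root_.Matrix.cons_val_succ, _root_.mul_neg, _root_.IsEmpty.forall_iff, _root_.and_true, _root_.Matrix.one_apply_eq, Nat.reduceAdd, _root_.Fin.succ_zero_eq_one, _root_.ne_eq, _root_.zero_ne_one, _root_.not_false_eq_true, _root_.Matrix.one_apply_ne, _root_.neg_zero, _root_.Fin.succ_ne_zero, _root_.neg_neg]) <;> (repeat' with_reducible apply And.intro) <;> lch h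
    · refine ⟨1, one_mul 1, ?_⟩
      rw [e2, u10, u01, u11]
      ext i j
      (revert i j; simp only [Matrix.mul_apply, Fin.sum_univ_two, _root_.Fin.forall_fin_succ, _root_.Matrix.of_apply, _root_.Matrix.cons_val', _root_.Matrix.cons_val_fin_one, Fin.isValue, _root_.Matrix.cons_val_zero, _root_.Matrix.cons_val_one, _root_.Matrix.smul_apply, _root_.smul_eq_mul, _root_.one_mul, _root_.MulZeroClass.mul_zero, _root_.mul_neg, _root_.mul_one, _root_.zero_add, _root_.Matrix.cons_val_succ, _root_.add_zero, _root_.implies_true, _root_.and_true, _root_.neg_neg, _root_.and_self])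
    · refine ⟨-1, m1, ?_⟩
      rw [e3, u10, u01, u11]
      ext i j
      (revert i j; simp only [Matrix.mul_apply, Fin.sum_univ_two, _root_.Fin.forall_fin_succ, _root_.Matrix.of_apply, _root_.Matrix.cons_val', _root_.Matrix.cons_val_fin_one, Fin.isValue, _root_.Matrix.cons_val_zero, _root_.Matrix.cons_val_one, _root_.Matrix.smul_apply, _root_.smul_eq_mul, _root_.neg_mul, _root_.one_mul, _root_.mul_neg, _root_.Matrix.cons_val_succ, _root_.forall_const, _root_.neg_zero, _root_.neg_neg]) <;> (repeat' with_reducible apply And.intro) <;> lch h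
  · intro b
    refine a4_cases (P := fun b => ∃ s : F, s * s = 1 ∧ u α β (0, 1) * u α β b = s • u α β ((0, 1) + b)) ?_ ?_ ?_ ?_ b
    · exact ⟨1, one_mul 1, by rw [u00, mul_one, e0', one_smul]⟩
    · refine ⟨-1, m1, ?_⟩
      rw [e4, u10, u01, u11]
      ext i j
      (revert i j; simp only [Matrix.mul_apply, Fin.sum_univ_two, _root_.Fin.forall_fin_succ, _root_.Matrix.of_apply, _root_.Matrix.cons_val', _root_.Matrix.cons_val_fin_one, Fin.isValue, _root_.Matrix.cons_val_zero, _root_.Matrix.cons_val_one, _root_.Matrix.smul_apply, _root_.smul_eq_mul, _root_.neg_mul, _root_.one_mul, _root_.Matrix.cons_val_succ, _root_.mul_neg, _root_.forall_const, _root_.MulZeroClass.zero_mul, _root_.zero_add, _root_.neg_neg, _root_.and_self, _root_.add_zero, _root_.neg_zero, _root_.implies_true])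
    · refine ⟨-1, m1, ?_⟩
      rw [e5, u00, u01]
      ext i j
      (revert i j; simp only [Matrix.mul_apply, Fin.sum_univ_two, _root_.Fin.forall_fin_succ, _root_.Matrix.of_apply, _root_.Matrix.cons_val', _root_.Matrix.cons_val_fin_one, Fin.isValue, _root_.Matrix.cons_val_zero, _root_.Matrix.cons_val_one, _root_.Matrix.smul_apply, _root_.smul_eq_mul, _root_.neg_mul, _root_.one_mul, _root_.MulZeroClass.mul_zero, _root_.mul_neg, _root_.mul_one, _root_.zero_add, _root_.neg_inj, _root_.Matrix.cons_val_succ, _root_.add_zero, _root_.IsEmpty.forall_iff, _root_.and_true, _root_.Matrix.one_apply_eq, Nat.reduceAdd, _root_.Fin.succ_zero_eq_one, _root_.ne_eq, _root_.zero_ne_one, _root_.not_false_eq_true, _root_.Matrix.one_apply_ne, _root_.neg_zero, _root_.and_self, _root_.Fin.succ_ne_zero, _root_.true_and])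
    · refine ⟨1, one_mul 1, ?_⟩
      rw [e6, u10, u01, u11]
      ext i j
      (revert i j; simp only [Matrix.mul_apply, Fin.sum_univ_two, _root_.Fin.forall_fin_succ, _root_.Matrix.of_apply, _root_.Matrix.cons_val', _root_.Matrix.cons_val_fin_one, Fin.isValue, _root_.Matrix.cons_val_zero, _root_.Matrix.cons_val_one, _root_.Matrix.smul_apply, _root_.smul_eq_mul, _root_.one_mul, _root_.mul_neg, _root_.Matrix.cons_val_succ, _root_.forall_const, _root_.MulZeroClass.zero_mul, _root_.neg_zero, _root_.zero_add, _root_.and_self, _root_.neg_mul, _root_.neg_neg, _root_.add_zero, _root_.implies_true])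
  · intro b
    refine a4_cases (P := fun b => ∃ s : F, s * s = 1 ∧ u α β (1, 1) * u α β b = s • u α β ((1, 1) + b)) ?_ ?_ ?_ ?_ b
    · exact ⟨1, one_mul 1, by rw [u00, mul_one, e0', one_smul]⟩
    · refine ⟨1, one_mul 1, ?_⟩
      rw [e7, u10, u01, u11]
      ext i j
      (revert i j; simp only [Matrix.mul_apply, Fin.sum_univ_two, _root_.Fin.forall_fin_succ, _root_.Matrix.of_apply, _root_.Matrix.cons_val', _root_.Matrix.cons_val_fin_one, Fin.isValue, _root_.Matrix.cons_val_zero, _root_.Matrix.cons_val_one, _root_.Matrix.smul_apply, _root_.smul_eq_mul, _root_.one_mul, _root_.Matrix.cons_val_succ, _root_.mul_neg, _root_.forall_const, _root_.neg_mul]) <;> (repeat' with_reducible apply And.intro) <;> lch h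
    · refine ⟨-1, m1, ?_⟩
      rw [e8, u10, u01, u11]
      ext i j
      (revert i j; simp only [Matrix.mul_apply, Fin.sum_univ_two, _root_.Fin.forall_fin_succ, _root_.Matrix.of_apply, _root_.Matrix.cons_val', _root_.Matrix.cons_val_fin_one, Fin.isValue, _root_.Matrix.cons_val_zero, _root_.Matrix.cons_val_one, _root_.Matrix.smul_apply, _root_.smul_eq_mul, _root_.neg_mul, _root_.one_mul, _root_.MulZeroClass.mul_zero, _root_.mul_neg, _root_.mul_one, _root_.zero_add, _root_.Matrix.cons_val_succ, _root_.add_zero, _root_.forall_const, _root_.true_and, _root_.neg_neg, _root_.implies_true, _root_.and_self])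
    · refine ⟨-1, m1, ?_⟩
      rw [e9, u00, u11]
      ext i j
      (revert i j; simp only [Matrix.mul_apply, Fin.sum_univ_two, _root_.Fin.forall_fin_succ, _root_.Matrix.of_apply, _root_.Matrix.cons_val', _root_.Matrix.cons_val_fin_one, Fin.isValue, _root_.Matrix.cons_val_zero, _root_.Matrix.cons_val_one, _root_.Matrix.smul_apply, _root_.smul_eq_mul, _root_.neg_mul, _root_.one_mul, _root_.mul_neg, _root_.Matrix.cons_val_succ, _root_.IsEmpty.forall_iff, _root_.and_true, _root_.neg_neg, _root_.Matrix.one_apply_eq, Nat.reduceAdd, _root_.Fin.succ_zero_eq_one, _root_.ne_eq, _root_.zero_ne_one, _root_.not_false_eq_true, _root_.Matrix.one_apply_ne, _root_.neg_zero, _root_.Fin.succ_ne_zero]) <;> (repeat' with_reducible apply And.intro) <;> lch h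

theorem det_u (a : A4) : (u α β a).det = 1 := by
  refine a4_cases (P := fun a => (u α β a).det = 1) ?_ ?_ ?_ ?_ a
  · rw [u00, det_one]
  · rw [u10, det_fin_two_of]; linear_combination -h
  · rw [u01, det_fin_two_of]; ring
  · rw [u11, det_fin_two_of]; linear_combination -h

theorem pd_u (a b : A4) : pd (u α β a) (u α β b) = if a = b then 2 else 0 := by
  revert b
  refine a4_cases (P := fun a => ∀ b, pd (u α β a) (u α β b) = if a = b then 2 else 0) ?_ ?_ ?_ ?_ a
  · intro b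
    refine a4_cases (P := fun b => pd (u α β (0, 0)) (u α β b) = if (0, 0) = b then 2 else 0) ?_ ?_ ?_ ?_ b
    · rw [if_pos rfl, u00]; simp [pd]; norm_num
    · rw [if_neg (by decide), u00, u10]; simp [pd]
    · rw [if_neg (by decide), u00, u01]; simp [pd]
    · rw [if_neg (by decide), u00, u11]; simp [pd]
  · intro b
    refine a4_cases (P := fun b => pd (u α β (1, 0)) (u α β b) = if (1, 0) = b then 2 else 0) ?_ ?_ ?_ ?_ b
    · rw [if_neg (by decide), u00, u10]; simp [pd]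
    · rw [if_pos rfl, u10]; simp only [pd, _root_.Fin.isValue, _root_.Matrix.of_apply, _root_.Matrix.cons_val', _root_.Matrix.cons_val_zero, _root_.Matrix.cons_val_fin_one, _root_.Matrix.cons_val_one, _root_.mul_neg, _root_.neg_mul]; linear_combination -2 * h
    · rw [if_neg (by decide), u10, u01]; simp [pd]
    · rw [if_neg (by decide), u10, u11]; simp only [pd, _root_.Fin.isValue, _root_.Matrix.of_apply, _root_.Matrix.cons_val', _root_.Matrix.cons_val_zero, _root_.Matrix.cons_val_fin_one, _root_.Matrix.cons_val_one, _root_.mul_neg, _root_.neg_mul, _root_.neg_neg]; ring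
  · intro b
    refine a4_cases (P := fun b => pd (u α β (0, 1)) (u α β b) = if (0, 1) = b then 2 else 0) ?_ ?_ ?_ ?_ b
    · rw [if_neg (by decide), u00, u01]; simp [pd]
    · rw [if_neg (by decide), u10, u01]; simp [pd]
    · rw [if_pos rfl, u01]; simp [pd]; norm_num
    · rw [if_neg (by decide), u01, u11]; simp [pd]
  · intro b
    refine a4_cases (P := fun b => pd (u α β (1, 1)) (u α β b) = if (1, 1) = b then 2 else 0) ?_ ?_ ?_ ?_ b
    · rw [if_neg (by decide), u00, u11]; simp [pd]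
    · rw [if_neg (by decide), u10, u11]; simp only [pd, _root_.Fin.isValue, _root_.Matrix.of_apply, _root_.Matrix.cons_val', _root_.Matrix.cons_val_zero, _root_.Matrix.cons_val_fin_one, _root_.Matrix.cons_val_one, _root_.mul_neg, _root_.neg_mul, _root_.neg_neg]; ring
    · rw [if_neg (by decide), u01, u11]; simp [pd]
    · rw [if_pos rfl, u11]; simp only [pd, _root_.Fin.isValue, _root_.Matrix.of_apply, _root_.Matrix.cons_val', _root_.Matrix.cons_val_zero, _root_.Matrix.cons_val_fin_one, _root_.Matrix.cons_val_one, _root_.neg_mul, _root_.mul_neg]; linear_combination -2 * h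

theorem u_adj (a : A4) : ∃ s : F, s * s = 1 ∧ (u α β a).adjugate = s • u α β a := by
  have m1 : (-1 : F) * -1 = 1 := by ring
  refine a4_cases (P := fun a => ∃ s : F, s * s = 1 ∧ (u α β a).adjugate = s • u α β a) ?_ ?_ ?_ ?_ a
  · exact ⟨1, one_mul 1, by rw [u00, adjugate_one, one_smul]⟩
  · refine ⟨-1, m1, ?_⟩
    rw [u10, adj2]
    ext i j
    (revert i j; simp only [_root_.Fin.forall_fin_succ, Fin.isValue, _root_.Matrix.of_apply, _root_.Matrix.cons_val', _root_.Matrix.cons_val_one, _root_.Matrix.cons_val_fin_one, _root_.Matrix.cons_val_zero, _root_.Matrix.smul_apply, _root_.smul_eq_mul, _root_.neg_mul, _root_.one_mul, _root_.Matrix.cons_val_succ, _root_.forall_const, _root_.and_self, _root_.neg_neg, _root_.implies_true])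
  · refine ⟨-1, m1, ?_⟩
    rw [u01, adj2]
    ext i j
    (revert i j; simp only [_root_.Fin.forall_fin_succ, Fin.isValue, _root_.Matrix.of_apply, _root_.Matrix.cons_val', _root_.Matrix.cons_val_one, _root_.Matrix.cons_val_fin_one, _root_.Matrix.cons_val_zero, _root_.neg_neg, _root_.Matrix.smul_apply, _root_.smul_eq_mul, _root_.neg_mul, _root_.one_mul, _root_.Matrix.cons_val_succ, _root_.forall_const, _root_.neg_zero, _root_.and_self, _root_.implies_true])
  · refine ⟨-1, m1, ?_⟩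
    rw [u11, adj2]
    ext i j
    (revert i j; simp only [_root_.Fin.forall_fin_succ, Fin.isValue, _root_.Matrix.of_apply, _root_.Matrix.cons_val', _root_.Matrix.cons_val_one, _root_.Matrix.cons_val_fin_one, _root_.Matrix.cons_val_zero, _root_.Matrix.smul_apply, _root_.smul_eq_mul, _root_.neg_mul, _root_.one_mul, _root_.Matrix.cons_val_succ, _root_.forall_const, _root_.neg_neg, _root_.and_self, _root_.implies_true])

theorem u_eq (h2 : (2 : F) ≠ 0) {a b : A4} {s t : F} (hs : s * s = 1) (e : s • u α β a = t • u α β b) :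
    a = b ∧ s = t := by
  have hs0 : s ≠ 0 := left_ne_zero_of_mul_eq_one hs
  have h1 : pd (s • u α β a) (u α β a) = pd (t • u α β b) (u α β a) := by rw [e]
  have hsm : ∀ (s : F) (X Y : M2 F), pd (s • X) Y = s * pd X Y := by
    intro s X Y
    simp only [pd, Matrix.smul_apply, smul_eq_mul]
    ring
  rw [hsm, hsm, pd_u h, pd_u h, if_pos rfl] at h1
  by_cases hab : b = a
  · rw [if_pos hab] at h1
    exact ⟨hab.symm, mul_right_cancel₀ h2 h1⟩
  · rw [if_neg hab, mul_zero] at h1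
    exact absurd h1 (mul_ne_zero hs0 h2)

/-- the quaternion group -/
def QQ : Subgroup (_root_.Matrix.SpecialLinearGroup (Fin 2) F) where
  carrier := {S | ∃ (a : A4) (s : F), s * s = 1 ∧ (S : M2 F) = s • u α β a}
  one_mem' := ⟨(0, 0), 1, one_mul 1, by rw [u00, one_smul]; rfl⟩
  mul_mem' := by
    rintro S T ⟨a, s, hs, hS⟩ ⟨b, t, ht, hT⟩
    obtain ⟨r, hr, hab⟩ := u_mul h a b
    refine ⟨a + b, s * t * r, ?_, ?_⟩
    · calc s * t * r * (s * t * r) = (s * s) * (t * t) * (r * r) := by ring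
        _ = 1 := by rw [hs, ht, hr, one_mul, one_mul]
    · change (S : M2 F) * (T : M2 F) = _
      rw [hS, hT, Matrix.smul_mul, Matrix.mul_smul, hab, smul_smul, smul_smul]
  inv_mem' := by
    rintro S ⟨a, s, hs, hS⟩
    obtain ⟨r, hr, ha⟩ := u_adj h a
    refine ⟨a, s * r, ?_, ?_⟩
    · calc s * r * (s * r) = (s * s) * (r * r) := by ring
        _ = 1 := by rw [hs, hr, one_mul]
    · change (S : M2 F).adjugate = _
      rw [hS, adjugate_smul, ha, smul_smul]
      simp

theorem sq_one {s : F} (hs : s * s = 1) : s = 1 ∨ s = -1 := mul_self_eq_one_iff.1 hs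

theorem card_QQ (h2 : (2 : F) ≠ 0) : Nat.card ↥(QQ h) = 8 := by
  have hdet : ∀ (s : F) (a : A4), s * s = 1 → (s • u α β a).det = 1 := by
    intro s a hs
    rw [det_smul, det_u h, mul_one, Fintype.card_fin, pow_two, hs]
  have hb : ∀ b : Bool, (if b then (-1 : F) else 1) * (if b then (-1 : F) else 1) = 1 := by
    intro b
    cases b <;> simp
  let g : Bool × A4 → ↥(QQ h) := fun x => ⟨⟨(if x.1 then (-1 : F) else 1) • u α β x.2, hdet _ _ (hb x.1)⟩,
    x.2, _, hb x.1, rfl⟩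
  have hg : Function.Bijective g := by
    constructor
    · rintro ⟨b, a⟩ ⟨b', a'⟩ e
      have e1 : (if b then (-1 : F) else 1) • u α β a = (if b' then (-1 : F) else 1) • u α β a' :=
        congrArg (fun S : ↥(QQ h) => ((S : _root_.Matrix.SpecialLinearGroup (Fin 2) F) : M2 F)) e
      obtain ⟨e2, e3⟩ := u_eq h h2 (hb b) e1
      have h11 : (1 : F) ≠ -1 := by
        intro h1
        apply h2
        linear_combination h1
      subst e2
      congr 1
      cases b <;> cases b'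
      · rfl
      · exact absurd e3 h11
      · exact absurd e3.symm h11
      · rfl
    · rintro ⟨S, a, s, hs, hS⟩
      rcases sq_one h hs with rfl | rfl
      · exact ⟨(false, a), Subtype.ext (Subtype.ext (by rw [hS]; rfl))⟩
      · exact ⟨(true, a), Subtype.ext (Subtype.ext (by rw [hS]; rfl))⟩
  rw [← Nat.card_eq_of_bijective g hg, Nat.card_eq_fintype_card]
  rfl

/-- the elements `u a` of the group -/
def U (a : A4) : _root_.Matrix.SpecialLinearGroup (Fin 2) F := ⟨u α β a, det_u h a⟩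

theorem U_mem (a : A4) : U h a ∈ QQ h := ⟨a, 1, one_mul 1, by rw [one_smul]; rfl⟩

/-- the normaliser -/
abbrev NQ : Subgroup (_root_.Matrix.SpecialLinearGroup (Fin 2) F) :=
  Subgroup.normalizer ((QQ h : Subgroup _) : Set (_root_.Matrix.SpecialLinearGroup (Fin 2) F))

theorem exists_act (S : ↥(NQ h)) (a : A4) :
    ∃ b : A4, ∃ s : F, s * s = 1 ∧ (S.1.1 * u α β a * S.1.1.adjugate : M2 F) = s • u α β b := by
  obtain ⟨b, s, hs, e⟩ := (Subgroup.mem_normalizer_iff.1 S.2 (U h a)).1 (U_mem h a)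
  exact ⟨b, s, hs, e⟩

/-- the action on the quaternion units modulo signs -/
noncomputable def actF (S : ↥(NQ h)) (a : A4) : A4 := (exists_act h S a).choose

theorem actF_spec (S : ↥(NQ h)) (a : A4) :
    ∃ s : F, s * s = 1 ∧ (S.1.1 * u α β a * S.1.1.adjugate : M2 F) = s • u α β (actF h S a) :=
  (exists_act h S a).choose_spec

theorem actF_one (h2 : (2 : F) ≠ 0) (a : A4) : actF h 1 a = a := by
  obtain ⟨s, hs, e⟩ := actF_spec h 1 a
  have e1 : ((1 : ↥(NQ h)).1.1 * u α β a * (1 : ↥(NQ h)).1.1.adjugate : M2 F) = u α β a := by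
    change (1 : M2 F) * u α β a * (1 : M2 F).adjugate = _
    rw [one_mul, adjugate_one, mul_one]
  rw [e1] at e
  exact (u_eq h h2 hs (t := 1) (by rw [one_smul]; exact e.symm)).1

theorem actF_mul (h2 : (2 : F) ≠ 0) (S T : ↥(NQ h)) (a : A4) : actF h (S * T) a = actF h S (actF h T a) := by
  obtain ⟨s, hs, e⟩ := actF_spec h (S * T) a
  obtain ⟨t, ht, eT⟩ := actF_spec h T a
  obtain ⟨r, hr, eS⟩ := actF_spec h S (actF h T a)
  have e1 : ((S * T : ↥(NQ h)).1.1 * u α β a * (S * T : ↥(NQ h)).1.1.adjugate : M2 F) =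
      (t * r) • u α β (actF h S (actF h T a)) := by
    change ((S.1.1 * T.1.1 : M2 F) * u α β a * (S.1.1 * T.1.1 : M2 F).adjugate : M2 F) = _
    rw [adjugate_mul_distrib]
    calc S.1.1 * T.1.1 * u α β a * (T.1.1.adjugate * S.1.1.adjugate)
        = S.1.1 * (T.1.1 * u α β a * T.1.1.adjugate) * S.1.1.adjugate := by simp only [mul_assoc]
      _ = _ := by rw [eT, Matrix.mul_smul, Matrix.smul_mul, eS, smul_smul]
  rw [e1] at e
  refine (u_eq h h2 hs (t := t * r) e.symm).1

/-- the action as a homomorphism -/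
noncomputable def actH (h2 : (2 : F) ≠ 0) : ↥(NQ h) →* Equiv.Perm A4 :=
  @MulAction.toPermHom ↥(NQ h) A4 _
    { smul := fun S a => actF h S a
      one_smul := actF_one h h2
      mul_smul := actF_mul h h2 }

theorem actH_apply (h2 : (2 : F) ≠ 0) (S : ↥(NQ h)) (a : A4) : actH h h2 S a = actF h S a := rfl

/-- elements commuting with the units up to sign -/
theorem unit_of_fix (h2 : (2 : F) ≠ 0) {X : M2 F} (hX : X.det = 1) {ε δ : F} (hε : ε * ε = 1) (hδ : δ * δ = 1)
    (hJ : X * u α β (0, 1) = ε • (u α β (0, 1) * X)) (hI : X * u α β (1, 0) = δ • (u α β (1, 0) * X)) :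
    ∃ (a : A4) (s : F), s * s = 1 ∧ X = s • u α β a := by
  obtain ⟨p, q, r, t, rfl⟩ : ∃ p q r t, X = !![p, q; r, t] := ⟨_, _, _, _, Matrix.eta_fin_two X⟩
  rw [det_fin_two_of] at hX
  rw [u01] at hJ
  rw [u10] at hI
  have j1 := congrFun (congrFun hJ 0) 0
  have j2 := congrFun (congrFun hJ 0) 1
  have i1 := congrFun (congrFun hI 0) 0
  have i2 := congrFun (congrFun hI 0) 1
  simp only [Matrix.mul_apply, Fin.sum_univ_two, _root_.Fin.isValue, _root_.Matrix.of_apply, _root_.Matrix.cons_val', _root_.Matrix.cons_val_fin_one, _root_.Matrix.cons_val_zero, _root_.MulZeroClass.mul_zero, _root_.Matrix.cons_val_one, _root_.mul_neg, _root_.mul_one, _root_.zero_add, _root_.Matrix.cons_mul, _root_.Nat.succ_eq_add_one, _root_.Nat.reduceAdd, _root_.Matrix.vecMul_cons, _root_.Matrix.head_cons, _root_.zero_smul, _root_.Matrix.tail_cons, _root_.one_smul, _root_.Matrix.empty_vecMul, _root_.add_zero, _root_.neg_smul, _root_.Matrix.neg_cons, _root_.Matrix.neg_empty,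 _root_.Matrix.empty_mul, _root_.Equiv.symm_apply_apply, _root_.Matrix.smul_apply, _root_.smul_eq_mul, _root_.Matrix.smul_cons, _root_.Matrix.smul_empty, _root_.Matrix.add_cons, _root_.Matrix.empty_add_empty] at j1 j2 i1 i2
  have key : ∀ x y : F, (2 : F) * (x * α) = 0 → (2 : F) * (x * β) = 0 → x = 0 := by
    intro x _ h3 h4
    have h5 := (mul_eq_zero.1 h3).resolve_left h2
    have h6 := (mul_eq_zero.1 h4).resolve_left h2
    linear_combination x * h - α * h5 - β * h6
  rcases sq_one h hε with rfl | rfl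
  · obtain rfl : r = -q := by linear_combination -j1
    obtain rfl : t = p := by linear_combination -j2
    rcases sq_one h hδ with rfl | rfl
    · have hq : q = 0 := key q 0 (by linear_combination -i2) (by linear_combination i1)
      subst hq
      refine ⟨(0, 0), t, by linear_combination hX, ?_⟩
      rw [u00]
      ext i j
      (revert i j; simp only [_root_.Fin.forall_fin_succ, _root_.neg_zero, _root_.Matrix.of_apply, _root_.Matrix.cons_val', _root_.Matrix.cons_val_fin_one, _root_.Matrix.smul_apply, _root_.smul_eq_mul, Fin.isValue, _root_.Matrix.cons_val_zero, _root_.Matrix.cons_val_succ, _root_.IsEmpty.forall_iff, _root_.and_true, _root_.Matrix.one_apply_eq, _root_.mul_one, Nat.reduceAdd, _root_.Fin.succ_zero_eq_one, _root_.ne_eq, _root_.zero_ne_one, _root_.not_false_eq_true, _root_.Matrix.one_apply_ne, _root_.MulZeroClass.mul_zero, _root_.and_self, _root_.Fin.succ_ne_zero, _root_.true_and])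
    · have hp : t = 0 := key t 0 (by linear_combination i1) (by linear_combination i2)
      subst hp
      refine ⟨(0, 1), q, by linear_combination hX, ?_⟩
      rw [u01]
      ext i j
      (revert i j; simp only [_root_.Fin.forall_fin_succ, _root_.Matrix.of_apply, _root_.Matrix.cons_val', _root_.Matrix.cons_val_fin_one, _root_.Matrix.smul_apply, _root_.smul_eq_mul, Fin.isValue, _root_.Matrix.cons_val_zero, _root_.Matrix.cons_val_succ, _root_.forall_const, _root_.MulZeroClass.mul_zero, _root_.mul_one, _root_.and_self, _root_.mul_neg, _root_.implies_true])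
  · obtain rfl : r = q := by linear_combination j1
    obtain rfl : t = -p := by linear_combination j2
    rcases sq_one h hδ with rfl | rfl
    · have h3 : p * β = r * α := by
        have h4 : (2 : F) * (p * β - r * α) = 0 := by linear_combination i2
        exact sub_eq_zero.1 ((mul_eq_zero.1 h4).resolve_left h2)
      have hp : p = -(α * p + β * r) * α := by linear_combination p * h - β * h3
      have hr : r = -(α * p + β * r) * β := by linear_combination r * h + α * h3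
      obtain ⟨s, hs⟩ : ∃ s, s = -(α * p + β * r) := ⟨_, rfl⟩
      rw [← hs] at hp hr
      refine ⟨(1, 0), s, ?_, ?_⟩
      · rw [hp, hr] at hX
        linear_combination hX + s * s * h
      · rw [u10, hp, hr]
        ext i j
        (revert i j; simp only [_root_.Fin.forall_fin_succ, _root_.Matrix.of_apply, _root_.Matrix.cons_val', _root_.Matrix.cons_val_fin_one, _root_.Matrix.smul_apply, _root_.smul_eq_mul, Fin.isValue, _root_.Matrix.cons_val_zero, _root_.Matrix.cons_val_succ, _root_.forall_const, _root_.and_self, _root_.mul_neg, _root_.implies_true])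
    · have h3 : p * α = -(r * β) := by
        have h4 : (2 : F) * (p * α + r * β) = 0 := by linear_combination i1
        exact eq_neg_of_add_eq_zero_left ((mul_eq_zero.1 h4).resolve_left h2)
      have hp : p = (α * r - β * p) * β := by linear_combination p * h - α * h3
      have hr : r = -(α * r - β * p) * α := by linear_combination r * h - β * h3
      obtain ⟨s, hs⟩ : ∃ s, s = α * r - β * p := ⟨_, rfl⟩
      rw [← hs] at hp hr
      refine ⟨(1, 1), -s, ?_, ?_⟩
      · rw [hp, hr] at hX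
        linear_combination hX + s * s * h
      · rw [u11, hp, hr]
        ext i j
        (revert i j; simp only [_root_.Fin.forall_fin_succ, _root_.neg_mul, _root_.Matrix.of_apply, _root_.Matrix.cons_val', _root_.Matrix.cons_val_fin_one, _root_.Matrix.smul_apply, _root_.smul_eq_mul, Fin.isValue, _root_.Matrix.cons_val_zero, _root_.Matrix.cons_val_succ, _root_.forall_const, _root_.mul_neg, _root_.neg_neg, _root_.and_self, _root_.implies_true])

theorem mem_of_fix (h2 : (2 : F) ≠ 0) {S : _root_.Matrix.SpecialLinearGroup (Fin 2) F} {ε δ : F} (hε : ε * ε = 1) (hδ : δ * δ = 1)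
    (hJ : S.1 * u α β (0, 1) = ε • (u α β (0, 1) * S.1)) (hI : S.1 * u α β (1, 0) = δ • (u α β (1, 0) * S.1)) :
    S ∈ QQ h := unit_of_fix h h2 S.2 hε hδ hJ hI

theorem ker_le (h2 : (2 : F) ≠ 0) : (actH h h2).ker ≤ (QQ h).subgroupOf (NQ h) := by
  intro S hS
  rw [MonoidHom.mem_ker] at hS
  have hfix : ∀ a, actF h S a = a := by
    intro a
    rw [← actH_apply h h2, hS]
    rfl
  have key : ∀ a, ∃ s : F, s * s = 1 ∧ S.1.1 * u α β a = s • (u α β a * S.1.1) := by
    intro a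
    obtain ⟨s, hs, e⟩ := actF_spec h S a
    rw [hfix] at e
    refine ⟨s, hs, ?_⟩
    have h1 : S.1.1.adjugate * S.1.1 = 1 := by rw [adjugate_mul, S.1.2, one_smul]
    calc S.1.1 * u α β a = S.1.1 * u α β a * (S.1.1.adjugate * S.1.1) := by rw [h1, mul_one]
      _ = (S.1.1 * u α β a * S.1.1.adjugate) * S.1.1 := by simp only [mul_assoc]
      _ = _ := by rw [e, Matrix.smul_mul]
  obtain ⟨s, hs, e⟩ := key (0, 1)
  obtain ⟨t, ht, e'⟩ := key (1, 0)
  exact mem_of_fix h h2 hs ht e e'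

/-- **The normaliser of the quaternion group.** -/
theorem relIndex_dvd [Finite F] (h2 : (2 : F) ≠ 0) (hodd : ¬ 2 ∣ (QQ h).index) : (QQ h).relIndex (NQ h) ∣ 3 := by
  have h1 : (QQ h).relIndex (NQ h) ∣ 24 := by
    have h3 : (QQ h).relIndex (NQ h) ∣ (actH h h2).ker.index := Subgroup.index_dvd_of_le (ker_le h h2)
    have h4 : (actH h h2).ker.index ∣ Nat.card (Equiv.Perm A4) := by
      rw [Subgroup.index_ker]
      exact Subgroup.card_subgroup_dvd_card _
    have h5 : Nat.card (Equiv.Perm A4) = 24 := by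
      rw [Nat.card_perm, Nat.card_eq_fintype_card]
      rfl
    rw [h5] at h4
    exact h3.trans h4
  have h3 : (QQ h).relIndex (NQ h) ∣ (QQ h).index :=
    Dvd.intro _ (Subgroup.relIndex_mul_index Subgroup.le_normalizer)
  have h4 : ((QQ h).relIndex (NQ h)).Coprime (2 ^ 3) := by
    apply Nat.Coprime.pow_right
    rw [Nat.coprime_comm, Nat.Prime.coprime_iff_not_dvd Nat.prime_two]
    exact fun h5 => hodd (h5.trans h3)
  have h5 : (24 : ℕ) = 2 ^ 3 * 3 := by norm_num
  rw [h5] at h1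
  exact h4.dvd_of_dvd_mul_left h1

/-- The quaternion group is a Sylow subgroup. -/
theorem index_odd [Finite F] (h2 : (2 : F) ≠ 0) {q : ℕ} (hq : Odd q) (h16 : ¬ 16 ∣ q ^ 2 - 1)
    (hc : Nat.card (_root_.Matrix.SpecialLinearGroup (Fin 2) F) = q * (q ^ 2 - 1)) : ¬ 2 ∣ (QQ h).index := by
  rintro ⟨m, hm⟩
  have h1 := Subgroup.card_mul_index (QQ h)
  rw [card_QQ h h2, hm, hc] at h1
  apply h16
  have h3 : 16 ∣ q * (q ^ 2 - 1) := ⟨m, by rw [← h1]; ring⟩
  have h4 : Nat.Coprime 16 q := by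
    have h5 : Nat.Coprime (2 ^ 4) q := Nat.Coprime.pow_left 4 (Nat.coprime_two_left.2 hq)
    exact h5
  exact h4.dvd_of_dvd_mul_left h3

end Cfsg.Agent.H982.DfMat
end

-- part: H982/DfPsi
section
/-!
# S4311, BOX D3: the two blocks as matrix algebras (helper982)

* `PsiD` : a linear equivalence `Ψ : (Fin 2 → M₂(F)) ≃ V` mapping the units `u a` to the frame and `Σ det` to `Q`; `exists_Psi`;
* `BMp` : block monomial isometries; `Lam i : SL₂(F) →* O(V)`, `i = (block, side)`.
-/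

set_option autoImplicit false
set_option linter.unusedSectionVars false

namespace Cfsg.Agent.H982.DfPsi

open Module QuadraticMap Cfsg.Agent.H167.OP Cfsg.Agent.H170.HL Cfsg.Agent.H170.HL.OmRow Cfsg.Agent.H556.Om
open Cfsg Subgroup Cfsg.Agent.H485.RV Cfsg.Agent.H561.RV Cfsg.Agent.H561.D4
open Cfsg.Agent.H982.DfMat hiding A4
open Matrix (SpecialLinearGroup det_mul det_one adjugate_mul mul_adjugate)

variable {F : Type} [Field F] {ι : Type} [Fintype ι] [DecidableEq ι] {Q : QuadraticForm F (ι → F)}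
  {E : Fin 2 × A4 → ι → F} {α β : F}

/-- the polar form, bilinear -/
def pdL (F : Type) [Field F] : M2 F →ₗ[F] M2 F →ₗ[F] F := LinearMap.mk₂ F pd
  (fun X X' Y => by simp only [pd, Matrix.add_apply]; ring)
  (fun c X Y => by simp only [pd, Matrix.smul_apply, smul_eq_mul]; ring)
  (fun X Y Y' => by simp only [pd, Matrix.add_apply]; ring)
  (fun c X Y => by simp only [pd, Matrix.smul_apply, smul_eq_mul]; ring)

theorem pdL_apply (X Y : M2 F) : pdL F X Y = pd X Y := rfl

theorem pd_self (X : M2 F) : pd X X = 2 * X.det := by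
  rw [pd, Matrix.det_fin_two]
  ring

/-- the polar form of `Σ det` -/
def pW (F : Type) [Field F] : (Fin 2 → M2 F) →ₗ[F] (Fin 2 → M2 F) →ₗ[F] F :=
  ∑ k, (pdL F).compl₁₂ (LinearMap.proj k) (LinearMap.proj k)

theorem pW_apply (v w : Fin 2 → M2 F) : pW F v w = ∑ k, pd (v k) (w k) := by
  simp only [pW, pdL_apply, _root_.Fin.sum_univ_two, _root_.Fin.isValue, _root_.LinearMap.add_apply, _root_.LinearMap.compl₁₂_apply, _root_.LinearMap.coe_proj, _root_.Function.eval]

theorem u_li (h2 : (2 : F) ≠ 0) (h : α * α + β * β = -1) : LinearIndependent F (u α β) := by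
  rw [Fintype.linearIndependent_iff]
  intro g hg b
  have h1 := congrArg (fun X => pdL F X (u α β b)) hg
  simp only [map_sum, LinearMap.sum_apply, map_smul, LinearMap.smul_apply, pdL_apply, pd_u h, map_zero,
    LinearMap.zero_apply] at h1
  rw [Finset.sum_eq_single b (fun a _ hab => by rw [if_neg hab, smul_zero]) (fun h => absurd (Finset.mem_univ b) h),
    if_pos rfl, smul_eq_mul] at h1
  exact (mul_eq_zero.1 h1).resolve_right h2

/-- the basis `1, i, j, k` -/
noncomputable def bM (h2 : (2 : F) ≠ 0) (h : α * α + β * β = -1) : Basis A4 F (M2 F) :=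
  basisOfLinearIndependentOfCardEqFinrank (u_li h2 h) (by
    rw [Module.finrank_matrix]
    simp)

theorem bM_apply (h2 : (2 : F) ≠ 0) (h : α * α + β * β = -1) (a : A4) : bM h2 h a = u α β a := by
  rw [bM, coe_basisOfLinearIndependentOfCardEqFinrank]

/-- the identification of `V` with two matrix algebras -/
structure PsiD (Q : QuadraticForm F (ι → F)) (E : Fin 2 × A4 → ι → F) (α β : F) (Ψ : (Fin 2 → M2 F) ≃ₗ[F] (ι → F)) :
    Prop where
  two : (2 : F) ≠ 0
  gq : GoodQ Q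
  hF : Frame (polarBilin Q) E
  h : α * α + β * β = -1
  ps : ∀ k a, Ψ (Pi.single k (u α β a)) = E (k, a)
  form : ∀ v w, polarBilin Q (Ψ v) (Ψ w) = ∑ k, pd (v k) (w k)

theorem exists_Psi (hQ : Q8 Q) (hF : Frame (polarBilin Q) E) (h : α * α + β * β = -1) : ∃ Ψ, PsiD Q E α β Ψ := by
  have h2 := hQ.two
  let bW : Basis (Fin 2 × A4) F (Fin 2 → M2 F) :=
    (Pi.basis (fun _ : Fin 2 => bM h2 h)).reindex (Equiv.sigmaEquivProd (Fin 2) A4)
  have hbW : ∀ k a, bW (k, a) = Pi.single k (u α β a) := by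
    intro k a
    rw [Basis.reindex_apply, Equiv.sigmaEquivProd_symm_apply, Pi.basis_apply, bM_apply]
  let bV : Basis (Fin 2 × A4) F (ι → F) := basisOfLinearIndependentOfCardEqFinrank (hF.linearIndependent h2) (by
    rw [Module.finrank_fintype_fun_eq_card, hQ.dim]
    rfl)
  have hbV : ∀ j, bV j = E j := by
    intro j
    rw [coe_basisOfLinearIndependentOfCardEqFinrank]
  have hps : ∀ j, bW.equiv bV (Equiv.refl _) (bW j) = E j := by
    intro j
    rw [Basis.equiv_apply, Equiv.refl_apply, hbV]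
  refine ⟨bW.equiv bV (Equiv.refl _), h2, hQ.gq, hF, h, fun k a => by rw [← hbW, hps], ?_⟩
  have key : (polarBilin Q).compl₁₂ (bW.equiv bV (Equiv.refl _) : (Fin 2 → M2 F) →ₗ[F] (ι → F))
      (bW.equiv bV (Equiv.refl _) : (Fin 2 → M2 F) →ₗ[F] (ι → F)) = pW F := by
    refine LinearMap.ext_basis bW bW fun i j => ?_
    rw [LinearMap.compl₁₂_apply, pW_apply]
    change polarBilin Q (bW.equiv bV (Equiv.refl _) (bW i)) (bW.equiv bV (Equiv.refl _) (bW j)) = _
    rw [hps, hps, hF.form]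
    obtain ⟨k, a⟩ := i
    obtain ⟨l, b⟩ := j
    rw [hbW, hbW, Fin.sum_univ_two]
    have hz : ∀ X : M2 F, pd 0 X = 0 := fun X => by simp [pd]
    have hz' : ∀ X : M2 F, pd X 0 = 0 := fun X => by simp [pd]
    by_cases hkl : k = l
    · subst hkl
      have e1 : ((k, a) = (k, b)) ↔ a = b := by simp
      fin_cases k
      · simp only [Fin.zero_eta, Pi.single_eq_same]
        rw [Pi.single_eq_of_ne (by decide), hz, add_zero, pd_u h]
        simp
      · simp only [Fin.mk_one, Pi.single_eq_same]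
        rw [Pi.single_eq_of_ne (by decide), hz, pd_u h]
        simp
    · rw [if_neg (fun e => hkl (congrArg Prod.fst e))]
      fin_cases k <;> fin_cases l
      · exact absurd rfl hkl
      · simp [hz, hz']
      · simp [hz, hz']
      · exact absurd rfl hkl
  intro v w
  have := congrArg (fun B => B v w) key
  rw [← pW_apply]
  exact this

theorem PsiD.Q_apply {Ψ : (Fin 2 → M2 F) ≃ₗ[F] (ι → F)} (P : PsiD Q E α β Ψ) (w : Fin 2 → M2 F) :
    Q (Ψ w) = ∑ k, (w k).det := by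
  have h1 := P.form w w
  rw [H556.Om.polar_self] at h1
  simp only [pd_self] at h1
  rw [← Finset.mul_sum] at h1
  exact mul_left_cancel₀ P.two h1

/-! ### Block maps -/

/-- `x` maps the block `k` to the block `τ k` by `f k` -/
def BMp (Ψ : (Fin 2 → M2 F) ≃ₗ[F] (ι → F)) (x : Cfsg.isometryGroup F (⇑Q)) (τ : Equiv.Perm (Fin 2))
    (f : Fin 2 → M2 F →ₗ[F] M2 F) : Prop :=
  ∀ k X, rep (inc' (⇑Q)) x (Ψ (Pi.single k X)) = Ψ (Pi.single (τ k) (f k X))

section BMp

variable {Ψ : (Fin 2 → M2 F) ≃ₗ[F] (ι → F)} {x y : Cfsg.isometryGroup F (⇑Q)} {τ σ : Equiv.Perm (Fin 2)}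
  {f g : Fin 2 → M2 F →ₗ[F] M2 F}

theorem rep_ext (h : ∀ k X, rep (inc' (⇑Q)) x (Ψ (Pi.single k X)) = rep (inc' (⇑Q)) y (Ψ (Pi.single k X))) : x = y := by
  apply rep_injective inc'_injective
  apply LinearMap.ext
  intro v
  obtain ⟨w, rfl⟩ := Ψ.surjective v
  have hw : w = ∑ k, Pi.single k (w k) := (Finset.univ_sum_single w).symm
  rw [hw, map_sum, map_sum, map_sum]
  exact Finset.sum_congr rfl fun k _ => h k (w k)

theorem BMp.unique (hx : BMp (Q := Q) Ψ x τ f) (hy : BMp (Q := Q) Ψ y τ f) : x = y :=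
  rep_ext fun k X => by rw [hx, hy]

theorem BMp.one : BMp (Q := Q) Ψ 1 1 (fun _ => LinearMap.id) := by
  intro k X
  rw [map_one]
  rfl

theorem BMp.mul (hx : BMp (Q := Q) Ψ x τ f) (hy : BMp (Q := Q) Ψ y σ g) :
    BMp (Q := Q) Ψ (x * y) (τ * σ) (fun k => f (σ k) ∘ₗ g k) := by
  intro k X
  rw [map_mul, Module.End.mul_apply, hy, hx]
  rfl

theorem BMp.congr (hx : BMp (Q := Q) Ψ x τ f) (h : ∀ k X, f k X = g k X) : BMp (Q := Q) Ψ x τ g := by
  intro k X
  rw [hx, h]

theorem BMp.form (P : PsiD Q E α β Ψ) (hx : BMp (Q := Q) Ψ x τ f) (k : Fin 2) (X : M2 F) : (f k X).det = X.det := by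
  have h1 := iso_apply (Q := ⇑Q) x (Ψ (Pi.single k X))
  have key : ∀ (k : Fin 2) (X : M2 F), Q (Ψ (Pi.single k X)) = X.det := by
    intro k X
    rw [P.Q_apply, Finset.sum_eq_single k, Pi.single_eq_same]
    · intro l _ hl
      rw [Pi.single_eq_of_ne hl, Matrix.det_zero]
    · intro h
      exact absurd (Finset.mem_univ k) h
  rw [hx, key, key] at h1
  exact h1

theorem exists_BMp (P : PsiD Q E α β Ψ) (f g : Fin 2 → M2 F →ₗ[F] M2 F) (hfg : ∀ k X, f k (g k X) = X)
    (hgf : ∀ k X, g k (f k X) = X) (hd : ∀ k X, (f k X).det = X.det) : ∃ x, BMp (Q := Q) Ψ x 1 f := by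
  let fW : (Fin 2 → M2 F) →ₗ[F] (Fin 2 → M2 F) := LinearMap.pi fun k => f k ∘ₗ LinearMap.proj k
  let gW : (Fin 2 → M2 F) →ₗ[F] (Fin 2 → M2 F) := LinearMap.pi fun k => g k ∘ₗ LinearMap.proj k
  let z : Module.End F (ι → F) := (Ψ : (Fin 2 → M2 F) →ₗ[F] (ι → F)) ∘ₗ fW ∘ₗ (Ψ.symm : (ι → F) →ₗ[F] (Fin 2 → M2 F))
  let z' : Module.End F (ι → F) := (Ψ : (Fin 2 → M2 F) →ₗ[F] (ι → F)) ∘ₗ gW ∘ₗ (Ψ.symm : (ι → F) →ₗ[F] (Fin 2 → M2 F))
  have hz : ∀ w, z (Ψ w) = Ψ (fW w) := by
    intro w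
    change Ψ (fW (Ψ.symm (Ψ w))) = _
    rw [Ψ.symm_apply_apply]
  have hz' : ∀ w, z' (Ψ w) = Ψ (gW w) := by
    intro w
    change Ψ (gW (Ψ.symm (Ψ w))) = _
    rw [Ψ.symm_apply_apply]
  obtain ⟨A, hA⟩ := exists_of_iso (⇑Q) z z' (by
    apply LinearMap.ext
    intro v
    obtain ⟨w, rfl⟩ := Ψ.surjective v
    rw [Module.End.mul_apply, hz', hz, Module.End.one_apply]
    congr 1
    funext k
    exact hfg k (w k)) (by
    apply LinearMap.ext
    intro v
    obtain ⟨w, rfl⟩ := Ψ.surjective v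
    rw [Module.End.mul_apply, hz, hz', Module.End.one_apply]
    congr 1
    funext k
    exact hgf k (w k)) (by
    intro v
    obtain ⟨w, rfl⟩ := Ψ.surjective v
    rw [hz, P.Q_apply, P.Q_apply]
    exact Finset.sum_congr rfl fun k _ => hd k (w k))
  refine ⟨A, fun k X => ?_⟩
  rw [hA, hz]
  congr 1
  funext l
  change f l ((Pi.single k X : Fin 2 → M2 F) l) = (Pi.single k (f k X) : Fin 2 → M2 F) l
  by_cases hl : l = k
  · subst hl
    rw [Pi.single_eq_same, Pi.single_eq_same]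
  · rw [Pi.single_eq_of_ne hl, Pi.single_eq_of_ne hl, map_zero]

/-- the determinant -/
theorem BMp.det (hx : BMp (Q := Q) Ψ x 1 f) : LinearMap.det (rep (inc' (⇑Q)) x) = ∏ k, LinearMap.det (f k) := by
  rw [← LinearMap.det_pi]
  have h1 : rep (inc' (⇑Q)) x = (Ψ : (Fin 2 → M2 F) →ₗ[F] (ι → F)) ∘ₗ
      (LinearMap.pi fun k => f k ∘ₗ LinearMap.proj k) ∘ₗ (Ψ.symm : (ι → F) →ₗ[F] (Fin 2 → M2 F)) := by
    apply LinearMap.ext
    intro v
    obtain ⟨w, rfl⟩ := Ψ.surjective v
    change _ = Ψ ((LinearMap.pi fun k => f k ∘ₗ LinearMap.proj k : (Fin 2 → M2 F) →ₗ[F] (Fin 2 → M2 F)) (Ψ.symm (Ψ w)))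
    rw [Ψ.symm_apply_apply]
    have hw : w = ∑ k, Pi.single k (w k) := (Finset.univ_sum_single w).symm
    conv_lhs => rw [hw, map_sum, map_sum]
    have h2 : (LinearMap.pi fun k => f k ∘ₗ LinearMap.proj k : (Fin 2 → M2 F) →ₗ[F] (Fin 2 → M2 F)) w =
        ∑ k, Pi.single k (f k (w k)) := by
      rw [Finset.univ_sum_single fun k => f k (w k)]
      rfl
    rw [h2, map_sum]
    exact Finset.sum_congr rfl fun k _ => hx k (w k)
  rw [h1, LinearMap.det_conj]

theorem det_omega (x : Cfsg.Omega F (⇑Q)) : LinearMap.det (rep (inc' (⇑Q)) (x : Cfsg.isometryGroup F (⇑Q))) = 1 := by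
  let φ : Cfsg.isometryGroup F (⇑Q) →* Fˣ := MonoidHom.toHomUnits (LinearMap.det.comp (rep (inc' (⇑Q))))
  have h1 : φ x = 1 := by
    have h2 : (x : Cfsg.isometryGroup F (⇑Q)) ∈ commutator (Cfsg.isometryGroup F (⇑Q)) := x.2
    exact Abelianization.commutator_subset_ker φ h2
  exact congrArg Units.val h1

end BMp

/-! ### Left and right multiplications -/

/-- `SL₂(F)` -/
abbrev SL2 (F : Type) [Field F] := _root_.Matrix.SpecialLinearGroup (Fin 2) F

/-- `X ↦ S X`, `X ↦ X S⁻¹` -/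
def actE (b : Bool) (S : SL2 F) : M2 F →ₗ[F] M2 F := if b then rmL S.1.adjugate else lmL S.1

theorem actE_false (S : SL2 F) (X : M2 F) : actE false S X = S.1 * X := rfl

theorem actE_true (S : SL2 F) (X : M2 F) : actE true S X = X * S.1.adjugate := rfl

theorem SS' (S : SL2 F) : S.1.adjugate * S.1 = 1 := by rw [adjugate_mul, S.2, one_smul]

theorem det_adj (S : SL2 F) : S.1.adjugate.det = 1 := by
  have := congrArg Matrix.det (SS' S)
  rwa [det_mul, S.2, mul_one, det_one] at this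

theorem actE_one (b : Bool) (X : M2 F) : actE b (1 : SL2 F) X = X := by
  cases b
  · exact one_mul X
  · rw [actE_true]
    change X * (1 : M2 F).adjugate = X
    rw [Matrix.adjugate_one, mul_one]

theorem actE_mul (b : Bool) (S T : SL2 F) (X : M2 F) : actE b (S * T) X = actE b S (actE b T X) := by
  cases b
  · exact mul_assoc S.1 T.1 X
  · rw [actE_true, actE_true, actE_true]
    change X * (S.1 * T.1).adjugate = _
    rw [Matrix.adjugate_mul_distrib, mul_assoc]

theorem actE_det (b : Bool) (S : SL2 F) (X : M2 F) : (actE b S X).det = X.det := by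
  cases b
  · rw [actE_false, det_mul, S.2, one_mul]
  · rw [actE_true, det_mul, det_adj, mul_one]

/-- the block functions of `Lam` -/
def lamf (i : Fin 2 × Bool) (S : SL2 F) (k : Fin 2) : M2 F →ₗ[F] M2 F := if k = i.1 then actE i.2 S else LinearMap.id

theorem lamf_self (k : Fin 2) (b : Bool) (S : SL2 F) : lamf (k, b) S k = actE b S := if_pos rfl

theorem lamf_ne {k l : Fin 2} (b : Bool) (S : SL2 F) (h : l ≠ k) : lamf (k, b) S l = LinearMap.id := if_neg h

theorem lamf_one (i : Fin 2 × Bool) (k : Fin 2) (X : M2 F) : lamf i (1 : SL2 F) k X = X := by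
  unfold lamf
  split_ifs
  · exact actE_one _ _
  · rfl

theorem lamf_mul (i : Fin 2 × Bool) (S T : SL2 F) (k : Fin 2) (X : M2 F) :
    lamf i (S * T) k X = lamf i S k (lamf i T k X) := by
  unfold lamf
  split_ifs
  · exact actE_mul _ _ _ _
  · rfl

theorem lamf_det (i : Fin 2 × Bool) (S : SL2 F) (k : Fin 2) (X : M2 F) : (lamf i S k X).det = X.det := by
  unfold lamf
  split_ifs
  · exact actE_det _ _ _
  · rfl

section Lam

variable {Ψ : (Fin 2 → M2 F) ≃ₗ[F] (ι → F)} (P : PsiD Q E α β Ψ)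

include P

theorem exists_Lam (i : Fin 2 × Bool) (S : SL2 F) : ∃ x, BMp (Q := Q) Ψ x 1 (lamf i S) := by
  refine exists_BMp P (lamf i S) (lamf i S⁻¹) (fun k X => ?_) (fun k X => ?_) (lamf_det i S)
  · rw [← lamf_mul, mul_inv_cancel, lamf_one]
  · rw [← lamf_mul, inv_mul_cancel, lamf_one]

/-- the embeddings of `SL₂(F)` -/
noncomputable def Lam (i : Fin 2 × Bool) : SL2 F →* Cfsg.isometryGroup F (⇑Q) where
  toFun S := (exists_Lam P i S).choose
  map_one' := by
    refine BMp.unique (exists_Lam P i 1).choose_spec (BMp.congr BMp.one fun k X => ?_)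
    rw [lamf_one]
    rfl
  map_mul' S T := by
    refine BMp.unique (exists_Lam P i (S * T)).choose_spec
      (BMp.congr (BMp.mul (exists_Lam P i S).choose_spec (exists_Lam P i T).choose_spec) fun k X => ?_)
    rw [lamf_mul]
    rfl

theorem Lam_spec (i : Fin 2 × Bool) (S : SL2 F) : BMp (Q := Q) Ψ (Lam P i S) 1 (lamf i S) :=
  (exists_Lam P i S).choose_spec

theorem Lam_mem (i : Fin 2 × Bool) (S : SL2 F) : Lam P i S ∈ Cfsg.Omega F (⇑Q) := by
  refine Cfsg.Agent.LieClassical.SLGen.transvection_induction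
    (fun S => Lam P i S ∈ _root_.commutator (Cfsg.isometryGroup F (⇑Q))) (fun k l hkl c => ?_)
    (fun A B hA hB => by rw [map_mul]; exact mul_mem hA hB) S
  have h1 : SpecialLinearGroup.transvection hkl c =
      SpecialLinearGroup.transvection hkl (c / 2) * SpecialLinearGroup.transvection hkl (c / 2) := by
    apply Subtype.ext
    change Matrix.transvection k l c = Matrix.transvection k l (c / 2) * Matrix.transvection k l (c / 2)
    rw [Matrix.transvection_mul_transvection_same _ _ hkl]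
    have := P.two
    congr 1
    field_simp
    ring
  rw [h1, map_mul]
  exact P.gq.sq _

/-- the embeddings into `Ω` -/
noncomputable def Lo (i : Fin 2 × Bool) : SL2 F →* Cfsg.Omega F (⇑Q) :=
  (Lam P i).codRestrict (Cfsg.Omega F (⇑Q)) (Lam_mem P i)

end Lam

end Cfsg.Agent.H982.DfPsi
end

-- part: H982/DfConj
section
/-!
# S4311, BOX D3: the four subgroups `SL₂(F)` of `PΩ₈⁺(F)` (helper982)

`LS P i` : the image of the `i`-th `SL₂(F)`; `LS_conj` : conjugation by block maps.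
-/

set_option autoImplicit false
set_option linter.unusedSectionVars false

namespace Cfsg.Agent.H982.DfPsi

open Module QuadraticMap Cfsg.Agent.H167.OP Cfsg.Agent.H170.HL Cfsg.Agent.H170.HL.OmRow Cfsg.Agent.H556.Om
open Cfsg Subgroup Cfsg.Agent.H485.RV Cfsg.Agent.H561.RV Cfsg.Agent.H561.D4
open Cfsg.Agent.H982.DfMat hiding A4
open Matrix (SpecialLinearGroup det_mul det_one adjugate_mul mul_adjugate)

variable {F : Type} [Field F] {ι : Type} [Fintype ι] [DecidableEq ι] {Q : QuadraticForm F (ι → F)}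
  {E : Fin 2 × A4 → ι → F} {α β : F}

/-- conjugation by an invertible matrix -/
noncomputable def cjM (A : M2 F) (hA : A.det ≠ 0) : SL2 F →* SL2 F where
  toFun S := ⟨A * S.1 * A⁻¹, by
    rw [det_mul, det_mul, S.2, mul_one, ← det_mul, Matrix.mul_nonsing_inv _ (isUnit_iff_ne_zero.2 hA), det_one]⟩
  map_one' := Subtype.ext (by
    change A * (1 : M2 F) * A⁻¹ = 1
    rw [mul_one, Matrix.mul_nonsing_inv _ (isUnit_iff_ne_zero.2 hA)])
  map_mul' S T := Subtype.ext (by
    change A * (S.1 * T.1) * A⁻¹ = A * S.1 * A⁻¹ * (A * T.1 * A⁻¹)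
    have h1 : A⁻¹ * A = 1 := Matrix.nonsing_inv_mul _ (isUnit_iff_ne_zero.2 hA)
    calc A * (S.1 * T.1) * A⁻¹ = A * S.1 * 1 * T.1 * A⁻¹ := by rw [mul_one]; simp only [mul_assoc]
      _ = A * S.1 * (A⁻¹ * A) * T.1 * A⁻¹ := by rw [h1]
      _ = _ := by simp only [mul_assoc])

theorem cjM_adj {A : M2 F} (hA : A.det ≠ 0) (S : SL2 F) : (cjM A hA S).1.adjugate = A * S.1.adjugate * A⁻¹ := by
  have h1 : cjM A hA S⁻¹ = (cjM A hA S)⁻¹ := map_inv _ _
  exact (congrArg (fun T : SL2 F => T.1) h1).symm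

/-- conjugates of multiplications -/
theorem conj_act {f : M2 F →ₗ[F] M2 F} {c : Bool} {A B : M2 F} (hAB : A.det * B.det = 1)
    (hf : ∀ X, f X = Typ c A B X) (b : Bool) (S : SL2 F) :
    ∃ S' : SL2 F, ∀ X, f (actE b S X) = actE (xor b c) S' (f X) := by
  have hA : A.det ≠ 0 := left_ne_zero_of_mul_eq_one hAB
  have hB : B.det ≠ 0 := right_ne_zero_of_mul_eq_one hAB
  have hA1 : A⁻¹ * A = 1 := Matrix.nonsing_inv_mul _ (isUnit_iff_ne_zero.2 hA)
  have hB1 : B * B⁻¹ = 1 := Matrix.mul_nonsing_inv _ (isUnit_iff_ne_zero.2 hB)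
  have hB2 : (B⁻¹)⁻¹ = B := Matrix.nonsing_inv_nonsing_inv _ (isUnit_iff_ne_zero.2 hB)
  have hB3 : (B⁻¹).det ≠ 0 := by
    rw [Matrix.det_nonsing_inv, Ring.inverse_eq_inv']
    exact inv_ne_zero hB
  cases c <;> cases b
  · refine ⟨cjM A hA S, fun X => ?_⟩
    rw [hf, hf]
    change A * (S.1 * X) * B = A * S.1 * A⁻¹ * (A * X * B)
    calc A * (S.1 * X) * B = A * S.1 * 1 * X * B := by rw [mul_one]; simp only [mul_assoc]
      _ = A * S.1 * (A⁻¹ * A) * X * B := by rw [hA1]
      _ = _ := by simp only [mul_assoc]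
  · refine ⟨cjM B⁻¹ hB3 S, fun X => ?_⟩
    rw [hf, hf]
    change A * (X * S.1.adjugate) * B = A * X * B * (cjM B⁻¹ hB3 S).1.adjugate
    rw [cjM_adj, hB2]
    calc A * (X * S.1.adjugate) * B = A * X * 1 * S.1.adjugate * B := by rw [mul_one]; simp only [mul_assoc]
      _ = A * X * (B * B⁻¹) * S.1.adjugate * B := by rw [hB1]
      _ = _ := by simp only [mul_assoc]
  · refine ⟨cjM B⁻¹ hB3 S, fun X => ?_⟩
    rw [hf, hf]
    change A * (S.1 * X).adjugate * B = A * X.adjugate * B * (cjM B⁻¹ hB3 S).1.adjugate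
    rw [cjM_adj, hB2, Matrix.adjugate_mul_distrib]
    calc A * (X.adjugate * S.1.adjugate) * B = A * X.adjugate * 1 * S.1.adjugate * B := by
          rw [mul_one]; simp only [mul_assoc]
      _ = A * X.adjugate * (B * B⁻¹) * S.1.adjugate * B := by rw [hB1]
      _ = _ := by simp only [mul_assoc]
  · refine ⟨cjM A hA S, fun X => ?_⟩
    rw [hf, hf]
    change A * (X * S.1.adjugate).adjugate * B = A * S.1 * A⁻¹ * (A * X.adjugate * B)
    have h2 : S.1.adjugate.adjugate = S.1 := by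
      have h3 : (S⁻¹)⁻¹ = S := inv_inv S
      exact congrArg (fun T : SL2 F => T.1) h3
    rw [Matrix.adjugate_mul_distrib, h2]
    calc A * (S.1 * X.adjugate) * B = A * S.1 * 1 * X.adjugate * B := by rw [mul_one]; simp only [mul_assoc]
      _ = A * S.1 * (A⁻¹ * A) * X.adjugate * B := by rw [hA1]
      _ = _ := by simp only [mul_assoc]

section LS

variable {Ψ : (Fin 2 → M2 F) ≃ₗ[F] (ι → F)} (P : PsiD Q E α β Ψ)

/-- typed block maps -/
def TBM (Ψ : (Fin 2 → M2 F) ≃ₗ[F] (ι → F)) (x : Cfsg.isometryGroup F (⇑Q)) (τ : Equiv.Perm (Fin 2)) (c : Fin 2 → Bool) :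
    Prop :=
  ∃ f : Fin 2 → M2 F →ₗ[F] M2 F, BMp (Q := Q) Ψ x τ f ∧
    ∀ k, ∃ A B : M2 F, A.det * B.det = 1 ∧ ∀ X, f k X = Typ (c k) A B X

include P

theorem exists_TBM {x : Cfsg.isometryGroup F (⇑Q)} {τ : Equiv.Perm (Fin 2)} {f : Fin 2 → M2 F →ₗ[F] M2 F}
    (hx : BMp (Q := Q) Ψ x τ f) : ∃ c, TBM (Q := Q) Ψ x τ c := by
  choose c A B h1 h2 using fun k => typ_of_iso (hx.form P k)
  exact ⟨c, f, hx, fun k => ⟨A k, B k, h1 k, h2 k⟩⟩

theorem conj_Lam {x : Cfsg.isometryGroup F (⇑Q)} {τ : Equiv.Perm (Fin 2)} {c : Fin 2 → Bool} (hx : TBM (Q := Q) Ψ x τ c)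
    (k : Fin 2) (b : Bool) (S : SL2 F) : ∃ S', x * Lam P (k, b) S * x⁻¹ = Lam P (τ k, xor b (c k)) S' := by
  obtain ⟨f, hx, hf⟩ := hx
  obtain ⟨A, B, hAB, hk⟩ := hf k
  obtain ⟨S', hS'⟩ := conj_act hAB hk b S
  refine ⟨S', ?_⟩
  rw [mul_inv_eq_iff_eq_mul]
  have h1 := BMp.mul hx (Lam_spec P (k, b) S)
  have h2 := BMp.mul (Lam_spec P (τ k, xor b (c k)) S') hx
  rw [mul_one] at h1
  rw [one_mul] at h2
  refine BMp.unique h1 (BMp.congr h2 fun l X => ?_)
  by_cases hl : l = k
  · subst hl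
    change lamf (τ l, xor b (c l)) S' (τ l) (f l X) = f l (lamf (l, b) S l X)
    rw [lamf_self, lamf_self, hS']
  · change lamf (τ k, xor b (c k)) S' (τ l) (f l X) = f l (lamf (k, b) S l X)
    rw [lamf_ne _ _ hl, lamf_ne _ _ (fun h => hl (τ.injective h))]
    rfl

/-- the homomorphisms to `PΩ` -/
noncomputable def Mb (i : Fin 2 × Bool) : SL2 F →* Cfsg.POmega F (⇑Q) :=
  (QuotientGroup.mk' (Subgroup.center (Cfsg.Omega F (⇑Q)))).comp (Lo P i)

theorem Mb_apply (i : Fin 2 × Bool) (S : SL2 F) :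
    Mb P i S = QuotientGroup.mk' (Subgroup.center (Cfsg.Omega F (⇑Q))) (Lo P i S) := rfl

theorem center_cases {g : Cfsg.Omega F (⇑Q)} (hg : g ∈ Subgroup.center (Cfsg.Omega F (⇑Q))) :
    (∀ v, rep (inc (⇑Q)) g v = v) ∨ ∀ v, rep (inc (⇑Q)) g v = -v := by
  have h4 := (Cfsg.Agent.LieClassical.OmegaCenter.mem_center_omega_iff Q P.gq.nd P.gq.card P.gq.sing _).mp hg
  have h4' : inc (⇑Q) g = 1 ∨ inc (⇑Q) g = -1 := h4
  rcases h4' with h5 | h5
  · left
    intro v
    rw [rep_apply, h5, Matrix.one_mulVec]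
  · right
    intro v
    rw [rep_apply, h5, Matrix.neg_mulVec, Matrix.one_mulVec]

theorem neg_ne {v : ι → F} (hv : v = -v) : v = 0 := by
  have h5 : (2 : F) • v = 0 := by
    rw [two_smul]
    nth_rewrite 2 [hv]
    exact add_neg_cancel v
  exact (smul_eq_zero.1 h5).resolve_left P.two

theorem Lo_rep (i : Fin 2 × Bool) (S : SL2 F) (k : Fin 2) (X : M2 F) :
    rep (inc (⇑Q)) (Lo P i S) (Ψ (Pi.single k X)) = Ψ (Pi.single k (lamf i S k X)) :=
  Lam_spec P i S k X

theorem Mb_injective (i : Fin 2 × Bool) : Function.Injective (Mb P i) := by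
  rw [injective_iff_map_eq_one]
  intro S hS
  rw [Mb_apply, QuotientGroup.mk'_apply, QuotientGroup.eq_one_iff] at hS
  have hsing : ∀ {k : Fin 2} {X Y : M2 F}, Ψ (Pi.single k X) = Ψ (Pi.single k Y) → X = Y := by
    intro k X Y h
    exact Pi.single_injective k (Ψ.injective h)
  rcases center_cases P hS with h1 | h1
  · have h2 := hsing ((Lo_rep P i S i.1 1).symm.trans (h1 _))
    obtain ⟨k, b⟩ := i
    rw [lamf_self] at h2
    cases b
    · rw [actE_false, mul_one] at h2
      exact Subtype.ext h2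
    · rw [actE_true, one_mul] at h2
      have h3 : S⁻¹ = 1 := Subtype.ext h2
      exact inv_eq_one.1 h3
  · exfalso
    obtain ⟨l, hl⟩ : ∃ l : Fin 2, l ≠ i.1 := exists_ne _
    have h2 := (Lo_rep P i S l 1).symm.trans (h1 _)
    obtain ⟨k, b⟩ := i
    rw [lamf_ne _ _ hl] at h2
    have h3 := neg_ne P h2
    have h4 : (Pi.single l (1 : M2 F) : Fin 2 → M2 F) = Pi.single l 0 := by
      rw [Pi.single_zero]
      exact Ψ.injective (by rw [map_zero]; exact h3)
    exact one_ne_zero (Pi.single_injective l h4)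

/-- the four subgroups -/
noncomputable def LS (i : Fin 2 × Bool) : Subgroup (Cfsg.POmega F (⇑Q)) := (Mb P i).range

theorem card_LS (i : Fin 2 × Bool) : Nat.card ↥(LS P i) = Nat.card (SL2 F) :=
  (Nat.card_congr (MonoidHom.ofInjective (Mb_injective P i)).toEquiv).symm

omit P in
private theorem mcj {G H : Type*} [Group G] [Group H] (f : G →* H) {x a b : G} (h : x * a * x⁻¹ = b) :
    f b = MulAut.conj (f x) (f a) := by
  rw [← h, map_mul, map_mul, map_inv]
  rfl

omit P in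
private theorem mcm {G H : Type*} [Group G] [Group H] (f : G →* H) {a b : G} (h : a * b = b * a) : f a * f b = f b * f a := by
  rw [← map_mul, h, map_mul]

omit P in
private theorem mm4 {G H : Type*} [Group G] [Group H] (f : G →* H) {x a b c d : G} (h : x = a * b * (c * d)) {K : Subgroup H}
    (ha : f a ∈ K) (hb : f b ∈ K) (hc : f c ∈ K) (hd : f d ∈ K) : f x ∈ K := by
  rw [h, map_mul, map_mul, map_mul]
  exact mul_mem (mul_mem ha hb) (mul_mem hc hd)

theorem LS_conj [Finite F] {x : Cfsg.Omega F (⇑Q)} {τ : Equiv.Perm (Fin 2)} {c : Fin 2 → Bool}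
    (hx : TBM (Q := Q) Ψ (x : Cfsg.isometryGroup F (⇑Q)) τ c) (k : Fin 2) (b : Bool) :
    (LS P (k, b)).map (MulAut.conj (QuotientGroup.mk' (Subgroup.center (Cfsg.Omega F (⇑Q))) x)).toMonoidHom =
      LS P (τ k, xor b (c k)) := by
  have hle : (LS P (k, b)).map (MulAut.conj (QuotientGroup.mk' (Subgroup.center (Cfsg.Omega F (⇑Q))) x)).toMonoidHom ≤
      LS P (τ k, xor b (c k)) := by
    rintro _ ⟨_, ⟨S, rfl⟩, rfl⟩
    have hob_ := conj_Lam P hx k b S
    obtain ⟨S', hS'⟩ := hob_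
    refine ⟨S', ?_⟩
    have h1 : x * Lo P (k, b) S * x⁻¹ = Lo P (τ k, xor b (c k)) S' := Subtype.ext hS'
    exact mcj (QuotientGroup.mk' (Subgroup.center (Cfsg.Omega F (⇑Q)))) h1
  refine Subgroup.eq_of_le_of_card_ge hle ?_
  (simp only [card_LS]; rewrite [Subgroup.card_map_of_injective (MulAut.conj _).injective, card_LS]; with_reducible rfl)

/-- elements of different `SL₂`'s commute -/
theorem Lam_comm {i j : Fin 2 × Bool} (hij : i ≠ j) (S T : SL2 F) : Lam P i S * Lam P j T = Lam P j T * Lam P i S := by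
  have h1 := BMp.mul (Lam_spec P i S) (Lam_spec P j T)
  have h2 := BMp.mul (Lam_spec P j T) (Lam_spec P i S)
  refine BMp.unique h1 (BMp.congr h2 fun l X => ?_)
  change lamf j T l (lamf i S l X) = lamf i S l (lamf j T l X)
  obtain ⟨k, b⟩ := i
  obtain ⟨m, c⟩ := j
  by_cases hk : l = k
  · subst hk
    by_cases hm : l = m
    · subst hm
      rw [lamf_self, lamf_self]
      have hbc : b ≠ c := fun h => hij (by rw [h])
      cases b <;> cases c
      · exact absurd rfl hbc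
      · rw [actE_false, actE_true, actE_false, actE_true, mul_assoc]
      · rw [actE_false, actE_true, actE_false, actE_true, mul_assoc]
      · exact absurd rfl hbc
    · rw [lamf_ne _ _ hm]
      rfl
  · rw [lamf_ne _ _ hk]
    rfl

theorem LS_comm {i j : Fin 2 × Bool} (hij : i ≠ j) {x y : Cfsg.POmega F (⇑Q)} (hx : x ∈ LS P i) (hy : y ∈ LS P j) :
    x * y = y * x := by
  obtain ⟨S, rfl⟩ := hx
  obtain ⟨T, rfl⟩ := hy
  have h1 : Lo P i S * Lo P j T = Lo P j T * Lo P i S := Subtype.ext (Lam_comm P hij S T)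
  exact mcm (QuotientGroup.mk' (Subgroup.center (Cfsg.Omega F (⇑Q)))) h1

/-- central elements of `LS i` come from central elements of `SL₂(F)` -/
theorem comm_of_Mb {i : Fin 2 × Bool} {S T : SL2 F} (h : Mb P i S * Mb P i T = Mb P i T * Mb P i S) : S * T = T * S := by
  apply Mb_injective P i
  rw [map_mul, map_mul, h]

theorem LS_injective : Function.Injective (LS P) := by
  intro i j hij
  by_contra hne
  have h1 : ∀ S T : SL2 F, S * T = T * S := by
    intro S T
    apply comm_of_Mb P (i := i)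
    refine LS_comm P hne ⟨S, rfl⟩ ?_
    rw [← hij]
    exact ⟨T, rfl⟩
  have h2 := h1 (SpecialLinearGroup.transvection (show (0 : Fin 2) ≠ 1 by decide) 1)
    (SpecialLinearGroup.transvection (show (1 : Fin 2) ≠ 0 by decide) 1)
  have h3 := congrArg (fun S : SL2 F => S.1 0 0) h2
  have h4 : (Matrix.transvection (0 : Fin 2) 1 (1 : F) * Matrix.transvection (1 : Fin 2) 0 (1 : F)) 0 0 =
    (Matrix.transvection (1 : Fin 2) 0 (1 : F) * Matrix.transvection (0 : Fin 2) 1 (1 : F)) 0 0 := h3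
  simp [Matrix.transvection, Matrix.mul_apply, Fin.sum_univ_two, Matrix.single] at h4

end LS

end Cfsg.Agent.H982.DfPsi
end

-- part: H982/DfPM
section
/-!
# S4311, BOX D3: the 2-group `PM` and the four `SL₂`'s (helper982)
-/

set_option autoImplicit false
set_option linter.unusedSectionVars false

namespace Cfsg.Agent.H982.DfPsi

open Module QuadraticMap Cfsg.Agent.H167.OP Cfsg.Agent.H170.HL Cfsg.Agent.H170.HL.OmRow Cfsg.Agent.H556.Om
open Cfsg Subgroup Cfsg.Agent.H485.RV Cfsg.Agent.H561.RV Cfsg.Agent.H561.D4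
open Cfsg.Agent.H982.DfMat hiding A4
open Matrix (SpecialLinearGroup det_mul det_one adjugate_mul mul_adjugate)

variable {F : Type} [Field F] {ι : Type} [Fintype ι] [DecidableEq ι] {Q : QuadraticForm F (ι → F)}
  {E : Fin 2 × A4 → ι → F} {α β : F} {Ψ : (Fin 2 → M2 F) ≃ₗ[F] (ι → F)} (P : PsiD Q E α β Ψ)

include P

/-- a block map is determined on the frame -/
theorem BMp_of_frame {x : Cfsg.isometryGroup F (⇑Q)} {τ : Equiv.Perm (Fin 2)} {f : Fin 2 → M2 F →ₗ[F] M2 F}
    (h : ∀ k a, rep (inc' (⇑Q)) x (E (k, a)) = Ψ (Pi.single (τ k) (f k (u α β a)))) : BMp (Q := Q) Ψ x τ f := by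
  intro k X
  have key : (rep (inc' (⇑Q)) x) ∘ₗ (Ψ : (Fin 2 → M2 F) →ₗ[F] (ι → F)) ∘ₗ (LinearMap.single F (fun _ : Fin 2 => M2 F) k) =
      (Ψ : (Fin 2 → M2 F) →ₗ[F] (ι → F)) ∘ₗ (LinearMap.single F (fun _ : Fin 2 => M2 F) (τ k)) ∘ₗ f k := by
    refine (bM P.two P.h).ext fun a => ?_
    rw [bM_apply]
    change rep (inc' (⇑Q)) x (Ψ (Pi.single k (u α β a))) = _
    rw [P.ps, h]
    rfl
  exact congrArg (fun L : M2 F →ₗ[F] (ι → F) => L X) key

/-- the elements of `PM` are block maps -/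
theorem PM_BMp {x : Cfsg.Omega F (⇑Q)} {s : Fin 2 × A4 → F} {σ : Equiv.Perm (Fin 2 × A4)} (hσ : σ ∈ PP)
    (hx : rep (inc (⇑Q)) x = mono (polarBilin Q) E s σ) :
    ∃ τ c, TBM (Q := Q) Ψ (x : Cfsg.isometryGroup F (⇑Q)) τ c := by
  obtain ⟨τ, b, c, rfl⟩ := mem_PP_iff.1 hσ
  have hB : BMp (Q := Q) Ψ (x : Cfsg.isometryGroup F (⇑Q)) τ
      (fun k => (bM P.two P.h).constr F (fun a => s (k, a) • u α β (lin (b k) a + c k))) := by
    refine BMp_of_frame P fun k a => ?_
    have h1 : (bM P.two P.h).constr F (fun a => s (k, a) • u α β (lin (b k) a + c k)) (u α β a) =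
        s (k, a) • u α β (lin (b k) a + c k) := by
      rw [← bM_apply P.two P.h, Basis.constr_basis]
    rw [h1]
    change rep (inc (⇑Q)) x (E (k, a)) = _
    rw [hx, mono_e P.hF P.two, pp_apply, ← P.ps, ← map_smul, ← Pi.single_smul]
  obtain ⟨d, hd⟩ := exists_TBM P hB
  exact ⟨τ, d, hd⟩

/-- block maps which are monomial -/
theorem rep_mono {x : Cfsg.Omega F (⇑Q)} {s : Fin 2 × A4 → F} {σ : Equiv.Perm (Fin 2 × A4)}
    (h : ∀ k a, rep (inc (⇑Q)) x (E (k, a)) = s (k, a) • E (σ (k, a))) :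
    rep (inc (⇑Q)) x = mono (polarBilin Q) E s σ := by
  apply LinearMap.ext
  intro v
  obtain ⟨w, rfl⟩ := Ψ.surjective v
  have hw : w = ∑ k, Pi.single k (w k) := (Finset.univ_sum_single w).symm
  rw [hw, map_sum, map_sum, map_sum]
  refine Finset.sum_congr rfl fun k _ => ?_
  have key : (rep (inc (⇑Q)) x) ∘ₗ (Ψ : (Fin 2 → M2 F) →ₗ[F] (ι → F)) ∘ₗ (LinearMap.single F (fun _ : Fin 2 => M2 F) k) =
      (mono (polarBilin Q) E s σ) ∘ₗ (Ψ : (Fin 2 → M2 F) →ₗ[F] (ι → F)) ∘ₗ
        (LinearMap.single F (fun _ : Fin 2 => M2 F) k) := by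
    refine (bM P.two P.h).ext fun a => ?_
    rw [bM_apply]
    change rep (inc (⇑Q)) x (Ψ (Pi.single k (u α β a))) = mono (polarBilin Q) E s σ (Ψ (Pi.single k (u α β a)))
    rw [P.ps, h, mono_e P.hF P.two]
  exact congrArg (fun L : M2 F →ₗ[F] (ι → F) => L (w k)) key

theorem u_mul_adj (a b : A4) : ∃ s : F, s * s = 1 ∧ u α β a * (u α β b).adjugate = s • u α β (a + b) := by
  obtain ⟨s, hs, h1⟩ := u_adj P.h b
  obtain ⟨t, ht, h2⟩ := u_mul P.h a b
  exact ⟨s * t, by rw [mul_mul_mul_comm, hs, ht, one_mul], by rw [h1, Matrix.mul_smul, h2, smul_smul]⟩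

/-- the quaternion group lies in `PM` -/
theorem Lo_QQ_mem (i : Fin 2 × Bool) {S : SL2 F} (hS : S ∈ QQ P.h) : Lo P i S ∈ PM P.two P.hF := by
  obtain ⟨c, t, ht, hS⟩ := hS
  obtain ⟨k, b⟩ := i
  -- the action on the block
  have key : ∀ a : A4, ∃ s : F, s * s = 1 ∧ actE b S (u α β a) = s • u α β (a + c) := by
    intro a
    cases b
    · obtain ⟨s, hs, h1⟩ := u_mul P.h c a
      refine ⟨t * s, by rw [mul_mul_mul_comm, hs, ht, one_mul], ?_⟩
      rw [actE_false]
      change (S : M2 F) * _ = _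
      rw [hS, Matrix.smul_mul, h1, smul_smul, add_comm c a]
    · obtain ⟨s, hs, h1⟩ := u_mul_adj P a c
      refine ⟨t * s, by rw [mul_mul_mul_comm, hs, ht, one_mul], ?_⟩
      rw [actE_true]
      change _ * (S : M2 F).adjugate = _
      rw [hS, Matrix.adjugate_smul, Fintype.card_fin, Nat.add_one_sub_one, pow_one, Matrix.mul_smul, h1, smul_smul]
  choose s hs h1 using key
  refine ⟨fun j => if j.1 = k then s j.2 else 1, pp 1 (fun _ => false) (fun l => if l = k then c else 0), fun j => ?_,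
    pp_mem _ _ _, ?_⟩
  · dsimp only
    split_ifs
    · exact hs _
    · exact one_mul 1
  · refine rep_mono P fun l a => ?_
    rw [← P.ps, Lo_rep, pp_apply, ← P.ps, ← map_smul, ← Pi.single_smul]
    dsimp only
    by_cases hl : l = k
    · subst hl
      rw [lamf_self, h1, if_pos rfl, if_pos rfl]
      rfl
    · rw [lamf_ne _ _ hl, if_neg hl, if_neg hl, one_smul, add_zero]
      rfl

/-- `PMS` is a 2-group -/
theorem PMS_isPGroup : IsPGroup 2 ↥(PMS P.two P.hF) :=
  (PM_isPGroup P.two P.hF).map _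

theorem comap_Mb [Finite F] (i : Fin 2 × Bool) (hodd : ¬ 2 ∣ (QQ P.h).index) :
    (PMS P.two P.hF).comap (Mb P i) = QQ P.h := by
  have h1 : QQ P.h ≤ (PMS P.two P.hF).comap (Mb P i) := by
    intro S hS
    exact ⟨Lo P i S, Lo_QQ_mem P i hS, rfl⟩
  have h2 : IsPGroup 2 ↥((PMS P.two P.hF).comap (Mb P i)) :=
    (PMS_isPGroup P).comap_of_injective _ (Mb_injective P i)
  have h3 : (QQ P.h).relIndex ((PMS P.two P.hF).comap (Mb P i)) ∣ (QQ P.h).index :=
    Dvd.intro _ (Subgroup.relIndex_mul_index h1)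
  have h4 : (QQ P.h).relIndex ((PMS P.two P.hF).comap (Mb P i)) ∣
      Nat.card ↥((PMS P.two P.hF).comap (Mb P i)) := Subgroup.relIndex_dvd_card _ _
  have h5 : (QQ P.h).relIndex ((PMS P.two P.hF).comap (Mb P i)) = 1 := by
    have : Fact (Nat.Prime 2) := ⟨Nat.prime_two⟩
    obtain ⟨n, hn⟩ := IsPGroup.iff_card.1 h2
    rw [hn] at h4
    obtain ⟨m, -, hm⟩ := (Nat.dvd_prime_pow Nat.prime_two).1 h4
    rw [hm] at h3 ⊢
    rcases Nat.eq_zero_or_pos m with rfl | hm0
    · rfl
    · exact absurd ((dvd_pow_self 2 hm0.ne').trans h3) hodd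
  exact le_antisymm (Subgroup.relIndex_eq_one.1 h5) h1

theorem inf_eq [Finite F] (i : Fin 2 × Bool) (hodd : ¬ 2 ∣ (QQ P.h).index) :
    PMS P.two P.hF ⊓ LS P i = (QQ P.h).map (Mb P i) := by
  rw [← comap_Mb P i hodd, Subgroup.map_comap_eq, inf_comm]
  rfl

theorem syl [Finite F] (i : Fin 2 × Bool) (hodd : ¬ 2 ∣ (QQ P.h).index) :
    ¬ 2 ∣ (PMS P.two P.hF ⊓ LS P i).relIndex (LS P i) := by
  rw [inf_eq P i hodd]
  have h1 : LS P i = (⊤ : Subgroup (SL2 F)).map (Mb P i) := by
    rw [LS, MonoidHom.range_eq_map]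
  rw [h1, Subgroup.relIndex_map_map_of_injective _ _ (Mb_injective P i), Subgroup.relIndex_top_right]
  exact hodd

theorem three [Finite F] (i : Fin 2 × Bool) (hodd : ¬ 2 ∣ (QQ P.h).index) :
    (PMS P.two P.hF ⊓ LS P i).relIndex
      (normalizer ((PMS P.two P.hF ⊓ LS P i : Subgroup (Cfsg.POmega F (⇑Q))) : Set (Cfsg.POmega F (⇑Q))) ⊓ LS P i) ∣ 3 := by
  have h1 : normalizer ((PMS P.two P.hF ⊓ LS P i : Subgroup (Cfsg.POmega F (⇑Q))) : Set (Cfsg.POmega F (⇑Q))) ⊓ LS P i =
      (NQ P.h).map (Mb P i) := by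
    rw [inf_comm, LS, ← Subgroup.map_comap_eq]
    congr 1
    rw [Subgroup.comap_normalizer_eq_of_le_range (f := Mb P i) inf_le_right]
    rw [Subgroup.comap_inf, comap_Mb P i hodd]
    have h2 : (Mb P i).range.comap (Mb P i) = ⊤ := by
      rw [eq_top_iff]
      intro S _
      exact ⟨S, rfl⟩
    rw [h2, inf_top_eq]
  rw [h1, inf_eq P i hodd, Subgroup.relIndex_map_map_of_injective _ _ (Mb_injective P i)]
  exact relIndex_dvd P.h P.two hodd

seal _root_.Finset.sum _root_.dotProduct in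
theorem disj (i : Fin 2 × Bool) {x : Cfsg.POmega F (⇑Q)} (hx : x ∈ LS P i)
    (hx' : ∀ y ∈ LS P i, x * y = y * x) : ∃ k, x ^ 2 ^ k = 1 := by
  obtain ⟨S, rfl⟩ := hx
  have h1 : ∀ T, S * T = T * S := fun T => comm_of_Mb P (hx' _ ⟨T, rfl⟩)
  have h2 : S ∈ QQ P.h := by
    refine mem_of_fix P.h P.two (ε := 1) (δ := 1) (one_mul 1) (one_mul 1) ?_ ?_
    · rw [one_smul]
      exact congrArg (fun T : SL2 F => T.1) (h1 (U P.h (0, 1)))
    · rw [one_smul]
      exact congrArg (fun T : SL2 F => T.1) (h1 (U P.h (1, 0)))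
  have h3 : S ^ 8 = 1 := by
    have h4 := card_QQ P.h P.two
    have h5 : (⟨S, h2⟩ : ↥(QQ P.h)) ^ 8 = 1 := by
      rw [← h4]
      exact pow_card_eq_one'
    exact congrArg Subtype.val h5
  refine ⟨3, ?_⟩
  rw [← map_pow, show (2 : ℕ) ^ 3 = 8 by norm_num, h3, map_one]

end Cfsg.Agent.H982.DfPsi
end

-- part: H982/DfThree
section
/-!
# S4311, BOX D3 (helper982)

`boxD3` : the four `SL₂(q)`'s of `PΩ₈⁺(q)` satisfy the hypotheses `LL` of BOX D2, and every element of order three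
commuting with `z` lies in their product.
-/

set_option autoImplicit false
set_option linter.unusedSectionVars false

namespace Cfsg.Agent.H982.DfPsi

open Module QuadraticMap Cfsg.Agent.H167.OP Cfsg.Agent.H170.HL Cfsg.Agent.H170.HL.OmRow Cfsg.Agent.H556.Om
open Cfsg Subgroup Cfsg.Agent.H485.RV Cfsg.Agent.H561.RV Cfsg.Agent.H561.D4
open Cfsg.Agent.H982.DfMat hiding A4
open Matrix (SpecialLinearGroup det_mul det_one adjugate_mul mul_adjugate)

variable {F : Type} [Field F] {ι : Type} [Fintype ι] [DecidableEq ι] {Q : QuadraticForm F (ι → F)}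
  {E : Fin 2 × A4 → ι → F} {α β : F} {Ψ : (Fin 2 → M2 F) ≃ₗ[F] (ι → F)} (P : PsiD Q E α β Ψ)

include P

/-- the product of the four groups -/
theorem inter [Finite F] (hodd : ¬ 2 ∣ (QQ P.h).index) {x : Cfsg.POmega F (⇑Q)} (hx : x ∈ PMS P.two P.hF)
    (hxL : x ∈ ⨆ i, LS P i) : x ∈ ⨆ i, PMS P.two P.hF ⊓ LS P i := by
  have hcomm : Pairwise fun i j : Fin 2 × Bool => ∀ (S T : SL2 F), Commute (Mb P i S) (Mb P j T) :=
    fun i j hij S T => LS_comm P hij ⟨S, rfl⟩ ⟨T, rfl⟩
  set Φ := MonoidHom.noncommPiCoprod (Mb P) hcomm with hΦ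
  have hrange : Φ.range = ⨆ i, LS P i := MonoidHom.noncommPiCoprod_range (Mb P)
  set B : Subgroup (Fin 2 × Bool → SL2 F) := Subgroup.pi Set.univ (fun _ => QQ P.h) with hB
  have hBodd : ¬ 2 ∣ B.index := by
    rw [hB, Subgroup.index_pi, Finset.prod_const]
    intro h
    exact hodd (Nat.prime_two.dvd_of_dvd_pow h)
  set J := ⨆ i, PMS P.two P.hF ⊓ LS P i with hJ
  have hBJ : B.map Φ ≤ J := by
    rintro _ ⟨f, hf, rfl⟩
    have hf0 : Φ f = Finset.univ.noncommProd (fun i => Mb P i (f i)) (fun _ _ _ _ h => hcomm h _ _) := rfl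
    rw [hf0]
    refine Subgroup.noncommProd_mem _ (fun _ _ _ _ h => hcomm h _ _) fun i _ => ?_
    refine Subgroup.mem_iSup_of_mem i ?_
    rw [inf_eq P i hodd]
    exact ⟨f i, hf i (Set.mem_univ i), rfl⟩
  have h1 : (B.map Φ).relIndex (⨆ i, LS P i) ∣ B.index := by
    rw [← hrange, MonoidHom.range_eq_map, Subgroup.relIndex_map_map, top_sup_eq, Subgroup.relIndex_top_right]
    exact Subgroup.index_dvd_of_le le_sup_left
  have h2 : J.relIndex (⨆ i, LS P i) ∣ (B.map Φ).relIndex (⨆ i, LS P i) := Subgroup.relIndex_dvd_of_le_left _ hBJ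
  have hJle : J ≤ PMS P.two P.hF ⊓ ⨆ i, LS P i :=
    iSup_le fun i => le_inf inf_le_left (inf_le_right.trans (le_iSup (LS P) i))
  have h3 : J.relIndex (PMS P.two P.hF ⊓ ⨆ i, LS P i) ∣ J.relIndex (⨆ i, LS P i) :=
    Dvd.intro _ (Subgroup.relIndex_mul_relIndex _ _ _ hJle inf_le_right)
  have h4 : J.relIndex (PMS P.two P.hF ⊓ ⨆ i, LS P i) ∣ Nat.card ↥(PMS P.two P.hF ⊓ ⨆ i, LS P i) :=
    Subgroup.relIndex_dvd_card _ _
  have h5 : IsPGroup 2 ↥(PMS P.two P.hF ⊓ ⨆ i, LS P i) := (PMS_isPGroup P).to_le inf_le_left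
  have h6 : J.relIndex (PMS P.two P.hF ⊓ ⨆ i, LS P i) = 1 := by
    have : Fact (Nat.Prime 2) := ⟨Nat.prime_two⟩
    have hob_ := IsPGroup.iff_card.1 h5
    obtain ⟨n, hn⟩ := hob_
    rw [hn] at h4
    have hob_ := (Nat.dvd_prime_pow Nat.prime_two).1 h4
    obtain ⟨m, -, hm⟩ := hob_
    have h7 := (h3.trans h2).trans h1
    rw [hm] at h7 ⊢
    rcases Nat.eq_zero_or_pos m with rfl | hm0
    · rfl
    · exact absurd ((dvd_pow_self 2 hm0.ne').trans h7) hBodd
  exact Subgroup.relIndex_eq_one.1 h6 ⟨hx, hxL⟩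

/-- the block permutations -/
theorem exists_tau (τ : Equiv.Perm (Fin 2)) : ∃ x ∈ PM P.two P.hF,
    TBM (Q := Q) Ψ (x : Cfsg.isometryGroup F (⇑Q)) τ (fun _ => false) := by
  obtain ⟨x, hx⟩ := exists_perm P.gq P.two P.hF (sign_pp τ false 0)
  refine ⟨x, perm_mem_PM P.two P.hF (pp_mem _ _ _) hx, fun _ => LinearMap.id, BMp_of_frame P fun k a => ?_, fun k =>
    ⟨1, 1, by rw [det_one, one_mul], fun X => ?_⟩⟩
  · change rep (inc (⇑Q)) x (E (k, a)) = _
    rw [hx, mono_e P.hF P.two, pp_apply, one_smul, LinearMap.id_apply, P.ps]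
    simp [lin]
  · simp [Typ]

theorem u_adj_eq (b : A4) : (u α β b).adjugate = (if b = (0, 0) then (1 : F) else -1) • u α β b := by
  refine a4_cases (P := fun b => (u α β b).adjugate = (if b = (0, 0) then (1 : F) else -1) • u α β b) ?_ ?_ ?_ ?_ b
  · rw [if_pos rfl, u00, Matrix.adjugate_one, one_smul]
  · rw [if_neg (by decide), u10, adj2]
    ext i j
    (revert i j; simp only [_root_.Fin.forall_fin_succ, Fin.isValue, _root_.Matrix.of_apply, _root_.Matrix.cons_val', _root_.Matrix.cons_val_one, _root_.Matrix.cons_val_fin_one, _root_.Matrix.cons_val_zero, _root_.Matrix.smul_apply, _root_.smul_eq_mul, _root_.neg_mul, _root_.one_mul, _root_.Matrix.cons_val_succ, _root_.forall_const, _root_.and_self, _root_.neg_neg, _root_.implies_true])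
  · rw [if_neg (by decide), u01, adj2]
    ext i j
    (revert i j; simp only [_root_.Fin.forall_fin_succ, Fin.isValue, _root_.Matrix.of_apply, _root_.Matrix.cons_val', _root_.Matrix.cons_val_one, _root_.Matrix.cons_val_fin_one, _root_.Matrix.cons_val_zero, _root_.neg_neg, _root_.Matrix.smul_apply, _root_.smul_eq_mul, _root_.neg_mul, _root_.one_mul, _root_.Matrix.cons_val_succ, _root_.forall_const, _root_.neg_zero, _root_.and_self, _root_.implies_true])
  · rw [if_neg (by decide), u11, adj2]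
    ext i j
    (revert i j; simp only [_root_.Fin.forall_fin_succ, Fin.isValue, _root_.Matrix.of_apply, _root_.Matrix.cons_val', _root_.Matrix.cons_val_one, _root_.Matrix.cons_val_fin_one, _root_.Matrix.cons_val_zero, _root_.Matrix.smul_apply, _root_.smul_eq_mul, _root_.neg_mul, _root_.one_mul, _root_.Matrix.cons_val_succ, _root_.forall_const, _root_.neg_neg, _root_.and_self, _root_.implies_true])

/-- quaternion conjugation on both blocks -/
theorem exists_del : ∃ x ∈ PM P.two P.hF, TBM (Q := Q) Ψ (x : Cfsg.isometryGroup F (⇑Q)) 1 (fun _ => true) := by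
  have hne : ∀ a : A4, ((0, a) : Fin 2 × A4) ≠ (1, a) := by
    intro a h
    have h0 : (0 : Fin 2) = 1 := congrArg Prod.fst h
    exact absurd h0 (by decide)
  obtain ⟨x, hx⟩ := exists_sg P.gq P.two P.hF (hne (1, 0))
  obtain ⟨y, hy⟩ := exists_sg P.gq P.two P.hF (hne (0, 1))
  obtain ⟨z, hz⟩ := exists_sg P.gq P.two P.hF (hne (1, 1))
  refine ⟨x * y * z, mul_mem (mul_mem (sg_mem_PM _ _ hx) (sg_mem_PM _ _ hy)) (sg_mem_PM _ _ hz), fun _ => adL F,
    BMp_of_frame P fun k a => ?_, fun k => ⟨1, 1, by rw [det_one, one_mul], fun X => ?_⟩⟩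
  · change rep (inc (⇑Q)) (x * y * z) (E (k, a)) = Ψ (Pi.single k (u α β a).adjugate)
    (simp only [u_adj_eq P]; rewrite [(rep (inc (⇑Q))).map_mul]; simp only [(rep (inc (⇑Q))).map_mul]; rewrite [Module.End.mul_apply, Module.End.mul_apply]; simp only [hz]; simp only [mono_e P.hF P.two]; simp only [id]; (conv => enter [@2, @6]; rw [map_smul]); rewrite [hy]; simp only [mono_e P.hF P.two]; rewrite [id, map_smul, map_smul, hx, mono_e P.hF P.two, id, smul_smul, smul_smul, Pi.single_smul, map_smul, P.ps])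
    congr 1
    have h1 : ∀ (b : A4) (k : Fin 2) (a : A4), H556.Om.sg F ((0, b) : Fin 2 × A4) (1, b) (k, a) = if a = b then -1 else 1 := by
      intro b k a
      unfold H556.Om.sg
      have h2 : (((k, a) : Fin 2 × A4) = (0, b) ∨ ((k, a) : Fin 2 × A4) = (1, b)) ↔ a = b := by
        constructor
        · rintro (h | h)
          · exact congrArg Prod.snd h
          · exact congrArg Prod.snd h
        · rintro rfl
          fin_cases k
          · exact Or.inl rfl
          · exact Or.inr rfl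
      simp only [h2]
    rw [h1, h1, h1]
    refine a4_cases (P := fun a => (if a = ((1, 1) : A4) then (-1 : F) else 1) * (if a = ((0, 1) : A4) then -1 else 1) *
      (if a = ((1, 0) : A4) then -1 else 1) = if a = (0, 0) then 1 else -1) ?_ ?_ ?_ ?_ a
    · rw [if_neg (by decide), if_neg (by decide), if_neg (by decide), if_pos rfl]; ring
    · rw [if_neg (by decide), if_neg (by decide), if_pos rfl, if_neg (by decide)]; ring
    · rw [if_neg (by decide), if_pos rfl, if_neg (by decide), if_neg (by decide)]; ring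
    · rw [if_pos rfl, if_neg (by decide), if_neg (by decide), if_neg (by decide)]; ring
  · change X.adjugate = Typ true 1 1 X
    simp [Typ]

/-- `PM` has elements of determinant one only -/
theorem typ_of_det {x : Cfsg.Omega F (⇑Q)} {c : Fin 2 → Bool} (hx : TBM (Q := Q) Ψ (x : Cfsg.isometryGroup F (⇑Q)) 1 c)
    {k : Fin 2} (hk : c k = false) (l : Fin 2) : c l = false := by
  obtain ⟨f, hf, hc⟩ := hx
  have h1 := det_omega x
  rw [hf.det, Fin.prod_univ_two] at h1
  have h2 : ∀ k, LinearMap.det (f k) = if c k then -1 else 1 := by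
    intro k
    obtain ⟨A, B, hAB, h⟩ := hc k
    exact det_typ hAB h
  rw [h2, h2] at h1
  have h3 : (-1 : F) ≠ 1 := by
    intro h
    apply P.two
    linear_combination -h
  by_contra hl
  rw [Bool.not_eq_false] at hl
  fin_cases k <;> fin_cases l
  · exact absurd (hl.symm.trans hk) (by decide)
  · have hk' : c 0 = false := hk
    have hl' : c 1 = true := hl
    rw [hk', hl'] at h1
    simp at h1
    exact h3 h1
  · have hk' : c 1 = false := hk
    have hl' : c 0 = true := hl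
    rw [hk', hl'] at h1
    simp at h1
    exact h3 h1
  · exact absurd (hl.symm.trans hk) (by decide)

/-! ### The element of order three -/

theorem typ_sq {f : M2 F →ₗ[F] M2 F} {c : Bool} {A B : M2 F} (hAB : A.det * B.det = 1) (hf : ∀ X, f X = Typ c A B X) :
    ∃ A' B' : M2 F, A'.det * B'.det = 1 ∧ ∀ X, f (f X) = A' * X * B' := by
  cases c
  · refine ⟨A * A, B * B, ?_, fun X => ?_⟩
    · rw [det_mul, det_mul]
      linear_combination (A.det * B.det + 1) * hAB
    · rw [hf, hf]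
      change A * (A * X * B) * B = _
      simp only [mul_assoc]
  · refine ⟨A * B.adjugate, A.adjugate * B, ?_, fun X => ?_⟩
    · rw [det_mul, det_mul, Matrix.det_adjugate, Matrix.det_adjugate]
      simp only [Fintype.card_fin, Nat.add_one_sub_one, pow_one]
      linear_combination (A.det * B.det + 1) * hAB
    · rw [hf, hf]
      change A * (A * X.adjugate * B).adjugate * B = _
      have h2 : X.adjugate.adjugate = X := by
        rw [Matrix.adjugate_adjugate _ (by simp)]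
        simp
      rw [Matrix.adjugate_mul_distrib, Matrix.adjugate_mul_distrib, h2]
      simp only [mul_assoc]

/-- the fourth power of an isometry is a product of multiplications -/
theorem typ_four {f : M2 F →ₗ[F] M2 F} (hf : ∀ X, (f X).det = X.det) :
    ∃ S T : SL2 F, ∀ X, f (f (f (f X))) = actE false S (actE true T X) := by
  obtain ⟨c, A, B, hAB, h1⟩ := typ_of_iso hf
  obtain ⟨A', B', hAB', h2⟩ := typ_sq P hAB h1
  have hA : A'.det ≠ 0 := left_ne_zero_of_mul_eq_one hAB'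
  have hS : ((A'.det)⁻¹ • (A' * A')).det = 1 := by
    rw [Matrix.det_smul, det_mul, Fintype.card_fin]
    field_simp
  have hT : (A'.det • (B' * B')).adjugate.det = 1 := by
    rw [Matrix.det_adjugate, Matrix.det_smul, det_mul, Fintype.card_fin, Nat.add_one_sub_one, pow_one]
    linear_combination (A'.det * B'.det + 1) * hAB'
  refine ⟨⟨_, hS⟩, ⟨_, hT⟩, fun X => ?_⟩
  rw [h2, h2]
  change A' * (A' * X * B') * B' = ((A'.det)⁻¹ • (A' * A')) * (X * (A'.det • (B' * B')).adjugate.adjugate)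
  have h3 : (A'.det • (B' * B')).adjugate.adjugate = A'.det • (B' * B') := by
    rw [Matrix.adjugate_adjugate _ (by simp)]
    simp
  rw [h3, Matrix.mul_smul, Matrix.mul_smul, Matrix.smul_mul, smul_smul, mul_inv_cancel₀ hA, one_smul]
  simp only [mul_assoc]

theorem mem_of_BMp {x : Cfsg.Omega F (⇑Q)} {f : Fin 2 → M2 F →ₗ[F] M2 F}
    (hx : BMp (Q := Q) Ψ (x : Cfsg.isometryGroup F (⇑Q)) 1 f)
    (h : ∀ k, ∃ S T : SL2 F, ∀ X, f k X = actE false S (actE true T X)) :
    QuotientGroup.mk' (Subgroup.center (Cfsg.Omega F (⇑Q))) x ∈ ⨆ i, LS P i := by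
  choose S T h using h
  have h1 : (x : Cfsg.isometryGroup F (⇑Q)) =
      Lam P (0, false) (S 0) * Lam P (0, true) (T 0) * (Lam P (1, false) (S 1) * Lam P (1, true) (T 1)) := by
    have h2 := BMp.mul (BMp.mul (Lam_spec P (0, false) (S 0)) (Lam_spec P (0, true) (T 0)))
      (BMp.mul (Lam_spec P (1, false) (S 1)) (Lam_spec P (1, true) (T 1)))
    refine BMp.unique hx (BMp.congr h2 fun k X => ?_)
    change lamf (0, false) (S 0) k (lamf (0, true) (T 0) k (lamf (1, false) (S 1) k (lamf (1, true) (T 1) k X))) = f k X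
    have h01 : (0 : Fin 2) ≠ 1 := by decide
    fin_cases k
    · change lamf (0, false) (S 0) 0 (lamf (0, true) (T 0) 0 (lamf (1, false) (S 1) 0 (lamf (1, true) (T 1) 0 X))) = f 0 X
      rw [lamf_self, lamf_self, lamf_ne _ _ h01, lamf_ne _ _ h01, h]
      rfl
    · change lamf (0, false) (S 0) 1 (lamf (0, true) (T 0) 1 (lamf (1, false) (S 1) 1 (lamf (1, true) (T 1) 1 X))) = f 1 X
      rw [lamf_self, lamf_self, lamf_ne _ _ h01.symm, lamf_ne _ _ h01.symm, h]
      rfl
  have h2 : x = Lo P (0, false) (S 0) * Lo P (0, true) (T 0) * (Lo P (1, false) (S 1) * Lo P (1, true) (T 1)) :=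
    Subtype.ext h1
  exact mm4 (QuotientGroup.mk' (Subgroup.center (Cfsg.Omega F (⇑Q)))) h2 (Subgroup.mem_iSup_of_mem (0, false) ⟨_, rfl⟩)
    (Subgroup.mem_iSup_of_mem (0, true) ⟨_, rfl⟩) (Subgroup.mem_iSup_of_mem (1, false) ⟨_, rfl⟩)
    (Subgroup.mem_iSup_of_mem (1, true) ⟨_, rfl⟩)

/-- `z` on the blocks -/
theorem z_apply {z : Cfsg.Omega F (⇑Q)} (hz : IsZ Q E z) (k : Fin 2) (X : M2 F) :
    rep (inc (⇑Q)) z (Ψ (Pi.single k X)) = s0 F (k, (0, 0)) • Ψ (Pi.single k X) := by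
  have h1 : BMp (Q := Q) Ψ (z : Cfsg.isometryGroup F (⇑Q)) 1 (fun k => s0 F (k, (0, 0)) • LinearMap.id) := by
    refine BMp_of_frame P fun k a => ?_
    change rep (inc (⇑Q)) z (E (k, a)) = _
    rw [hz, mono_e P.hF P.two, id, ← P.ps, ← map_smul, ← Pi.single_smul]
    rfl
  have h2 := h1 k X
  change rep (inc (⇑Q)) z (Ψ (Pi.single k X)) = Ψ (Pi.single k (s0 F (k, (0, 0)) • X)) at h2
  rw [h2, Pi.single_smul, map_smul]

theorem exists_BMp_of_comm {z x : Cfsg.Omega F (⇑Q)} (hz : IsZ Q E z) (hxz : x * z = z * x) :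
    ∃ f, BMp (Q := Q) Ψ (x : Cfsg.isometryGroup F (⇑Q)) 1 f := by
  have hzW : ∀ w, rep (inc (⇑Q)) z (Ψ w) = Ψ (fun k => s0 F (k, (0, 0)) • w k) := by
    intro w
    have hw : w = ∑ k, Pi.single k (w k) := (Finset.univ_sum_single w).symm
    have hw' : (fun k => s0 F (k, (0, 0)) • w k) = ∑ k, Pi.single k (s0 F (k, (0, 0)) • w k) :=
      (Finset.univ_sum_single (fun k => s0 F (k, (0, 0)) • w k)).symm
    rw [hw', map_sum]
    conv_lhs => rw [hw, map_sum, map_sum]
    refine Finset.sum_congr rfl fun k _ => ?_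
    rw [z_apply P hz, Pi.single_smul, map_smul]
  refine ⟨fun k => (LinearMap.proj k) ∘ₗ (Ψ.symm : (ι → F) →ₗ[F] (Fin 2 → M2 F)) ∘ₗ (rep (inc (⇑Q)) x) ∘ₗ
    (Ψ : (Fin 2 → M2 F) →ₗ[F] (ι → F)) ∘ₗ (LinearMap.single F (fun _ : Fin 2 => M2 F) k), fun k X => ?_⟩
  change rep (inc (⇑Q)) x (Ψ (Pi.single k X)) = Ψ (Pi.single k (Ψ.symm (rep (inc (⇑Q)) x (Ψ (Pi.single k X))) k))
  set w := Ψ.symm (rep (inc (⇑Q)) x (Ψ (Pi.single k X))) with hw
  have hΨ : Ψ w = rep (inc (⇑Q)) x (Ψ (Pi.single k X)) := Ψ.apply_symm_apply _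
  rw [← hΨ]
  congr 1
  have h1 : rep (inc (⇑Q)) z (Ψ w) = s0 F (k, (0, 0)) • Ψ w := by
    simp_rw [hΨ, ← Module.End.mul_apply, ← (rep (inc (⇑Q))).map_mul, ← hxz, (rep (inc (⇑Q))).map_mul, Module.End.mul_apply, z_apply P hz, map_smul]
  rw [hzW, ← map_smul] at h1
  have h2 := Ψ.injective h1
  funext l
  by_cases hl : l = k
  · subst hl
    rw [Pi.single_eq_same]
  · rw [Pi.single_eq_of_ne hl]
    have h3 := congrFun h2 l
    change s0 F (l, (0, 0)) • w l = s0 F (k, (0, 0)) • w l at h3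
    have h4 : (s0 F (l, (0, 0)) - s0 F (k, (0, 0))) • w l = 0 := by rw [sub_smul, h3, sub_self]
    refine (smul_eq_zero.1 h4).resolve_left ?_
    intro h5
    apply P.two
    unfold s0 at h5
    fin_cases l <;> fin_cases k
    · exact absurd rfl hl
    · simp at h5
      linear_combination -h5
    · simp only [_root_.Fin.mk_one, _root_.Fin.isValue, _root_.one_ne_zero, ↓ _root_.reduceIte, _root_.Fin.zero_eta, _root_.sub_neg_eq_add] at h5
      linear_combination h5
    · exact absurd rfl hl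

omit P in
theorem abs_comm {G : Type*} [Group G] {x z d : G} (h1 : x * z = d * z * x) (hdc : ∀ g, g * d = d * g) (h2 : d * d = 1)
    (hx3 : x ^ 3 = 1) : x * z = z * x := by
  have h3 : x ^ 3 * z = d * d * d * z * x ^ 3 := by
    rw [pow_three']
    calc x * x * x * z = x * (x * (x * z)) := by simp only [mul_assoc]
      _ = x * (x * (d * z * x)) := by rw [h1]
      _ = x * ((x * d) * z * x) := by simp only [mul_assoc]
      _ = x * ((d * x) * z * x) := by rw [hdc x]
      _ = x * (d * (x * z) * x) := by simp only [mul_assoc]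
      _ = x * (d * (d * z * x) * x) := by rw [h1]
      _ = (x * d) * d * z * x * x := by simp only [mul_assoc]
      _ = (d * x) * d * z * x * x := by rw [hdc x]
      _ = d * (x * d) * z * x * x := by simp only [mul_assoc]
      _ = d * (d * x) * z * x * x := by rw [hdc x]
      _ = d * d * (x * z) * x * x := by simp only [mul_assoc]
      _ = d * d * (d * z * x) * x * x := by rw [h1]
      _ = d * d * d * z * (x * x * x) := by simp only [mul_assoc]
  rw [hx3, one_mul, mul_one, h2, one_mul] at h3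
  rw [h1, ← h3]

omit P in
theorem abs_four {G : Type*} [Group G] {x : G} (h : x ^ 3 = 1) : x = x * x * (x * x) := by
  have h1 : x * x * (x * x) = x ^ 3 * x := by
    rw [pow_three']
    simp only [mul_assoc]
  rw [h1, h, one_mul]

omit P in
theorem abs_twelve {G : Type*} [Group G] (x : G) : (x ^ 4) ^ 3 = (x ^ 3 * x ^ 3) * (x ^ 3 * x ^ 3) := by
  rw [← pow_mul, ← pow_add, ← pow_add]

/-- **The elements of order three.** -/
theorem mem_of_three {z : Cfsg.Omega F (⇑Q)} (hz : IsZ Q E z) {y : Cfsg.POmega F (⇑Q)} (hy : y ^ 3 = 1)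
    (hyz : y * QuotientGroup.mk z = QuotientGroup.mk z * y) : y ∈ ⨆ i, LS P i := by
  have hob_ := QuotientGroup.mk_surjective y
  obtain ⟨x, rfl⟩ := hob_
  have hsq : ∀ g ∈ Subgroup.center (Cfsg.Omega F (⇑Q)), g * g = 1 := by
    intro g hg
    apply rep_inj (Q := Q)
    apply LinearMap.ext
    intro v
    rw [(rep (inc (⇑Q))).map_mul, Module.End.mul_apply, (rep (inc (⇑Q))).map_one, Module.End.one_apply]
    have hob_ := center_cases P hg
    rcases hob_ with h | h
    · rw [h, h]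
    · rw [h, h, neg_neg]
  have hc : x ^ 3 ∈ Subgroup.center (Cfsg.Omega F (⇑Q)) := (QuotientGroup.eq_one_iff _).1 hy
  have hob_ : ∃ x', x' = x ^ 4 := ⟨_, rfl⟩
  obtain ⟨x', hx'⟩ := hob_
  have hx3 : x' ^ 3 = 1 := by
    rw [hx', abs_twelve, hsq _ hc, one_mul]
  have hmk : (QuotientGroup.mk x : Cfsg.POmega F (⇑Q)) = QuotientGroup.mk x' := by
    have h1 : (QuotientGroup.mk x' : Cfsg.POmega F (⇑Q)) = (QuotientGroup.mk x : Cfsg.POmega F (⇑Q)) ^ 4 := by
      rw [hx']
      rfl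
    have h2 : ((QuotientGroup.mk x : Cfsg.POmega F (⇑Q))) ^ 4 = (QuotientGroup.mk x : Cfsg.POmega F (⇑Q)) ^ 3 *
      QuotientGroup.mk x := pow_succ _ 3
    rw [h1, h2, hy, one_mul]
  rw [hmk] at hyz ⊢
  -- `x'` commutes with `z`
  have hd : x' * z * (z * x')⁻¹ ∈ Subgroup.center (Cfsg.Omega F (⇑Q)) := by
    rw [← QuotientGroup.eq_one_iff]
    have h1 : (QuotientGroup.mk (x' * z * (z * x')⁻¹) : Cfsg.POmega F (⇑Q)) =
        (QuotientGroup.mk x' * QuotientGroup.mk z) * (QuotientGroup.mk z * QuotientGroup.mk x')⁻¹ := rfl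
    simp only [h1, hyz, mul_inv_cancel]
  have h1 : x' * z = z * x' := by
    refine abs_comm (d := x' * z * (z * x')⁻¹) ?_ (fun g => Subgroup.mem_center_iff.1 hd g) (hsq _ hd) hx3
    rw [mul_assoc (x' * z * (z * x')⁻¹), inv_mul_cancel_right]
  -- the blocks
  have hob_ := exists_BMp_of_comm P hz h1
  obtain ⟨f, hf⟩ := hob_
  have h5 : x' = x' * x' * (x' * x') := abs_four hx3
  have h6 : BMp (Q := Q) Ψ ((x' * x' * (x' * x') : Cfsg.Omega F (⇑Q)) : Cfsg.isometryGroup F (⇑Q)) 1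
      (fun k => (f k ∘ₗ f k) ∘ₗ (f k ∘ₗ f k)) := (hf.mul hf).mul (hf.mul hf)
  rw [← h5] at h6
  exact mem_of_BMp P h6 fun k => typ_four P (hf.form P k)

/-! ### The hypotheses of BOX D2 -/

/-- the indices -/
noncomputable def ei : Fin 4 ≃ Fin 2 × Bool := Fintype.equivOfCardEq (by simp)

theorem exists_TBM_of_mem {g : Cfsg.POmega F (⇑Q)} (hg : g ∈ PMS P.two P.hF) :
    ∃ (x : Cfsg.Omega F (⇑Q)) (τ : Equiv.Perm (Fin 2)) (c : Fin 2 → Bool),
      g = QuotientGroup.mk' (Subgroup.center (Cfsg.Omega F (⇑Q))) x ∧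
      TBM (Q := Q) Ψ (x : Cfsg.isometryGroup F (⇑Q)) τ c := by
  obtain ⟨x, ⟨s, σ, -, hσ, hx⟩, rfl⟩ := hg
  have hob_ := PM_BMp P hσ hx
  obtain ⟨τ, c, h⟩ := hob_
  exact ⟨x, τ, c, rfl, h⟩

/-- **The hypotheses of BOX D2.** -/
theorem LL_of [Finite F] (hodd : ¬ 2 ∣ (QQ P.h).index) : LL (PMS P.two P.hF) (fun i => LS P (ei i)) where
  comm i j hij x hx y hy := LS_comm P (fun h => hij (ei.injective h)) hx hy
  inj i j h := ei.injective (LS_injective P h)
  perm g hg i := by
    have hob_ := exists_TBM_of_mem P hg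
    obtain ⟨x, τ, c, rfl, hx⟩ := hob_
    refine ⟨ei.symm (τ (ei i).1, xor (ei i).2 (c (ei i).1)), ?_⟩
    have h1 := LS_conj P hx (ei i).1 (ei i).2
    (simp +singlePass only [← ei.apply_symm_apply (τ (ei i).1, xor (ei i).2 (c (ei i).1))] at h1)
    exact h1
  trans i := by
    have hob_ := exists_tau P (Equiv.swap (ei 0).1 (ei i).1)
    obtain ⟨x, hx, hxT⟩ := hob_
    have h1 := LS_conj P hxT (ei 0).1 (ei 0).2
    simp only [Equiv.swap_apply_left, Bool.xor_false] at h1
    by_cases hb : (ei 0).2 = (ei i).2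
    · refine ⟨_, ⟨x, hx, rfl⟩, h1.trans ?_⟩
      rw [hb]
    · have hob_ := exists_del P
      obtain ⟨y, hy, hyT⟩ := hob_
      have h2 := LS_conj P hyT (ei i).1 (ei 0).2
      have hb' : xor (ei 0).2 true = (ei i).2 := by
        revert hb
        generalize (ei 0).2 = b
        generalize (ei i).2 = c
        revert b c
        decide
      simp only [hb', Equiv.Perm.one_apply] at h2
      refine ⟨_, ⟨y * x, mul_mem hy hx, rfl⟩, ?_⟩
      rw [(QuotientGroup.mk' (Subgroup.center (Cfsg.Omega F (⇑Q)))).map_mul, MulAut.conj.map_mul]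
      have h3 : (LS P (ei 0)).map
          (MulAut.conj (QuotientGroup.mk' (Subgroup.center (Cfsg.Omega F (⇑Q))) y) *
            MulAut.conj (QuotientGroup.mk' (Subgroup.center (Cfsg.Omega F (⇑Q))) x)).toMonoidHom =
          ((LS P (ei 0)).map (MulAut.conj (QuotientGroup.mk' (Subgroup.center (Cfsg.Omega F (⇑Q))) x)).toMonoidHom).map
            (MulAut.conj (QuotientGroup.mk' (Subgroup.center (Cfsg.Omega F (⇑Q))) y)).toMonoidHom := by
        simp only [Subgroup.map_map]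
        rfl
      rw [h3]
      exact (congrArg _ h1).trans h2
  reg g hg h0 i := by
    have hob_ := exists_TBM_of_mem P hg
    obtain ⟨x, τ, c, rfl, hx⟩ := hob_
    have h1 := LS_conj P hx (ei 0).1 (ei 0).2
    have h2 : LS P (τ (ei 0).1, xor (ei 0).2 (c (ei 0).1)) = LS P (ei 0) := h1.symm.trans h0
    have h3 := LS_injective P h2
    have h4 : τ (ei 0).1 = (ei 0).1 := congrArg Prod.fst h3
    have h5 : xor (ei 0).2 (c (ei 0).1) = (ei 0).2 := congrArg Prod.snd h3
    have h6 : c (ei 0).1 = false := by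
      revert h5
      generalize (ei 0).2 = b
      generalize c (ei 0).1 = d
      revert b d
      decide
    have h7 : τ = 1 := by
      revert h4
      generalize (ei 0).1 = k
      clear h1 h2 h3 hx h0
      revert τ k
      decide
    subst h7
    have h8 := LS_conj P hx (ei i).1 (ei i).2
    simp only [typ_of_det P hx h6, Bool.xor_false, Equiv.Perm.one_apply] at h8
    exact h8
  syl i := syl P (ei i) hodd
  three i := three P (ei i) hodd
  disj i x hx hx' := by
    refine disj P (ei i) hx fun y hy => ?_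
    have h1 : (⨆ j : {j // j ≠ i}, LS P (ei j.1)) ≤ Subgroup.centralizer {y} := by
      refine iSup_le fun j w hw => ?_
      rw [Subgroup.mem_centralizer_singleton_iff]
      exact LS_comm P (fun h => j.2 (ei.injective h)) hw hy
    exact Subgroup.mem_centralizer_singleton_iff.1 (h1 hx')
  inter x hx hxL := by
    have h1 : (⨆ i, LS P (ei i)) = ⨆ i, LS P i := ei.surjective.iSup_comp (LS P)
    have h2 : (⨆ i, PMS P.two P.hF ⊓ LS P (ei i)) = ⨆ i, PMS P.two P.hF ⊓ LS P i :=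
      ei.surjective.iSup_comp (fun i => PMS P.two P.hF ⊓ LS P i)
    rw [h2]
    exact inter P hodd hx (by rw [← h1]; exact hxL)

omit P in
theorem exists_ab (F : Type) [Field F] [Finite F] : ∃ α β : F, α * α + β * β = -1 := by
  obtain ⟨p, hp⟩ := CharP.exists F
  have hp' : p.Prime := CharP.char_is_prime F p
  have : NeZero p := ⟨hp'.ne_zero⟩
  obtain ⟨a, b, hab⟩ := CharP.sq_add_sq F p (-1)
  refine ⟨a, b, ?_⟩
  rw [← pow_two, ← pow_two]
  simpa using hab

omit P in
theorem card_SL2 (F : Type) [Field F] [Finite F] : Nat.card (_root_.Matrix.SpecialLinearGroup (Fin 2) F) =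
    Nat.card F * (Nat.card F ^ 2 - 1) := by
  have : Fintype F := Fintype.ofFinite F
  have h1 := Cfsg.Agent.S0242.result (F := F) rfl 2 (by norm_num)
  have hq : 2 ≤ Fintype.card F := Fintype.one_lt_card
  rw [Fin.prod_univ_two] at h1
  have h3 : Fintype.card F ^ 2 - Fintype.card F ^ 1 = (Fintype.card F - 1) * Fintype.card F := by
    rw [Nat.sub_mul, one_mul, pow_one, pow_two]
  simp only [Fin.val_zero, Fin.val_one, pow_zero] at h1
  rw [h3] at h1
  have h4 : (Fintype.card F - 1) * Nat.card (_root_.Matrix.SpecialLinearGroup (Fin 2) F) =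
      (Fintype.card F - 1) * (Fintype.card F * (Fintype.card F ^ 2 - 1)) := by rw [h1]; ring
  rw [Nat.card_eq_fintype_card (α := F)]
  exact Nat.eq_of_mul_eq_mul_left (by omega) h4

omit P in
theorem dvd_of_sixteen {q n : ℕ} (hq : 1 < q) (h : 16 ∣ q ^ 2 - 1)
    (hn : n * 2 = q ^ 12 * (q ^ 2 - 1) * (q ^ 4 - 1) ^ 2 * (q ^ 6 - 1)) : 2 ^ 14 ∣ n := by
  obtain ⟨m, hm⟩ := h
  have h1 : 1 ≤ q ^ 2 := Nat.one_le_pow _ _ (by omega)
  have h2 : q ^ 2 = 16 * m + 1 := by omega
  have h4 : q ^ 4 - 1 = 32 * (8 * m ^ 2 + m) := by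
    have : q ^ 4 = (q ^ 2) ^ 2 := by ring
    rw [this, h2]
    apply Nat.sub_eq_of_eq_add
    ring
  have h6 : q ^ 6 - 1 = 16 * (256 * m ^ 3 + 48 * m ^ 2 + 3 * m) := by
    have : q ^ 6 = (q ^ 2) ^ 3 := by ring
    rw [this, h2]
    apply Nat.sub_eq_of_eq_add
    ring
  rw [hm, h4, h6] at hn
  have h7 : n = 2 ^ 14 * (8 * (q ^ 12 * m * (8 * m ^ 2 + m) ^ 2 * (256 * m ^ 3 + 48 * m ^ 2 + 3 * m))) := by
    have h8 : n * 2 = 2 ^ 14 * (8 * (q ^ 12 * m * (8 * m ^ 2 + m) ^ 2 * (256 * m ^ 3 + 48 * m ^ 2 + 3 * m))) * 2 := by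
      rw [hn]
      ring
    omega
  exact Dvd.intro _ h7.symm

omit P in
/-- **BOX D3.** -/
theorem boxD3 [Finite F] (_hN : BoxN Q) : BoxD3 Q := by
  intro h E hF z hz h14
  have hob_ := exists_ab F
  obtain ⟨α, β, hab⟩ := hob_
  have hob_ := exists_Psi h hF hab
  obtain ⟨Ψ, P⟩ := hob_
  have hqodd : Odd (Nat.card F) := by
    have : Fintype F := Fintype.ofFinite F
    rw [Nat.card_eq_fintype_card, Nat.odd_iff]
    apply FiniteField.odd_card_of_char_ne_two
    intro h2
    apply h.two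
    have h3 := ringChar.Nat.cast_ringChar (R := F)
    rw [h2] at h3
    exact_mod_cast h3
  have h16 : ¬ 16 ∣ Nat.card F ^ 2 - 1 := fun h16 => h14 (dvd_of_sixteen Finite.one_lt_card h16 h.card)
  have hodd : ¬ 2 ∣ (QQ P.h).index := index_odd P.h h.two hqodd h16 (card_SL2 F)
  refine ⟨fun i => LS P (ei i), LL_of P hodd, fun y hy hyz => ?_⟩
  rw [ei.surjective.iSup_comp (LS P)]
  exact mem_of_three P hz hy hyz

end Cfsg.Agent.H982.DfPsi
end

private theorem dce_ffa34474b377 : _root_.True := by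
  try have : _root_.True := by simp only [_root_.Cfsg.Agent.H982.DfMat.e0.eq_1]
  try have : _root_.True := by simp only [_root_.Cfsg.Agent.H982.DfMat.pd.eq_1]
  try have : _root_.True := by simp only [_root_.Cfsg.Agent.H982.DfPsi.bM.eq_1]
  try have : _root_.True := by simp only [_root_.Cfsg.Agent.H982.DfPsi.pW.eq_1]
  try have : _root_.True := by simp only [_root_.Cfsg.Agent.H982.DfPsi.LS.eq_1]
  try have : _root_.True := by simp only [_root_.Cfsg.Agent.H982.DfMat.Typ.eq_1]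
  exact _root_.True.intro
end

-- part: H561/D4/FinalA
section
prune_inst 0x4056008000900120000000584910000402200000001000800082003000280c4620d02204080002000080000040030004810000030004000000400000001190180100000043100a100220008000000000000000000000000000000000000000000000000000
set_option linter.all false
open scoped Cfsg.Agent.FastGrp

-- part: H561/D4/Hall
section
/-!
# S4311, the row `PΩ₈⁺(q)`: Hall subgroups with `O₂ ≠ 1` have an invariant class (helper561)
-/

set_option autoImplicit false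
set_option linter.unusedSectionVars false

namespace Cfsg.Agent.H561.D4

open Module QuadraticMap Cfsg.Agent.H167.OP Cfsg.Agent.H170.HL Cfsg.Agent.H170.HL.OmRow Cfsg.Agent.H556.Om
open Cfsg Subgroup Cfsg.Agent.H485.RV Cfsg.Agent.H561.RV
open scoped Pointwise

universe u

variable {F : Type} [Field F] [Finite F] {ι : Type} [Fintype ι] [DecidableEq ι] {Q : QuadraticForm F (ι → F)}
  {S : Type u} [Group S] [Finite S] {π : Set ℕ}

/-- the preimage of a Hall subgroup satisfies `HD` -/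
theorem hd_of_hall (hq : Q8 Q) (hN : BoxN Q) {p : ℕ} [CharP F p] (hp : p.Prime) (hpπ : p ∉ π) (h2π : 2 ∈ π)
    (h3π : 3 ∈ π) (e : S ≃* Cfsg.POmega F (⇑Q)) {H : Subgroup S} (hH : IsPiHall π H) : HD (H.comap (pr e)) := by
  have hfin : Finite (Cfsg.Omega F (⇑Q)) := inferInstance
  have hK := hall_comap hq.gq e h2π hH
  obtain ⟨a, b, ha, hb, h2, h3, -⟩ := hN
  have hG0 : Nat.card (Cfsg.Omega F (⇑Q)) ≠ 0 := Nat.card_pos.ne'
  have d2 : 2 ∣ Nat.card (Cfsg.Omega F (⇑Q)) :=
    (Nat.dvd_of_factorization_pos (by rw [h2]; omega))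
  have d3 : 3 ∣ Nat.card (Cfsg.Omega F (⇑Q)) :=
    (Nat.dvd_of_factorization_pos (by rw [h3]; omega))
  have hci := (H.comap (pr e)).card_mul_index
  refine ⟨hq, ?_, ?_, ?_, ?_, ?_⟩
  · intro h0
    rw [CharP.cast_eq_zero_iff F p] at h0
    exact hpπ (hK.1 p hp h0)
  · rw [Nat.coprime_iff_gcd_eq_one]
    by_contra hne
    obtain ⟨r, hr, hd⟩ := Nat.exists_prime_and_dvd hne
    exact hK.2 r hr (hK.1 r hr (hd.trans (Nat.gcd_dvd_left _ _))) (hd.trans (Nat.gcd_dvd_right _ _))
  · rw [← hci] at d2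
    exact ((Nat.prime_two.dvd_mul).1 d2).resolve_right (hK.2 2 Nat.prime_two h2π)
  · rw [← hci] at d3
    exact ((Nat.prime_three.dvd_mul).1 d3).resolve_right (hK.2 3 Nat.prime_three h3π)
  · intro x hx
    show pr e x ∈ H
    rw [(pr_eq_one e).2 hx]
    exact H.one_mem

/-- a nontrivial normal 2-subgroup -/
def TwoN {S : Type u} [Group S] (H : Subgroup S) : Prop :=
  ∃ N : Subgroup S, N ≤ H ∧ N ≠ ⊥ ∧ IsPGroup 2 N ∧ ∀ g ∈ H, ∀ n ∈ N, g * n * g⁻¹ ∈ N

theorem twoN_of_NTwo (e : S ≃* Cfsg.POmega F (⇑Q)) {H : Subgroup S} (h : NTwo (H.comap (pr e))) : TwoN H := by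
  obtain ⟨N, hN, h2, hn, n, hnN, hnc⟩ := h
  refine ⟨N.map (pr e), ?_, ?_, h2.map _, ?_⟩
  · rintro _ ⟨x, hx, rfl⟩
    exact hN hx
  · intro h0
    have h1 : pr e n ∈ N.map (pr e) := ⟨n, hnN, rfl⟩
    rw [h0, Subgroup.mem_bot, pr_eq_one] at h1
    exact hnc h1
  · rintro h hh _ ⟨x, hx, rfl⟩
    obtain ⟨g, rfl⟩ := pr_surjective e h
    exact ⟨g * x * g⁻¹, hn g hh x hx, by simp only [map_mul, map_mul, map_inv]⟩

theorem NTwo_of_twoN (hq : GoodQ Q) (e : S ≃* Cfsg.POmega F (⇑Q)) {H : Subgroup S} (h : TwoN H) :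
    NTwo (H.comap (pr e)) := by
  obtain ⟨N, hN, h0, h2, hn⟩ := h
  refine ⟨N.comap (pr e), fun x hx => hN hx, ?_, fun g hg n hn' => ?_, ?_⟩
  · rintro ⟨x, hx⟩
    obtain ⟨k, hk⟩ := h2 ⟨pr e x, hx⟩
    refine ⟨k + 1, Subtype.ext ?_⟩
    show x ^ 2 ^ (k + 1) = 1
    have h1 : pr e (x ^ 2 ^ k) = 1 := by
      rw [map_pow]
      exact congrArg Subtype.val hk
    rw [pow_succ, pow_mul, pow_two]
    exact mul_self_of_pr hq e h1
  · show pr e (g * n * g⁻¹) ∈ N
    rw [map_mul, map_mul, map_inv]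
    exact hn _ hg _ hn'
  · obtain ⟨⟨n, hnN⟩, hn1'⟩ := (Subgroup.ne_bot_iff_exists_ne_one).1 h0
    have hn1 : n ≠ 1 := fun h => hn1' (Subtype.ext h)
    obtain ⟨x, rfl⟩ := pr_surjective e n
    exact ⟨x, hnN, fun hc => hn1 ((pr_eq_one e).2 hc)⟩

theorem twoN_smul {S : Type u} [Group S] {H : Subgroup S} (h : TwoN H) (φ : MulAut S) : TwoN (φ • H) := by
  obtain ⟨N, hN, h0, h2, hn⟩ := h
  refine ⟨φ • N, Subgroup.pointwise_smul_le_pointwise_smul_iff.2 hN, ?_, ?_, ?_⟩
  · intro h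
    apply h0
    have := congrArg (φ⁻¹ • ·) h
    simpa only [_root_.inv_smul_smul, _root_.Subgroup.smul_bot] using this
  · exact h2.map (φ : S ≃* S).toMonoidHom
  · intro g hg n hn'
    obtain ⟨g', hg', rfl⟩ := (Subgroup.mem_smul_pointwise_iff_exists _ _ _).1 hg
    obtain ⟨n', hn'', rfl⟩ := (Subgroup.mem_smul_pointwise_iff_exists _ _ _).1 hn'
    refine (Subgroup.mem_smul_pointwise_iff_exists _ _ _).2 ⟨g' * n' * g'⁻¹, hn _ hg' _ hn'', ?_⟩
    simp only [_root_.smul_mul', _root_.MulAut.smul_def, _root_.smul_inv']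

/-- conjugation of the stabiliser -/
theorem conj_mem_StD {U U' : Fin 4 → Submodule F (ι → F)} {g : Cfsg.Omega F (⇑Q)}
    (hg : ∀ i, (U i).map (rep (inc (⇑Q)) g) = U' i) {x : Cfsg.Omega F (⇑Q)} (hx : x ∈ StD Q U) :
    g * x * g⁻¹ ∈ StD Q U' := by
  have hg' : ∀ i, (U' i).map (rep (inc (⇑Q)) g⁻¹) = U i := by
    intro i
    rw [← hg i, ← Submodule.map_comp, ← Module.End.mul_eq_comp, ← map_mul, inv_mul_cancel, map_one]
    exact Submodule.map_id _
  have key : ∀ y : Cfsg.Omega F (⇑Q), (∀ i, ∃ j, (U i).map (rep (inc (⇑Q)) y) = U j) →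
      ∀ i, ∃ j, (U' i).map (rep (inc (⇑Q)) (g * y * g⁻¹)) = U' j := by
    intro y hy i
    obtain ⟨j, hj⟩ := hy i
    refine ⟨j, ?_⟩
    rw [map_mul, map_mul, Module.End.mul_eq_comp, Submodule.map_comp, hg' i, Module.End.mul_eq_comp,
      Submodule.map_comp, hj, hg j]
  refine ⟨key x hx.1, ?_⟩
  have h1 : (g * x * g⁻¹)⁻¹ = g * x⁻¹ * g⁻¹ := by group
  rw [h1]
  exact key x⁻¹ hx.2

/-- **a Hall subgroup with `O₂ ≠ 1` has an invariant class** -/
theorem fixC_of_twoN (hA : BoxA Q) (hB1 : BoxB1 Q) (hB2 : BoxB2 Q) (hq : Q8 Q) (hN : BoxN Q) {p : ℕ} [CharP F p]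
    (hp : p.Prime) (hpπ : p ∉ π) (h2π : 2 ∈ π) (h3π : 3 ∈ π) (e : S ≃* Cfsg.POmega F (⇑Q)) {H : Subgroup S}
    (hH : IsPiHall π H) (hT : TwoN H) (φ : MulAut S) : FixC φ H := by
  have hfin : Finite (Cfsg.Omega F (⇑Q)) := inferInstance
  have hH' := isPiHall_smul hH φ
  obtain ⟨U, hU, hHU⟩ := hA _ (hd_of_hall hq hN hp hpπ h2π h3π e hH) (NTwo_of_twoN hq.gq e hT)
  obtain ⟨U', hU', hHU'⟩ := hA _ (hd_of_hall hq hN hp hpπ h2π h3π e hH') (NTwo_of_twoN hq.gq e (twoN_smul hT φ))
  obtain ⟨g, hg⟩ := hB1 U U' hU hU'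
  have hK := hall_comap hq.gq e h2π hH
  have hK' := hall_comap hq.gq e h2π hH'
  have h1 : MulAut.conj g • (H.comap (pr e)) ≤ StD Q U' := by
    intro y hy
    obtain ⟨x, hx, rfl⟩ := (Subgroup.mem_smul_pointwise_iff_exists _ _ _).1 hy
    exact conj_mem_StD hg (hHU hx)
  have hc := isPiHall_smul hK (MulAut.conj g)
  have hof : ∀ Y : Subgroup (Cfsg.Omega F (⇑Q)), Y ≤ StD Q U' → IsPiHall π Y → IsPiHallOf π Y (StD Q U') :=
    fun Y hY hh => ⟨hY, hh.1, fun r hr hrπ hd => hh.2 r hr hrπ (hd.trans ⟨_, (Subgroup.relIndex_mul_index hY).symm⟩)⟩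
  obtain ⟨m, -, hm⟩ := Cfsg.Agent.OddOrderLocal.HallPi.conj_of_isPiHallOf (hB2 U' hU') (hof _ h1 hc) (hof _ hHU' hK')
  refine fixC_iff.2 ⟨pr e (m * g), ?_⟩
  have h2 : MulAut.conj (m * g) • (H.comap (pr e)) = (φ • H).comap (pr e) := by
    rw [map_mul, mul_smul]
    exact hm
  have h3 : ((φ • H).comap (pr e)).map (pr e) = φ • H := map_comap_eq_self_of_surjective (pr_surjective e) _
  have h4 : (H.comap (pr e)).map (pr e) = H := map_comap_eq_self_of_surjective (pr_surjective e) _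
  rw [← h3, ← h2]
  conv_rhs => rw [← h4]
  ext y
  simp only [Subgroup.mem_map, Subgroup.mem_smul_pointwise_iff_exists]
  constructor
  · rintro ⟨_, ⟨x, hx, rfl⟩, rfl⟩
    exact ⟨pr e x, ⟨x, hx, rfl⟩, by simp⟩
  · rintro ⟨_, ⟨x, hx, rfl⟩, rfl⟩
    exact ⟨_, ⟨x, hx, rfl⟩, by simp only [_root_.map_mul, _root_.MulAut.smul_def, _root_.MulAut.mul_apply, _root_.MulAut.conj_apply, _root_.map_inv]⟩

end Cfsg.Agent.H561.D4
end

-- part: H561/D4/Mid
section
/-!
# S4311, the row `PΩ₈⁺(q)`: BOX C from C1, C2, N (helper561)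
-/

set_option autoImplicit false
set_option linter.unusedSectionVars false

namespace Cfsg.Agent.H561.D4

open Module QuadraticMap Cfsg.Agent.H167.OP Cfsg.Agent.H170.HL Cfsg.Agent.H170.HL.OmRow Cfsg.Agent.H556.Om
open Cfsg Subgroup Cfsg.Agent.H485.RV Cfsg.Agent.H561.RV

theorem card_POmega82 : Nat.card (Cfsg.POmega (ZMod 2) (Cfsg.quadFormPlus 4 (ZMod 2))) = 174182400 := by
  have h1 := Cfsg.Agent.S0293.result (F := ZMod 2) (by rw [ZMod.card]) 4 (by norm_num)
  simp only [Finset.prod_range_succ, Finset.prod_range_zero] at h1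
  norm_num at h1
  exact h1

section cover

variable {G : Type} [Group G] [Finite G]

/-- the order of a subgroup containing the kernel -/
theorem card_of_ker {Z H : Subgroup G} [Z.Normal] (hZH : Z ≤ H) :
    Nat.card H = Nat.card (H.map (QuotientGroup.mk' Z)) * Nat.card Z := by
  have h1 := Subgroup.card_mul_index (Z.subgroupOf H)
  have h2 : Nat.card (Z.subgroupOf H) = Nat.card Z := Nat.card_congr (Subgroup.subgroupOfEquivOfLe hZH).toEquiv
  have h3 : (Z.subgroupOf H).index = Nat.card (H.map (QuotientGroup.mk' Z)) := by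
    have h4 : Z.subgroupOf H = ((QuotientGroup.mk' Z).comp H.subtype).ker := by
      ext x
      rw [Subgroup.mem_subgroupOf, MonoidHom.mem_ker, MonoidHom.comp_apply, QuotientGroup.mk'_apply,
        QuotientGroup.eq_one_iff, Subgroup.subtype_apply]
    rw [h4, Subgroup.index_ker, MonoidHom.range_comp, H.range_subtype]
  rw [← h1, h2, h3, mul_comm]

/-- the cover of a subgroup of the quotient by the centre -/
theorem exists_cover {Z : Subgroup G} [Z.Normal] (hZc : ∀ x ∈ Z, ∀ y : G, x * y = y * x) (Y : Subgroup (G ⧸ Z)) (T : Subgroup Y) :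
    ∃ (L : Subgroup G) (f : L →* T), Function.Surjective f ∧ (∀ x, f x = 1 → ∀ y, x * y = y * x) ∧
      Nat.card f.ker = Nat.card Z := by
  let T' : Subgroup (G ⧸ Z) := T.map Y.subtype
  let eT : T ≃* T' := T.equivMapOfInjective Y.subtype Y.subtype_injective
  let f₀ : T'.comap (QuotientGroup.mk' Z) →* T' := (QuotientGroup.mk' Z).subgroupComap T'
  have hf₀ : Function.Surjective f₀ :=
    MonoidHom.subgroupComap_surjective_of_surjective _ _ (QuotientGroup.mk'_surjective Z)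
  let f : T'.comap (QuotientGroup.mk' Z) →* T := eT.symm.toMonoidHom.comp f₀
  have hf1 : ∀ x, f x = 1 ↔ (x : G) ∈ Z := by
    intro x
    have h1 : f x = 1 ↔ f₀ x = 1 := by
      show eT.symm (f₀ x) = 1 ↔ _
      rw [← map_one eT.symm]
      exact eT.symm.injective.eq_iff
    rw [h1, ← QuotientGroup.eq_one_iff (N := Z)]
    exact ⟨fun h => congrArg Subtype.val h, fun h => Subtype.ext h⟩
  have hZL : Z ≤ T'.comap (QuotientGroup.mk' Z) := by
    intro x hx
    show (QuotientGroup.mk' Z) x ∈ T'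
    rw [QuotientGroup.mk'_apply, (QuotientGroup.eq_one_iff x).2 hx]
    exact one_mem _
  refine ⟨T'.comap (QuotientGroup.mk' Z), f, eT.symm.surjective.comp hf₀, ?_, ?_⟩
  · intro x hx y
    exact Subtype.ext (hZc _ ((hf1 x).1 hx) _)
  · have h1 : f.ker = Z.subgroupOf (T'.comap (QuotientGroup.mk' Z)) := by
      ext x
      rw [MonoidHom.mem_ker, hf1, Subgroup.mem_subgroupOf]
    rw [h1]
    exact Nat.card_congr (Subgroup.subgroupOfEquivOfLe hZL).toEquiv

end cover

variable {F : Type} [Field F] {ι : Type} [Fintype ι] [DecidableEq ι] {Q : QuadraticForm F (ι → F)}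

/-- `Ω` in `GL₈` -/
theorem exists_gl8 (hι : Fintype.card ι = 8) :
    ∃ ρ : Cfsg.Omega F (⇑Q) →* Matrix.GeneralLinearGroup (Fin 8) F, Function.Injective ρ := by
  let e : ι ≃ Fin 8 := Fintype.equivFinOfCardEq hι
  let r : Matrix.GeneralLinearGroup ι F ≃* Matrix.GeneralLinearGroup (Fin 8) F :=
    Units.mapEquiv (Matrix.reindexAlgEquiv F F e).toMulEquiv
  refine ⟨r.toMonoidHom.comp ((Cfsg.isometryGroup F (⇑Q)).subtype.comp (Cfsg.Omega F (⇑Q)).subtype), ?_⟩
  exact r.injective.comp (Subtype.val_injective.comp Subtype.val_injective)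

/-- **BOX C** -/
theorem boxC_of [Finite F] (hC1 : BoxC1 Q) (hC2 : BoxC2 F) (hN : BoxN Q) : BoxC Q := by
  intro H hH hT
  have hfin : Finite (Cfsg.Omega F (⇑Q)) := inferInstance
  have hq := hH.q8
  obtain ⟨E, hF⟩ := hq.frame
  set Z := Subgroup.center (Cfsg.Omega F (⇑Q)) with hZ
  have hZ2 : Nat.card Z = 2 := H473.D4.card_center (H473.D4.q7 hq) hF
  have hX := card_of_ker hH.cen
  rw [hZ2] at hX
  have hC := hC1 H hH hT
  set X := H.map (QuotientGroup.mk' Z) with hXdef
  obtain ⟨T, hTn, hTs, hTc, hTz⟩ := hC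
  obtain ⟨a, b, ha, hb, h2, h3, -⟩ := hN
  have hci := H.card_mul_index
  have hX0 : Nat.card X ≠ 0 := Nat.card_pos.ne'
  have hi0 : H.index ≠ 0 := H.index_ne_zero_of_finite
  have hi2 : H.index.factorization 2 = 0 := by
    refine Nat.factorization_eq_zero_of_not_dvd fun hd => ?_
    exact Nat.not_coprime_of_dvd_of_dvd (by norm_num) hH.two hd hH.hall
  have hi3 : H.index.factorization 3 = 0 := by
    refine Nat.factorization_eq_zero_of_not_dvd fun hd => ?_
    exact Nat.not_coprime_of_dvd_of_dvd (by norm_num) hH.three hd hH.hall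
  have hfac : Nat.card (Cfsg.Omega F (⇑Q)) = Nat.card X * 2 * H.index := by rw [← hci, hX]
  have e2 : (Nat.card X).factorization 2 = 4 * b := by
    rw [hfac, Nat.factorization_mul (mul_ne_zero hX0 two_ne_zero) hi0, Nat.factorization_mul hX0 two_ne_zero,
      Finsupp.add_apply, Finsupp.add_apply, hi2, Nat.prime_two.factorization_self] at h2
    omega
  have e3 : (Nat.card X).factorization 3 = 4 * a + 1 := by
    rw [hfac, Nat.factorization_mul (mul_ne_zero hX0 two_ne_zero) hi0, Nat.factorization_mul hX0 two_ne_zero,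
      Finsupp.add_apply, Finsupp.add_apply, hi3, Nat.factorization_eq_zero_of_not_dvd (n := 2) (p := 3) (by norm_num)] at h3
    omega
  have hchar : (Nat.card X : F) ≠ 0 := by
    intro h0
    apply hH.char
    rw [hX, Nat.cast_mul, h0, zero_mul]
  obtain ⟨L, f, hfs, hfc, hfk⟩ := exists_cover (fun x hx y => (Subgroup.mem_center_iff.1 hx y).symm) X T
  obtain ⟨ρ, hρ⟩ := exists_gl8 (Q := Q) hq.dim
  obtain ⟨e⟩ := hC2 X T hTn hTs hTc hTz hchar ⟨b, hb, e2⟩ ⟨a, ha, e3⟩
    ⟨L, inferInstance, f, ρ.comp L.subtype, hfs, hfc, hfk.trans hZ2, hρ.comp L.subtype_injective⟩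
  refine ⟨⟨e⟩, ?_⟩
  have hcX : Nat.card X = 174182400 := (Nat.card_congr e.toEquiv).trans card_POmega82
  intro h14
  have h5 : 14 ≤ (Nat.card (Cfsg.Omega F (⇑Q))).factorization 2 :=
    (Nat.prime_two.pow_dvd_iff_le_factorization (by rw [hfac]; exact mul_ne_zero (mul_ne_zero hX0 two_ne_zero) hi0)).1 h14
  rw [h2, ← e2] at h5
  have h6 : 2 ^ 13 ∣ Nat.card X := by
    rw [Nat.prime_two.pow_dvd_iff_le_factorization hX0]
    omega
  rw [hcX] at h6
  revert h6
  norm_num

end Cfsg.Agent.H561.D4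
end

-- part: H561/D4/Row
section
/-!
# S4311, the row `PΩ₈⁺(q)` from the boxes (helper561)
-/

set_option autoImplicit false
set_option linter.unusedSectionVars false

namespace Cfsg.Agent.H561.D4

open Module QuadraticMap Cfsg.Agent.H167.OP Cfsg.Agent.H170.HL Cfsg.Agent.H170.HL.OmRow Cfsg.Agent.H556.Om
open Cfsg Subgroup Cfsg.Agent.H485.RV Cfsg.Agent.H561.RV
open scoped Pointwise

/-! ### transport of the row -/

section transport

variable {S T : Type*} [Group S] [Group T]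

theorem isPiHall_map_equiv {π : Set ℕ} (e : S ≃* T) {H : Subgroup S} (h : IsPiHall π H) :
    IsPiHall π (H.map e.toMonoidHom) := by
  have h1 : Nat.card (H.map e.toMonoidHom : Subgroup T) = Nat.card H := Nat.card_congr (e.subgroupMap H).toEquiv.symm
  have h2 : (H.map e.toMonoidHom).index = H.index := index_map_of_bijective e.bijective H
  exact ⟨fun p hp hd => h.1 p hp (h1 ▸ hd), fun p hp hpi hd => h.2 p hp hpi (h2 ▸ hd)⟩

theorem fixC_map_equiv (e : S ≃* T) {φ : MulAut S} {H : Subgroup S} (h : FixC φ H) :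
    FixC (MulAut.congr e φ) (H.map e.toMonoidHom) := by
  obtain ⟨s, hs⟩ := h
  refine ⟨e s, ?_⟩
  have h1 : ∀ ψ : MulAut S, (H.map e.toMonoidHom).map (MulAut.congr e ψ : T ≃* T).toMonoidHom =
      (H.map (ψ : S ≃* S).toMonoidHom).map e.toMonoidHom := by
    intro ψ
    rw [Subgroup.map_map, Subgroup.map_map]
    congr 1
    ext x
    show e (ψ (e.symm (e x))) = e (ψ x)
    rw [e.symm_apply_apply]
  have h2 : (MulAut.conj (e s) : MulAut T) = MulAut.congr e (MulAut.conj s) := by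
    ext x
    show e s * x * (e s)⁻¹ = e (s * e.symm x * s⁻¹)
    rw [map_mul, map_mul, map_inv, e.apply_symm_apply]
  rw [h1, hs, h2, h1]

/-- **`SRow` is invariant under isomorphisms** -/
theorem srow_of_equiv {π : Set ℕ} (e : S ≃* T) (h : SRow π T) : SRow π S := by
  intro X hX
  obtain ⟨K, hK, hKX⟩ := h (X.map (MulAut.congr e).toMonoidHom) (by
    intro r hr R hR hRr
    have hle : R.comap (MulAut.congr e).toMonoidHom ≤ X := by
      intro φ hφ
      obtain ⟨ψ, hψ, he⟩ := hR hφ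
      have : ψ = φ := (MulAut.congr e).injective he
      exact this ▸ hψ
    obtain ⟨H, hH, hHR⟩ := hX r hr (R.comap (MulAut.congr e).toMonoidHom) hle
      (hRr.comap_of_injective _ (MulAut.congr e).injective)
    refine ⟨_, isPiHall_map_equiv e hH, fun φ hφ => ?_⟩
    obtain ⟨ψ, rfl⟩ := (MulAut.congr e).surjective φ
    exact fixC_map_equiv e (hHR ψ hφ))
  refine ⟨_, isPiHall_map_equiv e.symm hK, fun φ hφ => ?_⟩
  have h1 := fixC_map_equiv e.symm (hKX (MulAut.congr e φ) ⟨φ, hφ, rfl⟩)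
  have h2 : MulAut.congr e.symm (MulAut.congr e φ) = φ := by
    ext x
    show e.symm (e (φ (e.symm (e x)))) = φ x
    rw [e.symm_apply_apply, e.symm_apply_apply]
  rwa [h2] at h1

end transport

/-- the centre of `PΩ₈⁺(2)` is trivial -/
theorem center_POmega82 : Subgroup.center (Cfsg.POmega (ZMod 2) (Cfsg.quadFormPlus 4 (ZMod 2))) = ⊥ := by
  have hs : IsSimpleGroup (Cfsg.POmega (ZMod 2) (Cfsg.quadFormPlus 4 (ZMod 2))) := Cfsg.Agent.S0296.result 4 le_rfl
  rcases IsSimpleGroup.eq_bot_or_eq_top_of_normal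
    (Subgroup.center (Cfsg.POmega (ZMod 2) (Cfsg.quadFormPlus 4 (ZMod 2)))) inferInstance with h | h
  · exact h
  · exfalso
    let i : CommGroup (Cfsg.POmega (ZMod 2) (Cfsg.quadFormPlus 4 (ZMod 2))) :=
      { (inferInstance : Group (Cfsg.POmega (ZMod 2) (Cfsg.quadFormPlus 4 (ZMod 2)))) with
        mul_comm := fun a b => (Subgroup.mem_center_iff.1 (h ▸ Subgroup.mem_top b) a) }
    have h1 : (Nat.card (Cfsg.POmega (ZMod 2) (Cfsg.quadFormPlus 4 (ZMod 2)))).Prime := @IsSimpleGroup.prime_card _ i hs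
    rw [card_POmega82] at h1
    revert h1
    norm_num

theorem center_of_equiv {X Y : Type*} [Group X] [Group Y] (e : X ≃* Y) (h : Subgroup.center Y = ⊥) :
    Subgroup.center X = ⊥ := by
  rw [eq_bot_iff]
  intro x hx
  have h1 : e x ∈ Subgroup.center Y := by
    rw [Subgroup.mem_center_iff]
    intro y
    obtain ⟨z, rfl⟩ := e.surjective y
    rw [← map_mul, ← map_mul, Subgroup.mem_center_iff.1 hx z]
  rw [h, Subgroup.mem_bot] at h1
  rw [Subgroup.mem_bot]
  exact e.injective (h1.trans (map_one e).symm)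

section row

variable {F : Type} [Field F] [Finite F] {ι : Type} [Fintype ι] [DecidableEq ι] {Q : QuadraticForm F (ι → F)}
  {π : Set ℕ}

/-- **the row of `PΩ₈⁺(q)`** -/
theorem srow_of_boxes (hq : Q8 Q) (hN : BoxN Q) (hA : BoxA Q) (hB1 : BoxB1 Q) (hB2 : BoxB2 Q) (hC : BoxC Q)
    (hD : ¬ 2 ^ 14 ∣ Nat.card (Cfsg.Omega F (⇑Q)) → BoxD (Cfsg.POmega F (⇑Q)))
    (hD1 : ∀ (T : Type) [Group T] [Finite T], T ≃* Cfsg.POmega (ZMod 2) (Cfsg.quadFormPlus 4 (ZMod 2)) → BoxD1 T)
    {p : ℕ} [CharP F p] (hp : p.Prime) (hpπ : p ∉ π) (h2π : 2 ∈ π) (h3π : 3 ∈ π) : SRow π (Cfsg.POmega F (⇑Q)) := by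
  have hfin : Finite (Cfsg.Omega F (⇑Q)) := inferInstance
  let e : Cfsg.POmega F (⇑Q) ≃* Cfsg.POmega F (⇑Q) := MulEquiv.refl _
  by_cases hT : ∃ H : Subgroup (Cfsg.POmega F (⇑Q)), IsPiHall π H ∧ TwoN H
  · obtain ⟨H, hH, hT⟩ := hT
    exact fun X _ => ⟨H, hH, fun φ _ => fixC_of_twoN hA hB1 hB2 hq hN hp hpπ h2π h3π e hH hT φ⟩
  · push Not at hT
    apply srow_of_four
    by_cases hne : ∃ H : Subgroup (Cfsg.POmega F (⇑Q)), IsPiHall π H
    · obtain ⟨H₀, hH₀⟩ := hne
      have key : ∀ H : Subgroup (Cfsg.POmega F (⇑Q)), IsPiHall π H →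
          Nonempty (H ≃* Cfsg.POmega (ZMod 2) (Cfsg.quadFormPlus 4 (ZMod 2))) ∧
            ¬ 2 ^ 14 ∣ Nat.card (Cfsg.Omega F (⇑Q)) := by
        intro H hH
        obtain ⟨⟨f⟩, h14⟩ := hC _ (hd_of_hall hq hN hp hpπ h2π h3π e hH) (fun h => hT H hH (twoN_of_NTwo e h))
        refine ⟨⟨?_⟩, h14⟩
        have h1 : (H.comap (pr e)).map (QuotientGroup.mk' (Subgroup.center (Cfsg.Omega F (⇑Q)))) = H := by
          have h2 : pr e = QuotientGroup.mk' (Subgroup.center (Cfsg.Omega F (⇑Q))) := MonoidHom.ext fun _ => rfl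
          conv_lhs => rw [← h2]
          exact map_comap_eq_self_of_surjective (pr_surjective e) _
        exact (MulEquiv.subgroupCongr h1).symm.trans f
      obtain ⟨P, z, hz1, hzP, hZ, hN'⟩ := hD (key H₀ hH₀).2
      refine (ncard_cls_le h2π P).trans (ncard_le_four hz1 hzP hZ hN' ?_)
      rintro H ⟨hH, hPH⟩
      obtain ⟨f⟩ := (key H hH).1
      exact ⟨hPH, center_of_equiv f center_POmega82, hD1 H f⟩
    · have h1 : Cls π (Cfsg.POmega F (⇑Q)) = ∅ := by
        rw [Set.eq_empty_iff_forall_notMem]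
        rintro _ ⟨H, hH, -⟩
        exact hne ⟨H, hH⟩
      rw [h1, Set.ncard_empty]
      omega

end row

end Cfsg.Agent.H561.D4
end

-- part: H286/RV/Abs
section
/-!
# S4311, box D2: overgroups of index three of a `2`-group `P` in `P L₁L₂L₃L₄` (abstract part) (helper286)
-/

set_option autoImplicit false
set_option linter.unusedSectionVars false

namespace Cfsg.Agent.H286.RV

open Subgroup

universe u

variable {S : Type u} [Group S]

section tools

theorem mem_map_conj {H : Subgroup S} {g x : S} : x ∈ H.map (MulAut.conj g).toMonoidHom ↔ g⁻¹ * x * g ∈ H := by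
  constructor
  · rintro ⟨y, hy, rfl⟩
    have h1 : g⁻¹ * (MulAut.conj g).toMonoidHom y * g = y := by
      change g⁻¹ * (g * y * g⁻¹) * g = y
      group
    rw [h1]
    exact hy
  · intro h
    refine ⟨_, h, ?_⟩
    change g * (g⁻¹ * x * g) * g⁻¹ = x
    group

theorem conj_mem_map {H : Subgroup S} {g x : S} (hx : x ∈ H) : g * x * g⁻¹ ∈ H.map (MulAut.conj g).toMonoidHom :=
  ⟨x, hx, rfl⟩

theorem mem_sup_norm {H K : Subgroup S} (h : ∀ k ∈ K, ∀ x ∈ H, k * x * k⁻¹ ∈ H) {x : S} (hx : x ∈ H ⊔ K) :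
    ∃ a ∈ H, ∃ b ∈ K, a * b = x := by
  let R : Subgroup S :=
    { carrier := {y | ∃ a ∈ H, ∃ b ∈ K, a * b = y}
      one_mem' := ⟨1, one_mem _, 1, one_mem _, mul_one 1⟩
      mul_mem' := by
        rintro _ _ ⟨a, ha, b, hb, rfl⟩ ⟨a', ha', b', hb', rfl⟩
        refine ⟨a * (b * a' * b⁻¹), mul_mem ha (h b hb a' ha'), b * b', mul_mem hb hb', ?_⟩
        group
      inv_mem' := by
        rintro _ ⟨a, ha, b, hb, rfl⟩
        refine ⟨b⁻¹ * a⁻¹ * b, ?_, b⁻¹, inv_mem hb, ?_⟩
        · have := h b⁻¹ (inv_mem hb) a⁻¹ (inv_mem ha)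
          rwa [inv_inv] at this
        · group }
  have h1 : H ≤ R := fun a ha => ⟨a, ha, 1, one_mem _, mul_one a⟩
  have h2 : K ≤ R := fun b hb => ⟨1, one_mem _, b, hb, one_mul b⟩
  exact (sup_le h1 h2) hx

theorem mem_of_cube {H : Subgroup S} {x : S} {k : ℕ} (h3 : x ^ 3 ∈ H) (h2 : x ^ 2 ^ k = 1) : x ∈ H := by
  have h4 : orderOf x ∣ 2 ^ k := orderOf_dvd_of_pow_eq_one h2
  have h5 : Nat.Coprime 3 (orderOf x) := Nat.Coprime.coprime_dvd_right h4 (Nat.Coprime.pow_right _ (by norm_num))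
  obtain ⟨m, hm⟩ := exists_pow_eq_self_of_coprime h5
  rw [← hm]
  exact pow_mem h3 m

theorem pow_three_mem {B T : Subgroup S} (hn : ∀ t ∈ T, ∀ b ∈ B, t * b * t⁻¹ ∈ B) (hi : B.relIndex T ∣ 3) {x : S}
    (hx : x ∈ T) : x ^ 3 ∈ B := by
  have hN : (B.subgroupOf T).Normal := ⟨fun b hb t => by
    rw [mem_subgroupOf] at hb ⊢
    exact hn _ t.2 _ hb⟩
  have h1 : (⟨x, hx⟩ : T) ^ (B.subgroupOf T).index ∈ B.subgroupOf T := pow_index_mem _ _
  obtain ⟨c, hc⟩ := hi
  have h2 : (⟨x, hx⟩ : T) ^ 3 ∈ B.subgroupOf T := by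
    rw [hc, pow_mul]
    exact pow_mem h1 c
  exact mem_subgroupOf.1 h2

theorem exists_kappa {B T : Subgroup S} (hn : ∀ t ∈ T, ∀ b ∈ B, t * b * t⁻¹ ∈ B) (hi : B.relIndex T ∣ 3) :
    ∃ κ : S → ZMod 3, (∀ x ∈ T, ∀ y ∈ T, κ (x * y) = κ x + κ y) ∧ ∀ x ∈ T, κ x = 0 ↔ x ∈ B := by
  rcases (Nat.dvd_prime Nat.prime_three).1 hi with h1 | h3
  · exact ⟨fun _ => 0, fun _ _ _ _ => (add_zero 0).symm, fun x hx => ⟨fun _ => (relIndex_eq_one.1 h1) hx, fun _ => rfl⟩⟩
  · have hN : (B.subgroupOf T).Normal := ⟨fun b hb t => by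
      rw [mem_subgroupOf] at hb ⊢
      exact hn _ t.2 _ hb⟩
    have hcard : Nat.card (T ⧸ B.subgroupOf T) = 3 := h3
    have hp : Fact (Nat.Prime 3) := ⟨Nat.prime_three⟩
    have e : (T ⧸ B.subgroupOf T) ≃* Multiplicative (ZMod 3) := mulEquivOfPrimeCardEq (p := 3) hcard (by
      rw [Nat.card_eq_fintype_card, Fintype.card_multiplicative, ZMod.card])
    classical
    refine ⟨fun x => if hx : x ∈ T then (e (QuotientGroup.mk (⟨x, hx⟩ : T))).toAdd else 0, ?_, ?_⟩
    · intro x hx y hy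
      dsimp only
      rw [dif_pos (mul_mem hx hy), dif_pos hx, dif_pos hy, ← toAdd_mul, ← map_mul]
      rfl
    · intro x hx
      dsimp only
      rw [dif_pos hx]
      constructor
      · intro h
        have h4 : e (QuotientGroup.mk (⟨x, hx⟩ : T)) = 1 := h
        rw [map_eq_one_iff e e.injective, QuotientGroup.eq_one_iff, mem_subgroupOf] at h4
        exact h4
      · intro h
        have h4 : (QuotientGroup.mk (⟨x, hx⟩ : T) : T ⧸ B.subgroupOf T) = 1 :=
          (QuotientGroup.eq_one_iff _).2 (mem_subgroupOf.2 h)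
        rw [h4, map_one]
        rfl

/-- a group with a subgroup of index at most four is generated by this subgroup and two elements -/
theorem exists_two [Finite S] {P₁ P : Subgroup S} (hle : P₁ ≤ P) (hi : P₁.relIndex P ≤ 4) :
    ∃ a ∈ P, ∃ b ∈ P, ∀ K : Subgroup S, P₁ ≤ K → a ∈ K → b ∈ K → K ≤ P → P ≤ K := by
  have hpos : ∀ A B : Subgroup S, 0 < A.relIndex B := fun A B =>
    Nat.pos_of_ne_zero (index_ne_zero_of_finite (H := A.subgroupOf B))
  have hne : ∀ (A B : Subgroup S) (x : S), x ∈ B → x ∉ A → 2 ≤ A.relIndex B := by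
    intro A B x hx hxA
    have h1 := hpos A B
    have h2 : A.relIndex B ≠ 1 := fun h => hxA ((relIndex_eq_one.1 h) hx)
    omega
  by_cases h0 : P ≤ P₁
  · exact ⟨1, one_mem _, 1, one_mem _, fun K hK _ _ _ => h0.trans hK⟩
  obtain ⟨a, haP, ha⟩ := SetLike.not_le_iff_exists.1 h0
  set A := P₁ ⊔ zpowers a with hA
  have hAP : A ≤ P := sup_le hle (zpowers_le.2 haP)
  have haA : a ∈ A := (le_sup_right : zpowers a ≤ A) (mem_zpowers a)
  have h1 := relIndex_mul_relIndex P₁ A P le_sup_left hAP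
  have h2 := hne P₁ A a haA ha
  have h3 : A.relIndex P ≤ 2 := by
    by_contra hcon
    have : 2 * 3 ≤ P₁.relIndex A * A.relIndex P := Nat.mul_le_mul h2 (by omega)
    omega
  by_cases h4 : P ≤ A
  · exact ⟨a, haP, 1, one_mem _, fun K hK haK _ _ => h4.trans (sup_le hK (zpowers_le.2 haK))⟩
  obtain ⟨b, hbP, hb⟩ := SetLike.not_le_iff_exists.1 h4
  set C := A ⊔ zpowers b with hC
  have hCP : C ≤ P := sup_le hAP (zpowers_le.2 hbP)
  have hbC : b ∈ C := (le_sup_right : zpowers b ≤ C) (mem_zpowers b)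
  have h5 := relIndex_mul_relIndex A C P le_sup_left hCP
  have h6 := hne A C b hbC hb
  have h7 : C.relIndex P = 1 := by
    have h8 := hpos C P
    by_contra hcon
    have : 2 * 2 ≤ A.relIndex C * C.relIndex P := Nat.mul_le_mul h6 (by omega)
    omega
  refine ⟨a, haP, b, hbP, fun K hK haK hbK _ => (relIndex_eq_one.1 h7).trans ?_⟩
  exact sup_le (sup_le hK (zpowers_le.2 haK)) (zpowers_le.2 hbK)

end tools

/-- the hypotheses -/
structure HH (P : Subgroup S) (L : Fin 4 → Subgroup S) : Prop where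
  comm : ∀ i j, i ≠ j → ∀ x ∈ L i, ∀ y ∈ L j, x * y = y * x
  inj : Function.Injective L
  perm : ∀ g ∈ P, ∀ i, ∃ j, (L i).map (MulAut.conj g).toMonoidHom = L j
  trans : ∀ i, ∃ g ∈ P, (L 0).map (MulAut.conj g).toMonoidHom = L i
  three : ∀ i, (P ⊓ L i).relIndex (normalizer ((P ⊓ L i : Subgroup S) : Set S) ⊓ L i) ∣ 3
  disj : ∀ i, ∀ x ∈ L i, x ∈ ⨆ j : {j // j ≠ i}, L j.1 → ∃ k, x ^ 2 ^ k = 1
  inter : ∀ x ∈ P, x ∈ ⨆ i, L i → x ∈ ⨆ i, P ⊓ L i

/-- the other factors -/
def Lo (L : Fin 4 → Subgroup S) (i : Fin 4) : Subgroup S := ⨆ j : {j // j ≠ i}, L j.1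

/-- `Q_i L'_i` -/
def BB (P : Subgroup S) (L : Fin 4 → Subgroup S) (i : Fin 4) : Subgroup S := (P ⊓ L i) ⊔ Lo L i

/-- the overgroups -/
def MM (P : Subgroup S) (L : Fin 4 → Subgroup S) : Set (Subgroup S) :=
  {M | P ≤ M ∧ P.relIndex M = 3 ∧ M ≤ P ⊔ ⨆ i, L i}

namespace HH

variable {P : Subgroup S} {L : Fin 4 → Subgroup S} (h : HH P L)

include h

theorem le_Lo {i j : Fin 4} (hij : j ≠ i) : L j ≤ Lo L i := le_iSup (fun j : {j // j ≠ i} => L j.1) ⟨j, hij⟩

theorem Lo_le {i : Fin 4} : Lo L i ≤ ⨆ j, L j := iSup_le fun j => le_iSup L j.1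

theorem comm' {i : Fin 4} {x y : S} (hx : x ∈ L i) (hy : y ∈ Lo L i) : x * y = y * x := by
  have h1 : Lo L i ≤ centralizer ({x} : Set S) := iSup_le fun j y hy => by
    rw [mem_centralizer_singleton_iff]
    exact (h.comm i j.1 (Ne.symm j.2) x hx y hy).symm
  exact (mem_centralizer_singleton_iff.1 (h1 hy)).symm

theorem sup_Lo (i : Fin 4) : ⨆ j, L j = L i ⊔ Lo L i := by
  apply le_antisymm
  · refine iSup_le fun j => ?_
    by_cases hj : j = i
    · rw [hj]; exact le_sup_left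
    · exact (h.le_Lo hj).trans le_sup_right
  · exact sup_le (le_iSup L i) h.Lo_le

theorem split {i : Fin 4} {x : S} (hx : x ∈ ⨆ j, L j) : ∃ a ∈ L i, ∃ b ∈ Lo L i, a * b = x := by
  rw [h.sup_Lo i] at hx
  refine mem_sup_norm (fun k hk x hx => ?_) hx
  rw [← h.comm' hx hk, mul_inv_cancel_right]
  exact hx

theorem split_B {i : Fin 4} {x : S} (hx : x ∈ BB P L i) : ∃ a ∈ P ⊓ L i, ∃ b ∈ Lo L i, a * b = x := by
  refine mem_sup_norm (fun k hk x hx => ?_) hx
  rw [← h.comm' hx.2 hk, mul_inv_cancel_right]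
  exact hx

theorem norm_L {i : Fin 4} {x y : S} (hx : x ∈ ⨆ j, L j) (hy : y ∈ L i) : x * y * x⁻¹ ∈ L i := by
  obtain ⟨a, ha, b, hb, rfl⟩ := h.split (i := i) hx
  have h1 : a * b * y * (a * b)⁻¹ = a * y * a⁻¹ := by
    rw [mul_assoc a b y, ← h.comm' hy hb]
    group
  rw [h1]
  exact mul_mem (mul_mem ha hy) (inv_mem ha)

/-- Lemma A -/
theorem lemA {i : Fin 4} {u : S} (hu : u ∈ L i) (hu' : u ∈ Lo L i) : u ∈ P := by
  obtain ⟨k, hk⟩ := h.disj i u hu hu'
  have hN : u ∈ normalizer ((P ⊓ L i : Subgroup S) : Set S) ⊓ L i := by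
    refine mem_inf.2 ⟨?_, hu⟩
    rw [mem_normalizer_iff]
    intro x
    have h1 : ∀ x ∈ L i, u * x * u⁻¹ = x := fun x hx => by rw [← h.comm' hx hu', mul_inv_cancel_right]
    constructor
    · intro hx
      rw [h1 x hx.2]
      exact hx
    · intro hx
      have h2 : x ∈ L i := by
        have := mul_mem (mul_mem (inv_mem hu) hx.2) hu
        have e : u⁻¹ * (u * x * u⁻¹) * u = x := by group
        rwa [e] at this
      rwa [h1 x h2] at hx
  have h3 : u ^ 3 ∈ P ⊓ L i := by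
    refine pow_three_mem (T := normalizer ((P ⊓ L i : Subgroup S) : Set S) ⊓ L i) ?_ (h.three i) hN
    intro t ht b hb
    exact (mem_normalizer_iff.1 ht.1 b).1 hb
  exact (mem_of_cube h3 hk).1

/-- Lemma A' -/
theorem lemA' {i : Fin 4} {y : S} (hy : y ∈ L i) (hy' : y ∈ BB P L i) : y ∈ P := by
  obtain ⟨q, hq, u, hu, rfl⟩ := h.split_B hy'
  have h1 : u ∈ L i := by
    have := mul_mem (inv_mem (mem_inf.1 hq).2) hy
    rwa [inv_mul_cancel_left] at this
  exact mul_mem (mem_inf.1 hq).1 (h.lemA h1 hu)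

theorem le_BB {i : Fin 4} : Lo L i ≤ BB P L i := le_sup_right

theorem Q_le_BB {i : Fin 4} : P ⊓ L i ≤ BB P L i := le_sup_left

/-- `J ≤ B_i` -/
theorem J_le {i : Fin 4} {x : S} (hx : x ∈ P) (hx' : x ∈ ⨆ j, L j) : x ∈ BB P L i := by
  have h1 : (⨆ j, P ⊓ L j) ≤ BB P L i := iSup_le fun j => by
    by_cases hj : j = i
    · rw [hj]; exact h.Q_le_BB
    · exact (inf_le_right.trans (h.le_Lo hj)).trans h.le_BB
  exact h1 (h.inter x hx hx')

theorem conj_mem {g : S} {i j : Fin 4} (hg : (L i).map (MulAut.conj g).toMonoidHom = L j) {x : S} (hx : x ∈ L i) :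
    g * x * g⁻¹ ∈ L j := by
  rw [← hg]
  exact conj_mem_map hx

theorem conj_B {g : S} (hgP : g ∈ P) {i j : Fin 4} (hg : (L i).map (MulAut.conj g).toMonoidHom = L j) {x : S}
    (hx : x ∈ BB P L i) : g * x * g⁻¹ ∈ BB P L j := by
  have h1 : BB P L i ≤ (BB P L j).comap (MulAut.conj g).toMonoidHom := by
    refine sup_le ?_ (iSup_le fun k => ?_)
    · intro y hy
      rw [mem_inf] at hy
      refine h.Q_le_BB (mem_inf.2 ⟨?_, h.conj_mem hg hy.2⟩)
      exact mul_mem (mul_mem hgP hy.1) (inv_mem hgP)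
    · intro y hy
      obtain ⟨l, hl⟩ := h.perm g hgP k.1
      have hlj : l ≠ j := by
        rintro rfl
        apply k.2
        apply h.inj
        exact Subgroup.map_injective (MulAut.conj g).injective (hl.trans hg.symm)
      exact h.le_BB (h.le_Lo hlj (h.conj_mem hl hy))
  exact h1 hx

theorem conj_LT {g : S} (hgP : g ∈ P) {x : S} (hx : x ∈ ⨆ j, L j) : g * x * g⁻¹ ∈ ⨆ j, L j := by
  have h1 : (⨆ j, L j) ≤ (⨆ j, L j).comap (MulAut.conj g).toMonoidHom := by
    refine iSup_le fun k y hy => ?_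
    obtain ⟨l, hl⟩ := h.perm g hgP k
    exact le_iSup L l (h.conj_mem hl hy)
  exact h1 hx

/-- F3 -/
theorem mem_P_of_all {w : S} (hw : w ∈ ⨆ j, L j) (hB : ∀ g ∈ P, g⁻¹ * w * g ∈ BB P L 0) : w ∈ P := by
  have hall : ∀ i, w ∈ BB P L i := by
    intro i
    obtain ⟨g, hgP, hg⟩ := h.trans i
    have h1 := h.conj_B hgP hg (hB g hgP)
    have h2 : g * (g⁻¹ * w * g) * g⁻¹ = w := by group
    rwa [h2] at h1
  have e1 : (⨆ j, L j) = L 0 ⊔ (L 1 ⊔ (L 2 ⊔ L 3)) := by
    apply le_antisymm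
    · refine iSup_le fun j => ?_
      fin_cases j
      · exact le_sup_left
      · exact le_sup_left.trans le_sup_right
      · exact (le_sup_left.trans le_sup_right).trans le_sup_right
      · exact (le_sup_right.trans le_sup_right).trans le_sup_right
    · exact sup_le (le_iSup L 0) (sup_le (le_iSup L 1) (sup_le (le_iSup L 2) (le_iSup L 3)))
  have hn : ∀ i j : Fin 4, i ≠ j → ∀ k ∈ L j, ∀ x ∈ L i, k * x * k⁻¹ ∈ L i := by
    intro i j hij k hk x hx
    rw [← h.comm i j hij x hx k hk, mul_inv_cancel_right]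
    exact hx
  have hn' : ∀ (i : Fin 4) (K : Subgroup S), K ≤ Lo L i → ∀ k ∈ K, ∀ x ∈ L i, k * x * k⁻¹ ∈ L i := by
    intro i K hK k hk x hx
    rw [← h.comm' hx (hK hk), mul_inv_cancel_right]
    exact hx
  rw [e1] at hw
  obtain ⟨l0, h0, x1, hx1, rfl⟩ := mem_sup_norm (hn' 0 _ (sup_le (h.le_Lo (by decide))
    (sup_le (h.le_Lo (by decide)) (h.le_Lo (by decide))))) hw
  obtain ⟨l1, h1, x2, hx2, rfl⟩ := mem_sup_norm (hn' 1 _ (sup_le (h.le_Lo (by decide)) (h.le_Lo (by decide)))) hx1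
  obtain ⟨l2, h2, l3, h3, rfl⟩ := mem_sup_norm (hn 2 3 (by decide)) hx2
  have m : ∀ i j : Fin 4, j ≠ i → ∀ x ∈ L j, x ∈ BB P L i := fun i j hij x hx => h.le_BB (h.le_Lo hij hx)
  have p0 : l0 ∈ P := by
    refine h.lemA' h0 ?_
    have := mul_mem (hall 0) (inv_mem (mul_mem (m 0 1 (by decide) _ h1) (mul_mem (m 0 2 (by decide) _ h2)
      (m 0 3 (by decide) _ h3))))
    rwa [mul_inv_cancel_right] at this
  have p1 : l1 ∈ P := by
    refine h.lemA' h1 ?_
    have := mul_mem (mul_mem (inv_mem (m 1 0 (by decide) _ h0)) (hall 1)) (inv_mem (mul_mem (m 1 2 (by decide) _ h2)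
      (m 1 3 (by decide) _ h3)))
    rwa [inv_mul_cancel_left, mul_inv_cancel_right] at this
  have p2 : l2 ∈ P := by
    refine h.lemA' h2 ?_
    have := mul_mem (mul_mem (inv_mem (m 2 1 (by decide) _ h1)) (mul_mem (inv_mem (m 2 0 (by decide) _ h0)) (hall 2)))
      (inv_mem (m 2 3 (by decide) _ h3))
    rwa [inv_mul_cancel_left, inv_mul_cancel_left, mul_inv_cancel_right] at this
  have p3 : l3 ∈ P := by
    refine h.lemA' h3 ?_
    have := mul_mem (inv_mem (m 3 2 (by decide) _ h2)) (mul_mem (inv_mem (m 3 1 (by decide) _ h1))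
      (mul_mem (inv_mem (m 3 0 (by decide) _ h0)) (hall 3)))
    rwa [inv_mul_cancel_left, inv_mul_cancel_left, inv_mul_cancel_left] at this
  exact mul_mem p0 (mul_mem p1 (mul_mem p2 p3))

/-- `N_0 L'_0` -/
def TT (P : Subgroup S) (L : Fin 4 → Subgroup S) : Subgroup S :=
  (normalizer ((P ⊓ L 0 : Subgroup S) : Set S) ⊓ L 0) ⊔ Lo L 0

theorem mem_TT {x : S} : x ∈ TT P L ↔ ∃ n ∈ normalizer ((P ⊓ L 0 : Subgroup S) : Set S) ⊓ L 0, ∃ l ∈ Lo L 0, n * l = x := by
  constructor
  · intro hx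
    refine mem_sup_norm (fun k hk x hx => ?_) hx
    rw [← h.comm' (mem_inf.1 hx).2 hk, mul_inv_cancel_right]
    exact hx
  · rintro ⟨n, hn, l, hl, rfl⟩
    exact mul_mem ((le_sup_left : _ ≤ TT P L) hn) ((le_sup_right : _ ≤ TT P L) hl)

/-- the character -/
theorem exists_chi : ∃ κ : S → ZMod 3, (∀ x ∈ TT P L, ∀ y ∈ TT P L, κ (x * y) = κ x + κ y) ∧
    ∀ x ∈ TT P L, κ x = 0 ↔ x ∈ BB P L 0 := by
  obtain ⟨κ, hκ1, hκ2⟩ := exists_kappa (B := P ⊓ L 0) (T := normalizer ((P ⊓ L 0 : Subgroup S) : Set S) ⊓ L 0)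
    (fun t ht b hb => (mem_normalizer_iff.1 (mem_inf.1 ht).1 b).1 hb) (h.three 0)
  have hex : ∀ x ∈ TT P L, ∃ n, n ∈ normalizer ((P ⊓ L 0 : Subgroup S) : Set S) ⊓ L 0 ∧ n⁻¹ * x ∈ Lo L 0 := by
    intro x hx
    obtain ⟨n, hn, l, hl, rfl⟩ := h.mem_TT.1 hx
    exact ⟨n, hn, by rw [inv_mul_cancel_left]; exact hl⟩
  classical
  let ξ : S → ZMod 3 := fun x => if hx : x ∈ TT P L then κ (hex x hx).choose else 0
  have hξ : ∀ n ∈ normalizer ((P ⊓ L 0 : Subgroup S) : Set S) ⊓ L 0, ∀ l ∈ Lo L 0, ξ (n * l) = κ n := by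
    intro n hn l hl
    have hx : n * l ∈ TT P L := h.mem_TT.2 ⟨n, hn, l, hl, rfl⟩
    have e : ξ (n * l) = κ (hex _ hx).choose := dif_pos hx
    rw [e]
    obtain ⟨h1, h2⟩ := (hex _ hx).choose_spec
    set n' := (hex _ hx).choose
    have h3 : n'⁻¹ * n ∈ Lo L 0 := by
      have := mul_mem h2 (inv_mem hl)
      have e : n'⁻¹ * (n * l) * l⁻¹ = n'⁻¹ * n := by group
      rwa [e] at this
    have h4 : n'⁻¹ * n ∈ L 0 := mul_mem (inv_mem (mem_inf.1 h1).2) (mem_inf.1 hn).2
    have h5 : n'⁻¹ * n ∈ P ⊓ L 0 := mem_inf.2 ⟨h.lemA h4 h3, h4⟩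
    have h6 : n'⁻¹ * n ∈ normalizer ((P ⊓ L 0 : Subgroup S) : Set S) ⊓ L 0 := mul_mem (inv_mem h1) hn
    have h7 := (hκ2 _ h6).2 h5
    have h8 := hκ1 _ h1 _ h6
    rw [mul_inv_cancel_left, h7, add_zero] at h8
    exact h8.symm
  refine ⟨ξ, ?_, ?_⟩
  · intro x hx y hy
    obtain ⟨n, hn, l, hl, rfl⟩ := h.mem_TT.1 hx
    obtain ⟨n', hn', l', hl', rfl⟩ := h.mem_TT.1 hy
    have e : n * l * (n' * l') = n * n' * (l * l') := by
      rw [mul_assoc, ← mul_assoc l, ← h.comm' (mem_inf.1 hn').2 hl]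
      group
    rw [e, hξ _ (mul_mem hn hn') _ (mul_mem hl hl'), hξ _ hn _ hl, hξ _ hn' _ hl', hκ1 _ hn _ hn']
  · intro x hx
    obtain ⟨n, hn, l, hl, rfl⟩ := h.mem_TT.1 hx
    rw [hξ _ hn _ hl, hκ2 _ hn]
    constructor
    · intro h1
      exact mul_mem (h.Q_le_BB h1) (h.le_BB hl)
    · intro h1
      have h2 : n ∈ BB P L 0 := by
        have := mul_mem h1 (inv_mem (h.le_BB hl))
        rwa [mul_inv_cancel_right] at this
      exact mem_inf.2 ⟨h.lemA' (mem_inf.1 hn).2 h2, (mem_inf.1 hn).2⟩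

section overgroup

variable [Finite S] {M : Subgroup S} (hM : M ∈ MM P L)

include hM

theorem exists_v : ∃ v ∈ M, v ∈ (⨆ j, L j) ∧ v ∉ P := by
  by_contra hcon
  push Not at hcon
  have h1 : M ≤ P := by
    intro m hm
    have h2 := hM.2.2 hm
    rw [sup_comm] at h2
    obtain ⟨l, hl, x, hx, rfl⟩ := mem_sup_norm (fun k hk x hx => h.conj_LT hk hx) h2
    have h3 : l ∈ M := by
      have := mul_mem hm (inv_mem (hM.1 hx))
      rwa [mul_inv_cancel_right] at this
    exact mul_mem (hcon l h3 hl) hx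
  have h2 := relIndex_eq_one.2 h1
  rw [hM.2.1] at h2
  omega

/-- F4b -/
theorem le_of_J {K : Subgroup S} (hK : K ≤ M ⊓ ⨆ j, L j) (hJ : P ⊓ (⨆ j, L j) ≤ K) (hKP : ¬ K ≤ P) :
    M ⊓ (⨆ j, L j) ≤ K := by
  have h1 : (P ⊓ (⨆ j, L j)).relIndex (M ⊓ ⨆ j, L j) ≤ 3 := by
    have e : P ⊓ (⨆ j, L j) = P ⊓ (M ⊓ ⨆ j, L j) := by
      rw [← inf_assoc, inf_eq_left.2 hM.1]
    rw [e, inf_relIndex_right, ← hM.2.1]
    exact relIndex_le_of_le_right inf_le_left (by rw [hM.2.1]; norm_num)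
  have h2 := relIndex_mul_relIndex _ _ _ hJ hK
  have h3 : 2 ≤ (P ⊓ (⨆ j, L j)).relIndex K := by
    have h4 : (P ⊓ (⨆ j, L j)).relIndex K ≠ 0 := index_ne_zero_of_finite
    have h5 : (P ⊓ (⨆ j, L j)).relIndex K ≠ 1 := fun h6 => hKP ((relIndex_eq_one.1 h6).trans inf_le_left)
    omega
  have h4 : K.relIndex (M ⊓ ⨆ j, L j) ≠ 0 := index_ne_zero_of_finite
  have h5 : K.relIndex (M ⊓ ⨆ j, L j) = 1 := by
    by_contra hcon
    have : 2 * 2 ≤ (P ⊓ (⨆ j, L j)).relIndex K * K.relIndex (M ⊓ ⨆ j, L j) := Nat.mul_le_mul h3 (by omega)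
    omega
  exact relIndex_eq_one.1 h5

theorem conj_D {g d : S} (hg : g ∈ P) (hd : d ∈ M ⊓ ⨆ j, L j) : g * d * g⁻¹ ∈ M ⊓ ⨆ j, L j := by
  rw [mem_inf] at hd ⊢
  exact ⟨mul_mem (mul_mem (hM.1 hg) hd.1) (inv_mem (hM.1 hg)), h.conj_LT hg hd.2⟩

theorem conj_D' {g d : S} (hg : g ∈ P) (hd : d ∈ M ⊓ ⨆ j, L j) : g⁻¹ * d * g ∈ M ⊓ ⨆ j, L j := by
  have := h.conj_D hM (inv_mem hg) hd
  rwa [inv_inv] at this

/-- F5 -/
theorem inter_P {i : Fin 4} {y : S} (hy : y ∈ M ⊓ ⨆ j, L j) (hyi : y ∈ L i) : y ∈ P := by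
  by_contra hyP
  obtain ⟨j, hj⟩ : ∃ j : Fin 4, j ≠ i := by
    by_cases hi : i = 0
    · exact ⟨1, by rw [hi]; decide⟩
    · exact ⟨0, Ne.symm hi⟩
  -- an element of `P` moving `L i` to `L j`
  obtain ⟨g, hg, hgi⟩ := h.trans i
  obtain ⟨g', hg', hgj⟩ := h.trans j
  have h1 : g⁻¹ * y * g ∈ L 0 := mem_map_conj.1 (hgi ▸ hyi)
  have h2 : g' * (g⁻¹ * y * g) * g'⁻¹ ∈ L j := h.conj_mem hgj h1
  have h3 : g' * (g⁻¹ * y * g) * g'⁻¹ ∈ M ⊓ ⨆ j, L j := h.conj_D hM hg' (h.conj_D' hM hg hy)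
  have h4 : g' * (g⁻¹ * y * g) * g'⁻¹ ∉ P := by
    intro h5
    apply hyP
    have h6 := mul_mem (mul_mem (mul_mem hg (inv_mem hg')) h5) (mul_mem hg' (inv_mem hg))
    have e : g * g'⁻¹ * (g' * (g⁻¹ * y * g) * g'⁻¹) * (g' * g⁻¹) = y := by group
    rwa [e] at h6
  have h5 : M ⊓ (⨆ j, L j) ≤ (P ⊓ ⨆ j, L j) ⊔ ((M ⊓ ⨆ j, L j) ⊓ L j) := by
    refine h.le_of_J hM ?_ le_sup_left ?_
    · exact sup_le (inf_le_inf_right _ hM.1) inf_le_left
    · intro h6
      exact h4 (h6 ((le_sup_right : _ ≤ (P ⊓ ⨆ j, L j) ⊔ ((M ⊓ ⨆ j, L j) ⊓ L j)) (mem_inf.2 ⟨h3, h2⟩)))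
  have h6 : (P ⊓ ⨆ j, L j) ⊔ ((M ⊓ ⨆ j, L j) ⊓ L j) ≤ BB P L i := by
    refine sup_le ?_ ?_
    · intro x hx
      exact h.J_le (mem_inf.1 hx).1 (mem_inf.1 hx).2
    · exact inf_le_right.trans ((h.le_Lo hj).trans h.le_BB)
  exact hyP (h.lemA' hyi (h6 (h5 hy)))

/-- F6 -/
theorem D_le_TT {d : S} (hd : d ∈ M ⊓ ⨆ j, L j) : d ∈ TT P L := by
  obtain ⟨n, hn, l, hl, hnl⟩ := h.split (i := 0) (mem_inf.1 hd).2
  refine h.mem_TT.2 ⟨n, mem_inf.2 ⟨?_, hn⟩, l, hl, hnl⟩
  have hle : P ⊓ L 0 ≤ M ⊓ ⨆ j, L j := inf_le_inf hM.1 (le_iSup L 0)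
  have h1 : ∀ c ∈ M ⊓ ⨆ j, L j, ∀ x ∈ P ⊓ L 0, c * x * c⁻¹ ∈ P ⊓ L 0 := by
    intro c hc x hx
    have h2 : c * x * c⁻¹ ∈ L 0 := h.norm_L (mem_inf.1 hc).2 (mem_inf.1 hx).2
    have h3 : c * x * c⁻¹ ∈ M ⊓ ⨆ j, L j := mul_mem (mul_mem hc (hle hx)) (inv_mem hc)
    exact mem_inf.2 ⟨h.inter_P hM h3 h2, h2⟩
  have h2 : ∀ x ∈ L 0, n * x * n⁻¹ = d * x * d⁻¹ := by
    intro x hx
    rw [← hnl, mul_assoc n l x, ← h.comm' hx hl]
    group
  rw [mem_normalizer_iff]
  intro x
  constructor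
  · intro hx
    rw [h2 x hx.2]
    exact h1 d hd x hx
  · intro hx
    have h4 := h1 _ (inv_mem hd) _ hx
    rw [inv_inv] at h4
    have hx0 : x ∈ L 0 := by
      have := mul_mem (mul_mem (inv_mem hn) hx.2) hn
      have e : n⁻¹ * (n * x * n⁻¹) * n = x := by group
      rwa [e] at this
    have e : d⁻¹ * (n * x * n⁻¹) * d = x := by
      rw [h2 x hx0]
      group
    rwa [e] at h4

/-- F7 -/
theorem mem_P_of_B {d : S} (hd : d ∈ M ⊓ ⨆ j, L j) (hB : d ∈ BB P L 0) : d ∈ P := by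
  by_contra hdP
  have h1 : M ⊓ (⨆ j, L j) ≤ (M ⊓ ⨆ j, L j) ⊓ BB P L 0 := by
    refine h.le_of_J hM inf_le_left ?_ ?_
    · intro x hx
      rw [mem_inf] at hx
      exact mem_inf.2 ⟨mem_inf.2 ⟨hM.1 hx.1, hx.2⟩, h.J_le hx.1 hx.2⟩
    · intro h2
      exact hdP (h2 (mem_inf.2 ⟨hd, hB⟩))
  apply hdP
  refine h.mem_P_of_all (mem_inf.1 hd).2 fun g hg => ?_
  exact (mem_inf.1 (h1 (h.conj_D' hM hg hd))).2

end overgroup

/-- two overgroups with a common element of order three modulo `J` -/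
theorem eq_of [Finite S] {M M' : Subgroup S} (hM : M ∈ MM P L) (hM' : M' ∈ MM P L) {v v' : S} (hv : v ∈ M)
    (hvP : v ∉ P) (hv' : v' ∈ M') (hvv : v * v'⁻¹ ∈ P) : M ≤ M' := by
  have h1 : v ∈ M' := by
    have := mul_mem (hM'.1 hvv) hv'
    rwa [inv_mul_cancel_right] at this
  have h2 := relIndex_mul_relIndex P (M ⊓ M') M (le_inf hM.1 hM'.1) inf_le_left
  rw [hM.2.1] at h2
  have h3 : P.relIndex (M ⊓ M') ≠ 1 := fun h4 => hvP ((relIndex_eq_one.1 h4) (mem_inf.2 ⟨hv, h1⟩))
  have h4 : P.relIndex (M ⊓ M') ∣ 3 := ⟨_, h2.symm⟩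
  have h5 : P.relIndex (M ⊓ M') = 3 := ((Nat.dvd_prime Nat.prime_three).1 h4).resolve_left h3
  rw [h5] at h2
  have h6 : (M ⊓ M').relIndex M = 1 := by omega
  exact (relIndex_eq_one.1 h6).trans inf_le_right

theorem stab_index [Finite S] : (P ⊓ normalizer ((L 0 : Subgroup S) : Set S)).relIndex P ≤ 4 := by
  choose g hgP hg using h.trans
  have hsurj : Function.Surjective (fun i : Fin 4 =>
      (QuotientGroup.mk (⟨g i, hgP i⟩ : P) : P ⧸ (P ⊓ normalizer ((L 0 : Subgroup S) : Set S)).subgroupOf P)) := by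
    intro x
    obtain ⟨⟨x, hx⟩, rfl⟩ := QuotientGroup.mk_surjective x
    obtain ⟨j, hj⟩ := h.perm x hx 0
    refine ⟨j, QuotientGroup.eq.2 ?_⟩
    rw [mem_subgroupOf, mem_inf]
    change (g j)⁻¹ * x ∈ P ∧ (g j)⁻¹ * x ∈ normalizer ((L 0 : Subgroup S) : Set S)
    refine ⟨mul_mem (inv_mem (hgP j)) hx, ?_⟩
    have e : ∀ y, (g j)⁻¹ * x * y * ((g j)⁻¹ * x)⁻¹ = (g j)⁻¹ * (x * y * x⁻¹) * g j := fun y => by group
    rw [mem_normalizer_iff]
    intro y
    change y ∈ L 0 ↔ (g j)⁻¹ * x * y * ((g j)⁻¹ * x)⁻¹ ∈ L 0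
    rw [e, ← mem_map_conj, hg j, ← hj, mem_map_conj]
    have e2 : x⁻¹ * (x * y * x⁻¹) * x = y := by group
    rw [e2]
  have h1 := Nat.card_le_card_of_surjective _ hsurj
  rw [Nat.card_eq_fintype_card (α := Fin 4), Fintype.card_fin] at h1
  exact h1

/-- **box D2** -/
theorem main [Finite S] : (MM P L).encard ≤ 4 := by
  obtain ⟨κ, hκ1, hκ2⟩ := h.exists_chi
  obtain ⟨a, ha, b, hb, hab⟩ := exists_two inf_le_left h.stab_index
  have hκ0 : κ 1 = 0 := (hκ2 1 (one_mem _)).2 (one_mem _)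
  have hκi : ∀ x ∈ TT P L, κ x⁻¹ = - κ x := by
    intro x hx
    have h1 := hκ1 x hx _ (inv_mem hx)
    rw [mul_inv_cancel, hκ0] at h1
    exact (neg_eq_of_add_eq_zero_right h1.symm).symm
  -- the difference
  have hdiff : ∀ x ∈ TT P L, ∀ y ∈ TT P L, κ x = κ y ↔ x * y⁻¹ ∈ BB P L 0 := by
    intro x hx y hy
    rw [← hκ2 _ (mul_mem hx (inv_mem hy)), hκ1 x hx _ (inv_mem hy), hκi y hy, ← sub_eq_add_neg, sub_eq_zero]
  have hnot : ∀ x, x ∈ (⨆ j, L j) → κ x ≠ 0 → x ∈ TT P L → x ∉ P := fun x hx h1 h2 h3 =>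
    h1 ((hκ2 x h2).2 (h.J_le h3 hx))
  -- the element `v`
  have hv : ∀ M ∈ MM P L, ∃ v, v ∈ M ⊓ (⨆ j, L j) ∧ κ v = 1 := by
    intro M hM
    obtain ⟨v, hv1, hv2, hv3⟩ := h.exists_v hM
    have hvD : v ∈ M ⊓ ⨆ j, L j := mem_inf.2 ⟨hv1, hv2⟩
    have hvT := h.D_le_TT hM hvD
    have h1 : κ v ≠ 0 := fun h2 => hv3 (h.mem_P_of_B hM hvD ((hκ2 v hvT).1 h2))
    have h2 : ∀ x : ZMod 3, x ≠ 0 → x = 1 ∨ -x = 1 := by decide
    rcases h2 _ h1 with h3 | h3
    · exact ⟨v, hvD, h3⟩
    · exact ⟨v⁻¹, inv_mem hvD, by rw [hκi v hvT, h3]⟩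
  have hne : ∀ M ∈ MM P L, ∀ v, v ∈ M ⊓ (⨆ j, L j) → κ v = 1 → ∀ g ∈ P, κ (g⁻¹ * v * g) ≠ 0 := by
    intro M hM v hv hκv g hg h1
    have h2 := h.conj_D' hM hg hv
    have h3 := h.mem_P_of_B hM h2 ((hκ2 _ (h.D_le_TT hM h2)).1 h1)
    have h4 : v ∈ P := by
      have := mul_mem (mul_mem hg h3) (inv_mem hg)
      have e : g * (g⁻¹ * v * g) * g⁻¹ = v := by group
      rwa [e] at this
    exact hnot v (mem_inf.1 hv).2 (by rw [hκv]; decide) (h.D_le_TT hM hv) h4
  have hM2 : ∀ M ∈ MM P L, ∀ d ∈ M ⊓ (⨆ j, L j), ∀ d' ∈ M ⊓ (⨆ j, L j), κ d = κ d' → ∀ g ∈ P,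
      κ (g⁻¹ * d * g) = κ (g⁻¹ * d' * g) := by
    intro M hM d hd d' hd' hdd g hg
    have h1 := (hdiff d (h.D_le_TT hM hd) d' (h.D_le_TT hM hd')).1 hdd
    have h2 : d * d'⁻¹ ∈ M ⊓ ⨆ j, L j := mul_mem hd (inv_mem hd')
    have h3 := h.mem_P_of_B hM h2 h1
    have h4 : g⁻¹ * (d * d'⁻¹) * g ∈ BB P L 0 :=
      h.J_le (mul_mem (mul_mem (inv_mem hg) h3) hg) (mem_inf.1 (h.conj_D' hM hg h2)).2
    rw [hdiff _ (h.D_le_TT hM (h.conj_D' hM hg hd)) _ (h.D_le_TT hM (h.conj_D' hM hg hd'))]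
    have e : g⁻¹ * d * g * (g⁻¹ * d' * g)⁻¹ = g⁻¹ * (d * d'⁻¹) * g := by group
    rw [e]
    exact h4
  have hM3 : ∀ M ∈ MM P L, ∀ v, v ∈ M ⊓ (⨆ j, L j) → κ v = 1 → ∀ g ∈ P, ∀ k ∈ P,
      κ ((g * k)⁻¹ * v * (g * k)) = κ (g⁻¹ * v * g) * κ (k⁻¹ * v * k) := by
    intro M hM v hv hκv g hg k hk
    have e : (g * k)⁻¹ * v * (g * k) = k⁻¹ * (g⁻¹ * v * g) * k := by group
    have h2 : ∀ x : ZMod 3, x ≠ 0 → x = 1 ∨ x = -1 := by decide
    rw [e]
    rcases h2 _ (hne M hM v hv hκv g hg) with h3 | h3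
    · rw [hM2 M hM _ (h.conj_D' hM hg hv) v hv (by rw [h3, hκv]) k hk, h3, one_mul]
    · have h4 : κ v⁻¹ = -1 := by rw [hκi v (h.D_le_TT hM hv), hκv]
      rw [hM2 M hM _ (h.conj_D' hM hg hv) v⁻¹ (inv_mem hv) (by rw [h3, h4]) k hk, h3]
      have e2 : k⁻¹ * v⁻¹ * k = (k⁻¹ * v * k)⁻¹ := by group
      rw [e2, hκi _ (h.D_le_TT hM (h.conj_D' hM hk hv)), neg_one_mul]
  classical
  let f : Subgroup S → ZMod 3 × ZMod 3 := fun M => if hM : M ∈ MM P L then
    (κ (a⁻¹ * (hv M hM).choose * a), κ (b⁻¹ * (hv M hM).choose * b)) else 0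
  have hmaps : Set.MapsTo f (MM P L) (({1, 2} ×ˢ {1, 2} : Finset (ZMod 3 × ZMod 3)) : Set (ZMod 3 × ZMod 3)) := by
    intro M hM
    have e : f M = (κ (a⁻¹ * (hv M hM).choose * a), κ (b⁻¹ * (hv M hM).choose * b)) := dif_pos hM
    rw [e]
    obtain ⟨h1, h2⟩ := (hv M hM).choose_spec
    have h3 := hne M hM _ h1 h2 a ha
    have h4 := hne M hM _ h1 h2 b hb
    have h5 : ∀ x : ZMod 3, x ≠ 0 → x = 1 ∨ x = 2 := by decide
    rw [Finset.mem_coe, Finset.mem_product]
    constructor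
    · rw [Finset.mem_insert, Finset.mem_singleton]
      exact h5 _ h3
    · rw [Finset.mem_insert, Finset.mem_singleton]
      exact h5 _ h4
  have hinj : Set.InjOn f (MM P L) := by
    intro M hM M' hM' hf
    have e : f M = (κ (a⁻¹ * (hv M hM).choose * a), κ (b⁻¹ * (hv M hM).choose * b)) := dif_pos hM
    have e' : f M' = (κ (a⁻¹ * (hv M' hM').choose * a), κ (b⁻¹ * (hv M' hM').choose * b)) := dif_pos hM'
    rw [e, e', Prod.mk.injEq] at hf
    obtain ⟨h1, h2⟩ := (hv M hM).choose_spec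
    obtain ⟨h1', h2'⟩ := (hv M' hM').choose_spec
    set v := (hv M hM).choose
    set v' := (hv M' hM').choose
    have hvT := h.D_le_TT hM h1
    have hvT' := h.D_le_TT hM' h1'
    let K : Subgroup S :=
      { carrier := {g | g ∈ P ∧ κ (g⁻¹ * v * g) = κ (g⁻¹ * v' * g)}
        one_mem' := ⟨one_mem _, by rw [inv_one, one_mul, one_mul, mul_one, mul_one, h2, h2']⟩
        mul_mem' := by
          rintro x y ⟨hx, hx'⟩ ⟨hy, hy'⟩
          refine ⟨mul_mem hx hy, ?_⟩
          rw [hM3 M hM v h1 h2 x hx y hy, hM3 M' hM' v' h1' h2' x hx y hy, hx', hy']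
        inv_mem' := by
          rintro x ⟨hx, hx'⟩
          refine ⟨inv_mem hx, ?_⟩
          have h3 := hM3 M hM v h1 h2 x⁻¹ (inv_mem hx) x hx
          have h4 := hM3 M' hM' v' h1' h2' x⁻¹ (inv_mem hx) x hx
          rw [inv_mul_cancel, inv_one, one_mul, mul_one] at h3 h4
          rw [h2] at h3
          rw [h2', ← hx'] at h4
          have h5 : ∀ x y z : ZMod 3, 1 = x * z → 1 = y * z → x = y := by decide
          exact h5 _ _ _ h3 h4 }
    have hPK : P ≤ K := by
      refine hab K ?_ ⟨ha, hf.1⟩ ⟨hb, hf.2⟩ fun x hx => hx.1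
      intro g hg
      rw [mem_inf] at hg
      refine ⟨hg.1, ?_⟩
      rw [hdiff _ (h.D_le_TT hM (h.conj_D' hM hg.1 h1)) _ (h.D_le_TT hM' (h.conj_D' hM' hg.1 h1'))]
      have e : g⁻¹ * v * g * (g⁻¹ * v' * g)⁻¹ = g⁻¹ * (v * v'⁻¹) * g⁻¹⁻¹ := by group
      rw [e]
      refine h.conj_B (inv_mem hg.1) (i := 0) ?_ ((hdiff v hvT v' hvT').1 (by rw [h2, h2']))
      ext x
      rw [mem_map_conj, inv_inv]
      exact ((mem_normalizer_iff.1 hg.2) x).symm
    have hvv : v * v'⁻¹ ∈ P := by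
      refine h.mem_P_of_all (mul_mem (mem_inf.1 h1).2 (inv_mem (mem_inf.1 h1').2)) fun g hg => ?_
      have h3 := (hPK hg).2
      rw [hdiff _ (h.D_le_TT hM (h.conj_D' hM hg h1)) _ (h.D_le_TT hM' (h.conj_D' hM' hg h1'))] at h3
      have e : g⁻¹ * v * g * (g⁻¹ * v' * g)⁻¹ = g⁻¹ * (v * v'⁻¹) * g := by group
      rwa [e] at h3
    have hvP := hnot v (mem_inf.1 h1).2 (by rw [h2]; decide) hvT
    have hvP' := hnot v' (mem_inf.1 h1').2 (by rw [h2']; decide) hvT'
    refine le_antisymm (h.eq_of hM hM' (mem_inf.1 h1).1 hvP (mem_inf.1 h1').1 hvv) ?_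
    refine h.eq_of hM' hM (mem_inf.1 h1').1 hvP' (mem_inf.1 h1).1 ?_
    have := inv_mem hvv
    rwa [mul_inv_rev, inv_inv] at this
  refine (Set.encard_le_encard_of_injOn hmaps hinj).trans ?_
  rw [Set.encard_coe_eq_coe_finsetCard]
  decide

end HH

end Cfsg.Agent.H286.RV
end

-- part: H286/RV/BoxD2
section
/-!
# S4311, box D2 (helper286, task 5646)
-/

set_option autoImplicit false

namespace Cfsg.Agent.H286.RV

universe u

/-- **BOX D2** -/
theorem boxD2 {S : Type u} [Group S] [Finite S] : Cfsg.Agent.H561.D4.BoxD2 S := fun _ _ h =>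
  HH.main ⟨h.comm, h.inj, h.perm, h.trans, h.three, h.disj, h.inter⟩

end Cfsg.Agent.H286.RV
end

-- part: H583/D4/Par
section
/-!
# The minimal parabolic subgroups of `PΩ₈⁺(2)` (helper583, task 5645)

* `exists_par_of_rgd` : a root group datum with trivial torus and simple root groups of order `q`: every Sylow
  `p`-subgroup has `|I|` different overgroups of index `q + 1` generating the group;
* `tor_eq_bot` : the torus of `PΩ⁺_{2m}(2)` is trivial;
* `exists_par` : the case `PΩ⁺_{2(n+2)}(2)`.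
-/

set_option autoImplicit false
set_option linter.unusedSectionVars false

namespace Cfsg.Agent.H583.D4

open CoxeterSystem Cfsg.Agent.ChevalleyStructure.CoxeterGeom Cfsg.Agent.Tits.Roots
open Cfsg.Agent.Nodes Cfsg.Agent.Nodes.Comb Cfsg.Agent.Nodes.Reps Cfsg.Agent.Nodes.BNOf
open Cfsg.Agent.Nodes.StabComb Cfsg.Agent.Nodes.Bruhat Cfsg.Agent.Nodes.LeviDec Cfsg.Agent.H554.RG

theorem exists_par_of_rgd {I W S : Type*} [Fintype I] [DecidableEq I] [Group W] [Group S] [Finite W] [Finite S]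
    {M : CoxeterMatrix I} {cs : CoxeterSystem M W} {A : I → I → ℤ} {h : IsCartan M A} {p : ℕ} [Fact p.Prime]
    {n : I → S} {X : (I → ℤ) → Subgroup S} (R : RGD cs h p ⊥ n X) (hGG : GG cs h ⊥ X = ⊤) [Nonempty I] {q : ℕ}
    (hX : ∀ i, Nat.card (X (sr i)) = q) (P : Sylow p S) :
    ∃ N : I → Subgroup S, Function.Injective N ∧ (∀ i, (P : Subgroup S) ≤ N i) ∧
      (∀ i, (P : Subgroup S).relIndex (N i) = q + 1) ∧ ⨆ i, N i = ⊤ := by
  obtain ⟨Q, hQ⟩ := exists_sylow R hGG
  have hB : RGD.B cs h ⊥ X = (Q : Subgroup S) := by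
    rw [hQ]
    exact bot_sup_eq _
  obtain ⟨g, rfl⟩ := MulAction.exists_smul_eq S Q P
  have hinj := (MulAut.conj g).injective
  let N : I → Subgroup S := fun i => PJ cs h ⊥ X {i}
  have hle : ∀ i, (Q : Subgroup S) ≤ N i := fun i => by rw [← hB]; exact B_le_PJ
  have htop : ⨆ i, N i = ⊤ := by
    have h1 : RGD.B cs h ⊥ X ≤ ⨆ i, N i :=
      le_trans (by rw [hB]; exact hle (Classical.arbitrary I)) (le_iSup N (Classical.arbitrary I))
    have h2 := eq_PJ R hGG h1
    rw [h2, PJ_eq_top_iff R hGG, Set.eq_univ_iff_forall]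
    intro i
    exact le_iSup N i ((n_mem_PJ_iff R).2 rfl)
  refine ⟨fun i => (N i).map (MulAut.conj g).toMonoidHom, ?_, ?_, ?_, ?_⟩
  · intro i j hij
    have h1 : N i = N j := Subgroup.map_injective hinj hij
    have h2 := PJ_injective R h1
    exact Set.singleton_injective h2
  · intro i
    rw [Sylow.coe_subgroup_smul]
    exact Subgroup.map_mono (hle i)
  · intro i
    rw [Sylow.coe_subgroup_smul]
    change ((Q : Subgroup S).map (MulAut.conj g).toMonoidHom).relIndex ((N i).map (MulAut.conj g).toMonoidHom) = q + 1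
    rw [Subgroup.relIndex_map_map_of_injective _ _ hinj, ← hB, relIndex_B_PJ_singleton R i, hX]
  · rw [← Subgroup.map_iSup, htop, Subgroup.map_top_of_surjective _ (MulAut.conj g).surjective]

theorem exists_par_congr {I : Type*} {S : Type*} {S' : Type*} [Group S] [Group S'] [Finite S'] {p q : ℕ} [Fact p.Prime] (e : S' ≃* S)
    (hS : ∀ P : Sylow p S, ∃ N : I → Subgroup S, Function.Injective N ∧ (∀ i, (P : Subgroup S) ≤ N i) ∧
      (∀ i, (P : Subgroup S).relIndex (N i) = q) ∧ ⨆ i, N i = ⊤) (P : Sylow p S') :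
    ∃ N : I → Subgroup S', Function.Injective N ∧ (∀ i, (P : Subgroup S') ≤ N i) ∧
      (∀ i, (P : Subgroup S').relIndex (N i) = q) ∧ ⨆ i, N i = ⊤ := by
  obtain ⟨N, h1, h2, h3, h4⟩ := hS (P.mapSurjective (f := e.toMonoidHom) e.surjective)
  have hP : (P : Subgroup S') = ((P.mapSurjective (f := e.toMonoidHom) e.surjective : Sylow p S) :
      Subgroup S).map e.symm.toMonoidHom := by
    change (P : Subgroup S') = ((P : Subgroup S').map e.toMonoidHom).map e.symm.toMonoidHom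
    rw [Subgroup.map_map]
    have : e.symm.toMonoidHom.comp e.toMonoidHom = MonoidHom.id S' := by
      ext x
      exact e.symm_apply_apply x
    rw [this, Subgroup.map_id]
  refine ⟨fun i => (N i).map e.symm.toMonoidHom, ?_, ?_, ?_, ?_⟩
  · intro i j hij
    exact h1 (Subgroup.map_injective e.symm.injective hij)
  · intro i
    rw [hP]
    exact Subgroup.map_mono (h2 i)
  · intro i
    rw [hP, Subgroup.relIndex_map_map_of_injective _ _ e.symm.injective, h3]
  · rw [← Subgroup.map_iSup, h4, Subgroup.map_top_of_surjective _ e.symm.surjective]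

open Cfsg.Agent.Nodes.TypeC (wt ng ng_ng ng_fst wt_ng wt_apply)
open Cfsg.Agent.Nodes.TypeD
open Cfsg.Agent.Nodes.RGDLib Cfsg.Agent.Nodes.WittInst Cfsg.Agent.Nodes.WittRoot
open Cfsg.Agent.KFacts.SLRow.OmegaPlus Cfsg.Agent.LieClassical.OrthForms
open Cfsg.Agent.TitsThree.KSideO Cfsg.Agent.TitsThree.StdData Cfsg.Agent.LieClassical.OrthSimple
  Cfsg.Agent.LieClassical.OrthFinite Cfsg.Agent.TitsThree.WBridge Cfsg.Agent.TitsThree.WittFrame
open Cfsg.Agent.Nodes.WittRGD (Tor mem_Tor)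
open Cfsg.Agent.LieClassical Cfsg.Agent.LieClassical.OrthCore Cfsg.Agent.LieClassical.OrthTrans

theorem eq_one_of_ne : ∀ l : ZMod 2, l ≠ 0 → l = 1 := by decide

theorem tor_eq_bot (m : ℕ) : Tor (toFrame (wplus m (ZMod 2))) (E (plusForm m (ZMod 2))) = ⊥ := by
  rw [eq_bot_iff]
  rintro g ⟨-, hg⟩
  rw [Subgroup.mem_bot]
  have h1 : ∀ x, g ((toFrame (wplus m (ZMod 2))).b x) = (toFrame (wplus m (ZMod 2))).b x := by
    intro x
    obtain ⟨l, hl, e⟩ := hg x
    have h2 : l = 1 := eq_one_of_ne l hl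
    rw [e, h2, one_smul]
    rfl
  apply LinearEquiv.toLinearMap_injective
  apply LinearMap.pi_ext'
  intro j
  apply LinearMap.ext_ring
  rcases j with j | j
  · exact h1 (j, true)
  · exact h1 (j, false)

seal _root_.Finset.sum _root_.dotProduct in
theorem exists_par (n : ℕ) (hn : 3 ≤ n + 2) (P : Sylow 2 (Cfsg.POmega (ZMod 2) (Cfsg.quadFormPlus (n + 2) (ZMod 2)))) :
    ∃ M : Fin (n + 2) → Subgroup (Cfsg.POmega (ZMod 2) (Cfsg.quadFormPlus (n + 2) (ZMod 2))),
      Function.Injective M ∧ (∀ i, (P : Subgroup _) ≤ M i) ∧ (∀ i, (P : Subgroup _).relIndex (M i) = 3) ∧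
      ⨆ i, M i = ⊤ := by
  revert P
  rw [← coe_plusForm]
  intro P
  have : Fact (Nat.Prime 2) := ⟨Nat.prime_two⟩
  have hG := good_plus (n + 2) (ZMod 2) hn
  let cs := (M n).toCoxeterSystem
  have : Finite (M n).Group := finite_W cs
  have R := rgdD_model (wplus (n + 2) (ZMod 2)) hG (amb_plus _) (adm_plus _) (p := 2) cs
  have hfin : Finite (Cfsg.POmega (ZMod 2) ⇑(plusForm (n + 2) (ZMod 2))) := inferInstance
  have hX := fun x hx => card_XD (wplus (n + 2) (ZMod 2)) hG cs (x := x) hx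
  have hT : ((Tor (toFrame (wplus (n + 2) (ZMod 2))) (E (plusForm (n + 2) (ZMod 2)))).subgroupOf
      (E (plusForm (n + 2) (ZMod 2)))).map (toPOmega hG) = ⊥ := by
    ((conv => enter [@2, @6, @3]; rw [tor_eq_bot]); (conv => enter [@2, @6]; rw [Subgroup.bot_subgroupOf]); (conv => enter [@2]; rw [Subgroup.map_bot]))
  ((conv at R => enter [@13]; rw [hT]))
  have hGG : GG cs (isCartan n) ⊥ (XD (wplus (n + 2) (ZMod 2)) (toPOmega hG)) = ⊤ := by
    (rewrite [eq_top_iff]; (conv => enter [@3]; rw [← G1D_eq_top (wplus (n + 2) (ZMod 2)) (toPOmega hG) (toPOmega_surjective hG) (adm_plus _) cs]))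
    exact RGD.Sup_le fun x hx => X_le_GG hx
  exact exists_par_of_rgd R hGG (q := 2) (fun i => by rw [hX _ (isRoot_sr cs _ _), Nat.card_zmod]) P

end Cfsg.Agent.H583.D4
end

-- part: H583/D4/BoxD1
section
/-!
# BOX D1 of S4311 (helper583, task 5645)
-/

set_option autoImplicit false

namespace Cfsg.Agent.H583.D4

universe u

theorem boxD1 {T : Type u} [Group T] [Finite T]
    (e : T ≃* Cfsg.POmega (ZMod 2) (Cfsg.quadFormPlus 4 (ZMod 2))) : Cfsg.Agent.H561.D4.BoxD1 T :=
  exists_par_congr e (exists_par 2 (by norm_num))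

end Cfsg.Agent.H583.D4
end

-- part: H551/D4/Plane
section
/-!
# S4311, the row `PΩ₈⁺(q)`: box B, the planes of a decomposition (helper551)

`exists_basis`: for `Dec Q U` there is a basis `b : Fin 4 × Fin 2 → V` with `U i = ⟨b (i,0), b (i,1)⟩` and a fixed
Gram matrix: `Q (b (i,k)) = 1`, `B(b (i,0), b (i,1)) = -1`, and zero between different planes.
-/

set_option autoImplicit false
set_option linter.unusedSectionVars false

namespace Cfsg.Agent.H551.D4

open Module QuadraticMap Cfsg.Agent.H167.OP Cfsg.Agent.H170.HL Cfsg.Agent.H170.HL.OmRow Cfsg.Agent.H556.Om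
open Cfsg Subgroup Cfsg.Agent.H561.D4

variable {F : Type} [Field F] {ι : Type} [Fintype ι] [DecidableEq ι] {Q : QuadraticForm F (ι → F)}

/-- the norm form of the cubic roots of unity is universal over a finite field -/
theorem exists_norm [Finite F] (h2 : (2 : F) ≠ 0) (h3 : (3 : F) ≠ 0) (c : F) :
    ∃ a b : F, a ^ 2 - a * b + b ^ 2 = c := by
  have := Fintype.ofFinite F
  have hodd : Fintype.card F % 2 = 1 := FiniteField.odd_card_of_char_ne_two (by
    intro h
    have : CharP F 2 := by rw [← h]; exact ringChar.charP F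
    exact h2 (by exact_mod_cast CharP.cast_eq_zero F 2))
  obtain ⟨s, t, hst⟩ := FiniteField.exists_root_sum_quadratic
    (f := (Polynomial.X ^ 2 - Polynomial.C c : Polynomial F)) (g := Polynomial.C (3 : F) * Polynomial.X ^ 2)
    (Polynomial.degree_X_pow_sub_C (by norm_num) c) (Polynomial.degree_C_mul_X_pow 2 h3) hodd
  refine ⟨s + t, 2 * t, ?_⟩
  simp only [Polynomial.eval_sub, Polynomial.eval_pow, Polynomial.eval_X, Polynomial.eval_C,
    Polynomial.eval_mul] at hst
  linear_combination hst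

theorem Q_rep (x : Cfsg.Omega F (⇑Q)) (v : ι → F) : Q (rep (inc (⇑Q)) x v) = Q v :=
  iso_apply (Q := ⇑Q) x.1 v

theorem B_rep (x : Cfsg.Omega F (⇑Q)) (u v : ι → F) :
    polarBilin Q (rep (inc (⇑Q)) x u) (rep (inc (⇑Q)) x v) = polarBilin Q u v :=
  polar_apply Q x.1 u v

theorem sum_zero {x : Cfsg.Omega F (⇑Q)} (hx : x ^ 3 = 1) {u : ι → F}
    (hu : u ∈ LinearMap.range (rep (inc (⇑Q)) x - 1)) :
    rep (inc (⇑Q)) x (rep (inc (⇑Q)) x u) = - u - rep (inc (⇑Q)) x u := by
  obtain ⟨t, rfl⟩ := hu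
  have h : rep (inc (⇑Q)) x (rep (inc (⇑Q)) x (rep (inc (⇑Q)) x t)) = t := by
    have h1 : rep (inc (⇑Q)) (x ^ 3) t = t := by rw [hx, map_one]; rfl
    rw [pow_succ, pow_succ, pow_one, map_mul, map_mul] at h1
    exact h1
  simp only [LinearMap.sub_apply, Module.End.one_apply, map_sub]
  rw [h]
  abel

theorem B_eq {x : Cfsg.Omega F (⇑Q)} (hx : x ^ 3 = 1) {u : ι → F}
    (hu : u ∈ LinearMap.range (rep (inc (⇑Q)) x - 1)) : polarBilin Q u (rep (inc (⇑Q)) x u) = - Q u := by
  have h1 := sum_zero hx hu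
  have h2 : Q (rep (inc (⇑Q)) x (rep (inc (⇑Q)) x u)) = Q u := by rw [Q_rep, Q_rep]
  rw [h1] at h2
  have h3 : - u - rep (inc (⇑Q)) x u = - (u + rep (inc (⇑Q)) x u) := by abel
  rw [h3, QuadraticMap.map_neg, QuadraticMap.map_add (⇑Q), Q_rep] at h2
  rw [polarBilin_apply_apply]
  linear_combination h2

theorem mem_rep {x : Cfsg.Omega F (⇑Q)} {u : ι → F}
    (hu : u ∈ LinearMap.range (rep (inc (⇑Q)) x - 1)) :
    rep (inc (⇑Q)) x u ∈ LinearMap.range (rep (inc (⇑Q)) x - 1) := by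
  obtain ⟨t, rfl⟩ := hu
  exact ⟨rep (inc (⇑Q)) x t, by simp only [_root_.LinearMap.sub_apply, _root_.Module.End.one_apply, _root_.map_sub]⟩

/-- the planes are not totally singular -/
theorem exists_ne [Finite F] (h : Q8 Q) {U : Fin 4 → Submodule F (ι → F)} (hU : Dec Q U) (i : Fin 4) :
    ∃ u ∈ U i, Q u ≠ 0 := by
  by_contra hc
  push Not at hc
  have h1 : ∀ u ∈ U i, u = 0 := by
    intro u hu
    apply h.gq.nd.1 u
    intro y
    have hy : y ∈ ⨆ j, U j := by rw [hU.top]; trivial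
    refine Submodule.iSup_induction U (motive := fun y => polarBilin Q u y = 0) hy ?_ ?_ ?_
    · intro j v hv
      by_cases hij : i = j
      · subst hij
        rw [polarBilin_apply_apply, polar, hc _ (Submodule.add_mem _ hu hv), hc _ hu, hc _ hv]
        simp
      · exact hU.orth i j hij u hu v hv
    · exact map_zero _
    · intro a b ha hb
      rw [map_add, ha, hb, add_zero]
  have h2 : U i = ⊥ := (Submodule.eq_bot_iff _).2 h1
  have h3 := hU.rank i
  rw [h2, finrank_bot] at h3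
  omega

/-- a vector of norm one -/
theorem exists_one [Finite F] (h : Q8 Q) {U : Fin 4 → Submodule F (ι → F)} (hU : Dec Q U) (i : Fin 4) :
    ∃ v w : ι → F, v ∈ U i ∧ w ∈ U i ∧ Q v = 1 ∧ Q w = 1 ∧ polarBilin Q v w = -1 := by
  obtain ⟨u, hu, hne⟩ := exists_ne h hU i
  obtain ⟨x, hx, -, hr⟩ := hU.typ i
  rw [← hr] at hu ⊢
  obtain ⟨a, b, hab⟩ := exists_norm h.two h.three (Q u)⁻¹
  have hm : a • u + b • rep (inc (⇑Q)) x u ∈ LinearMap.range (rep (inc (⇑Q)) x - 1) :=
    Submodule.add_mem _ (Submodule.smul_mem _ _ hu) (Submodule.smul_mem _ _ (mem_rep hu))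
  have hQ1 : Q (a • u + b • rep (inc (⇑Q)) x u) = 1 := by
    rw [QuadraticMap.map_add (⇑Q), QuadraticMap.map_smul, QuadraticMap.map_smul, QuadraticMap.polar_smul_left,
      QuadraticMap.polar_smul_right, Q_rep, ← polarBilin_apply_apply, B_eq hx hu]
    simp only [smul_eq_mul]
    have h1 : (a ^ 2 - a * b + b ^ 2) * Q u = 1 := by rw [hab, inv_mul_cancel₀ hne]
    linear_combination h1
  exact ⟨_, rep (inc (⇑Q)) x (a • u + b • rep (inc (⇑Q)) x u), hm, mem_rep hm, hQ1, by rw [Q_rep, hQ1],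
    by rw [B_eq hx hm, hQ1]⟩

/-- the standard Gram matrix of a decomposition -/
def gram (s t : Fin 4 × Fin 2) : F := if s.1 = t.1 then (if s.2 = t.2 then 2 else -1) else 0

/-- a basis adapted to the decomposition -/
structure Adapted (Q : QuadraticForm F (ι → F)) (U : Fin 4 → Submodule F (ι → F))
    (b : Basis (Fin 4 × Fin 2) F (ι → F)) : Prop where
  mem : ∀ i k, b (i, k) ∈ U i
  spn : ∀ i, U i = Submodule.span F {b (i, 0), b (i, 1)}
  gram : ∀ s t, polarBilin Q (b s) (b t) = gram s t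

theorem exists_basis [Finite F] (h : Q8 Q) {U : Fin 4 → Submodule F (ι → F)} (hU : Dec Q U) :
    ∃ b : Basis (Fin 4 × Fin 2) F (ι → F), Adapted Q U b := by
  choose v w hv hw hQv hQw hB using fun i => exists_one h hU i
  let e : Fin 4 × Fin 2 → ι → F := fun s => if s.2 = 0 then v s.1 else w s.1
  have he0 : ∀ i, e (i, 0) = v i := fun i => if_pos rfl
  have he1 : ∀ i, e (i, 1) = w i := fun i => if_neg (by simp)
  have hmem : ∀ i k, e (i, k) ∈ U i := by
    intro i k
    fin_cases k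
    · exact hv i
    · exact hw i
  have hgram : ∀ s t, polarBilin Q (e s) (e t) = D4.gram s t := by
    rintro ⟨i, k⟩ ⟨j, l⟩
    unfold D4.gram
    by_cases hij : i = j
    · subst hij
      rw [if_pos rfl]
      fin_cases k <;> fin_cases l
      · show polarBilin Q (v i) (v i) = _
        rw [Cfsg.Agent.H556.Om.polar_self, hQv]; simp
      · show polarBilin Q (v i) (w i) = _
        rw [hB]; simp
      · show polarBilin Q (w i) (v i) = _
        rw [polar_symm, hB]; simp
      · show polarBilin Q (w i) (w i) = _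
        rw [Cfsg.Agent.H556.Om.polar_self, hQw]; simp
    · rw [if_neg hij]
      exact hU.orth i j hij _ (hmem i k) _ (hmem j l)
  have hli : LinearIndependent F e := by
    rw [Fintype.linearIndependent_iff]
    intro g hg
    have key : ∀ i, 2 * g (i, 0) - g (i, 1) = 0 ∧ 2 * g (i, 1) - g (i, 0) = 0 := by
      intro i
      have h0 : polarBilin Q (∑ s, g s • e s) (e (i, 0)) = 0 := by rw [hg, map_zero]; rfl
      have h1 : polarBilin Q (∑ s, g s • e s) (e (i, 1)) = 0 := by rw [hg, map_zero]; rfl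
      rw [map_sum, LinearMap.sum_apply] at h0 h1
      simp only [map_smul, LinearMap.smul_apply, hgram, D4.gram, smul_eq_mul, Fintype.sum_prod_type,
        Fin.sum_univ_two] at h0 h1
      rw [Finset.sum_eq_single i] at h0 h1
      · simp only [_root_.Fin.isValue, ↓ _root_.reduceIte, _root_.one_ne_zero, _root_.mul_neg, _root_.mul_one, _root_.zero_ne_one] at h0 h1
        exact ⟨by linear_combination h0, by linear_combination h1⟩
      · intro j _ hj
        simp [hj]
      · intro hj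
        exact absurd (Finset.mem_univ i) hj
      · intro j _ hj
        simp [hj]
      · intro hj
        exact absurd (Finset.mem_univ i) hj
    rintro ⟨i, k⟩
    obtain ⟨h0, h1⟩ := key i
    fin_cases k
    · have : (3 : F) * g (i, 0) = 0 := by linear_combination 2 * h0 + h1
      exact (mul_eq_zero.1 this).resolve_left h.three
    · have : (3 : F) * g (i, 1) = 0 := by linear_combination h0 + 2 * h1
      exact (mul_eq_zero.1 this).resolve_left h.three
  have hcard : Fintype.card (Fin 4 × Fin 2) = finrank F (ι → F) := by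
    rw [Module.finrank_fintype_fun_eq_card, h.dim]; rfl
  let b : Basis (Fin 4 × Fin 2) F (ι → F) := basisOfLinearIndependentOfCardEqFinrank hli hcard
  have hb : ∀ s, b s = e s := fun s => by
    rw [coe_basisOfLinearIndependentOfCardEqFinrank]
  refine ⟨b, ?_, ?_, ?_⟩
  · intro i k
    rw [hb]; exact hmem i k
  · intro i
    rw [hb, hb]
    symm
    apply Submodule.eq_of_le_of_finrank_eq
    · rw [Submodule.span_le]
      rintro y (rfl | rfl)
      · exact hmem i 0
      · exact hmem i 1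
    · rw [hU.rank i]
      have h4 : LinearIndependent F ![e (i, 0), e (i, 1)] := by
        have := hli.comp (fun k : Fin 2 => (i, k)) (fun k l hkl => by simpa using hkl)
        convert this using 1
        funext k
        fin_cases k <;> rfl
      have h5 := finrank_span_eq_card h4
      rw [Matrix.range_cons, Matrix.range_cons, Matrix.range_empty, Set.union_empty] at h5
      have h6 : ({e (i, 0)} ∪ {e (i, 1)} : Set (ι → F)) = {e (i, 0), e (i, 1)} := rfl
      rw [h6] at h5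
      rw [h5]; rfl
  · intro s t
    rw [hb, hb]; exact hgram s t

end Cfsg.Agent.H551.D4
end

-- part: H551/D4/BoxB
section
/-!
# S4311, the row `PΩ₈⁺(q)`: box B (helper551)

`boxB1`: two decompositions are conjugate in `Ω`.  `boxB2`: the stabiliser of a decomposition is solvable.
-/

set_option autoImplicit false
set_option linter.unusedSectionVars false
set_option linter.style.haveILetI false

namespace Cfsg.Agent.H551.D4

open Module QuadraticMap Cfsg.Agent.H167.OP Cfsg.Agent.H170.HL Cfsg.Agent.H170.HL.OmRow Cfsg.Agent.H556.Om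
open Cfsg Subgroup Cfsg.Agent.H561.D4
open Cfsg.Agent.ClassicalGeometry.Reflection Cfsg.Agent.ClassicalGeometry.CartanDieudonne
open Cfsg.Agent.ClassicalGeometry.GenReflections
open scoped commutatorElement

variable {F : Type} [Field F] {ι : Type} [Fintype ι] [DecidableEq ι] {Q : QuadraticForm F (ι → F)}

/-! ### Conjugacy -/

/-- an isometry carrying one decomposition to the other -/
theorem exists_isom [Finite F] (h : Q8 Q) {U U' : Fin 4 → Submodule F (ι → F)} (hU : Dec Q U) (hU' : Dec Q U') :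
    ∃ g : Cfsg.isometryGroup F (⇑Q), ∀ i, (U i).map (rep (inc' (⇑Q)) g) = U' i := by
  obtain ⟨b, hb⟩ := exists_basis h hU
  obtain ⟨b', hb'⟩ := exists_basis h hU'
  let z : (ι → F) ≃ₗ[F] (ι → F) := b.equiv b' (Equiv.refl _)
  have hz : ∀ s, z (b s) = b' s := fun s => by simp [z]
  have hB : ∀ u v, polarBilin Q (z u) (z v) = polarBilin Q u v := by
    have h1 : (polarBilin Q).compl₁₂ (z : (ι → F) →ₗ[F] (ι → F)) (z : (ι → F) →ₗ[F] (ι → F)) =
        polarBilin Q := by
      apply b.ext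
      intro s
      apply b.ext
      intro t
      rw [LinearMap.compl₁₂_apply, LinearEquiv.coe_coe, hz, hz, hb.gram, hb'.gram]
    intro u v
    exact LinearMap.congr_fun (LinearMap.congr_fun h1 u) v
  obtain ⟨A, hA⟩ := exists_of_iso (⇑Q) (z : (ι → F) →ₗ[F] (ι → F)) (z.symm : (ι → F) →ₗ[F] (ι → F))
    (LinearMap.ext fun v => z.apply_symm_apply v) (LinearMap.ext fun v => z.symm_apply_apply v)
    (Q_eq_of h.two (z := (z : (ι → F) →ₗ[F] (ι → F))) hB)
  refine ⟨A, fun i => ?_⟩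
  rw [hA, hb.spn, hb'.spn, Submodule.map_span, Set.image_pair, LinearEquiv.coe_coe, hz, hz]

/-- products of two reflections in vectors of the same norm belong to the commutator subgroup -/
theorem refl_mul_mem (h2 : (2 : F) ≠ 0) {u v : ι → F} (hu : Q u ≠ 0) (hv : Q v ≠ 0) (huv : Q u = Q v) :
    reflIso Q u hu * reflIso Q v hv ∈ commutator (Cfsg.isometryGroup F (⇑Q)) := by
  obtain ⟨w, hw, h3⟩ := Cfsg.Agent.ClassicalGeometry.SpinorSign.exists_conj_reflIso h2 Q hu hv huv
  have h4 : reflIso Q u hu * reflIso Q v hv = ⁅reflIso Q u hu, reflIso Q w hw⁆ := by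
    rw [h3, commutatorElement_def, reflIso_inv, reflIso_inv]
    simp only [mul_assoc]
  rw [h4]
  exact Subgroup.commutator_mem_commutator (Subgroup.mem_top _) (Subgroup.mem_top _)

theorem refl_stab {U : Fin 4 → Submodule F (ι → F)} (hU : Dec Q U) {w : ι → F} (hw : w ∈ U 0) (hQw : Q w ≠ 0)
    (i : Fin 4) : (U i).map (rep (inc' (⇑Q)) (reflIso Q w hQw)) = U i := by
  have hle : ∀ x ∈ U i, rep (inc' (⇑Q)) (reflIso Q w hQw) x ∈ U i := by
    intro x hx
    have h1 : rep (inc' (⇑Q)) (reflIso Q w hQw) x = x - ((Q w)⁻¹ * polar (⇑Q) w x) • w :=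
      act_reflIso Q w hQw x
    rw [h1]
    by_cases hi : i = 0
    · subst hi
      exact Submodule.sub_mem _ hx (Submodule.smul_mem _ _ hw)
    · have h2 := hU.orth 0 i (Ne.symm hi) w hw x hx
      rw [polarBilin_apply_apply] at h2
      rw [h2, mul_zero, zero_smul, sub_zero]
      exact hx
  apply le_antisymm
  · rintro _ ⟨x, hx, rfl⟩
    exact hle x hx
  · intro x hx
    refine ⟨_, hle x hx, ?_⟩
    have h3 : rep (inc' (⇑Q)) (reflIso Q w hQw * reflIso Q w hQw) x = x := by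
      rw [reflIso_mul_self, map_one]; rfl
    rw [map_mul] at h3
    exact h3

/-- every isometry is congruent modulo `Ω` to one fixing the planes -/
theorem exists_stab [Finite F] (h : Q8 Q) {U : Fin 4 → Submodule F (ι → F)} (hU : Dec Q U)
    (g : Cfsg.isometryGroup F (⇑Q)) : ∃ r : Cfsg.isometryGroup F (⇑Q),
      (∀ i, (U i).map (rep (inc' (⇑Q)) r) = U i) ∧ r * g ∈ _root_.commutator (Cfsg.isometryGroup F (⇑Q)) := by
  refine isometry_induction h.two Q h.gq.nd (fun g => ∃ r : Cfsg.isometryGroup F (⇑Q),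
      (∀ i, (U i).map (rep (inc' (⇑Q)) r) = U i) ∧ r * g ∈ commutator (Cfsg.isometryGroup F (⇑Q))) ?_ ?_ g
  · refine ⟨1, fun i => ?_, ?_⟩
    · rw [map_one]; exact Submodule.map_id _
    · rw [one_mul]; exact Subgroup.one_mem _
  · rintro v hv g ⟨r, hr, hrg⟩
    -- a vector of `U 0` of the same norm
    obtain ⟨v₀, w₀, hv₀, hw₀, h1, h2, h3⟩ := exists_one h hU 0
    obtain ⟨a, b, hab⟩ := exists_norm h.two h.three (Q v)
    have hm : a • v₀ + b • w₀ ∈ U 0 :=
      Submodule.add_mem _ (Submodule.smul_mem _ _ hv₀) (Submodule.smul_mem _ _ hw₀)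
    have hQw : Q (a • v₀ + b • w₀) = Q v := by
      rw [polarBilin_apply_apply] at h3
      rw [QuadraticMap.map_add (⇑Q), QuadraticMap.map_smul, QuadraticMap.map_smul, QuadraticMap.polar_smul_left,
        QuadraticMap.polar_smul_right, h1, h2, h3]
      simp only [smul_eq_mul]
      linear_combination hab
    have hne : Q (a • v₀ + b • w₀) ≠ 0 := by rw [hQw]; exact hv
    refine ⟨r * reflIso Q _ hne, fun i => ?_, ?_⟩
    · rw [map_mul, Module.End.mul_eq_comp, Submodule.map_comp, refl_stab hU hm hne, hr]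
    · have h4 := refl_mul_mem h.two hne hv hQw
      have h5 : r * reflIso Q _ hne * (reflIso Q v hv * g) =
          (r * g) * (g⁻¹ * (reflIso Q _ hne * reflIso Q v hv) * g⁻¹⁻¹) := by group
      rw [h5]
      exact Subgroup.mul_mem _ hrg (Subgroup.Normal.conj_mem inferInstance _ h4 g⁻¹)

/-- **BOX B1** -/
theorem boxB1 [Finite F] (h : Q8 Q) : BoxB1 Q := by
  intro U U' hU hU'
  obtain ⟨g, hg⟩ := exists_isom h hU hU'
  obtain ⟨r, hr, hrg⟩ := exists_stab h hU' g
  refine ⟨⟨r * g, hrg⟩, fun i => ?_⟩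
  have h1 : rep (inc (⇑Q)) (⟨r * g, hrg⟩ : Cfsg.Omega F (⇑Q)) = rep (inc' (⇑Q)) (r * g) := rfl
  rw [h1, map_mul, Module.End.mul_eq_comp, Submodule.map_comp, hg, hr]

/-! ### Solvability -/

/-- the rotation by a third of a turn of all the planes -/
noncomputable def rot (b : Basis (Fin 4 × Fin 2) F (ι → F)) : Module.End F (ι → F) :=
  b.constr F (fun s => if s.2 = 0 then b (s.1, 1) else - b (s.1, 0) - b (s.1, 1))

theorem rot_zero (b : Basis (Fin 4 × Fin 2) F (ι → F)) (i : Fin 4) : rot b (b (i, 0)) = b (i, 1) := by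
  unfold rot
  rw [Basis.constr_basis]
  exact if_pos rfl

theorem rot_one (b : Basis (Fin 4 × Fin 2) F (ι → F)) (i : Fin 4) :
    rot b (b (i, 1)) = - b (i, 0) - b (i, 1) := by
  unfold rot
  rw [Basis.constr_basis]
  exact if_neg (by simp)

/-- an isometry of the planes commutes with the rotation or inverts it, on each plane -/
theorem dich (h2 : (2 : F) ≠ 0) (h3 : (3 : F) ≠ 0) {U : Fin 4 → Submodule F (ι → F)}
    {b : Basis (Fin 4 × Fin 2) F (ι → F)} (hb : Adapted Q U b) (f : Module.End F (ι → F))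
    (hB : ∀ u v, polarBilin Q (f u) (f v) = polarBilin Q u v) (i : Fin 4) (hU : ∀ u ∈ U i, f u ∈ U i) :
    (∀ k, f (rot b (b (i, k))) = rot b (f (b (i, k)))) ∨
      (∀ k, f (rot b (b (i, k))) = rot b (rot b (f (b (i, k))))) := by
  have m0 := hU _ (hb.mem i 0)
  have m1 := hU _ (hb.mem i 1)
  rw [hb.spn, Submodule.mem_span_pair] at m0 m1
  obtain ⟨a, c, hac⟩ := m0
  obtain ⟨e, d, hed⟩ := m1
  have g00 : polarBilin Q (b (i, 0)) (b (i, 0)) = 2 := by rw [hb.gram]; simp [gram]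
  have g01 : polarBilin Q (b (i, 0)) (b (i, 1)) = -1 := by rw [hb.gram]; simp [gram]
  have g10 : polarBilin Q (b (i, 1)) (b (i, 0)) = -1 := by rw [hb.gram]; simp [gram]
  have g11 : polarBilin Q (b (i, 1)) (b (i, 1)) = 2 := by rw [hb.gram]; simp [gram]
  have E1 : a ^ 2 - a * c + c ^ 2 = 1 := by
    have := hB (b (i, 0)) (b (i, 0))
    rw [← hac] at this
    simp only [map_add, map_smul, LinearMap.add_apply, LinearMap.smul_apply, g00, g01, g10, g11,
      smul_eq_mul] at this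
    apply mul_left_cancel₀ h2
    linear_combination this
  have E2 : e ^ 2 - e * d + d ^ 2 = 1 := by
    have := hB (b (i, 1)) (b (i, 1))
    rw [← hed] at this
    simp only [map_add, map_smul, LinearMap.add_apply, LinearMap.smul_apply, g00, g01, g10, g11,
      smul_eq_mul] at this
    apply mul_left_cancel₀ h2
    linear_combination this
  have E3 : (2 * a - c) * e + (2 * c - a) * d = -1 := by
    have := hB (b (i, 0)) (b (i, 1))
    rw [← hed, ← hac] at this
    simp only [map_add, map_smul, LinearMap.add_apply, LinearMap.smul_apply, g00, g01, g10, g11,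
      smul_eq_mul] at this
    linear_combination this
  have ED : (a * d - c * e - 1) * (a * d - c * e + 1) = 0 := by
    apply mul_left_cancel₀ h3
    linear_combination 4 * (e ^ 2 - e * d + d ^ 2) * E1 + 4 * E2 -
      ((2 * a - c) * e + (2 * c - a) * d - 1) * E3
  rcases mul_eq_zero.1 ED with hD | hD
  · left
    have h4 : e = -c := by
      have : (2 : F) * (e + c) = 0 := by
        linear_combination (-2 * e) * E1 + a * E3 - (2 * c - a) * hD
      exact eq_neg_of_add_eq_zero_left ((mul_eq_zero.1 this).resolve_left h2)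
    have h5 : d = a - c := by
      have : (2 : F) * (d - (a - c)) = 0 := by
        linear_combination (-2 * d) * E1 + c * E3 + (2 * a - c) * hD
      exact sub_eq_zero.1 ((mul_eq_zero.1 this).resolve_left h2)
    intro k
    fin_cases k
    · show f (rot b (b (i, 0))) = rot b (f (b (i, 0)))
      rw [rot_zero, ← hac, ← hed, map_add, map_smul, map_smul, rot_zero, rot_one, h4, h5]
      module
    · show f (rot b (b (i, 1))) = rot b (f (b (i, 1)))
      rw [rot_one, map_sub, map_neg, ← hac, ← hed, map_add, map_smul, map_smul, rot_zero, rot_one, h4, h5]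
      module
  · right
    have h4 : e = c - a := by
      have : (2 : F) * (e - (c - a)) = 0 := by
        linear_combination (-2 * e) * E1 + a * E3 - (2 * c - a) * hD
      exact sub_eq_zero.1 ((mul_eq_zero.1 this).resolve_left h2)
    have h5 : d = - a := by
      have : (2 : F) * (d + a) = 0 := by
        linear_combination (-2 * d) * E1 + c * E3 + (2 * a - c) * hD
      exact eq_neg_of_add_eq_zero_left ((mul_eq_zero.1 this).resolve_left h2)
    intro k
    fin_cases k
    · show f (rot b (b (i, 0))) = rot b (rot b (f (b (i, 0))))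
      rw [rot_zero, ← hac, ← hed, map_add, map_smul, map_smul, rot_zero, rot_one, map_add, map_smul, map_smul,
        map_sub, map_neg, rot_zero, rot_one, h4, h5]
      module
    · show f (rot b (b (i, 1))) = rot b (rot b (f (b (i, 1))))
      simp only [rot_one, map_sub, map_neg, ← hac, ← hed, map_add, map_smul, map_smul, rot_zero, rot_one, map_add,
        map_smul, map_smul, map_sub, map_neg, rot_zero, rot_one, h4, h5]
      module

theorem rot_mem {U : Fin 4 → Submodule F (ι → F)} {b : Basis (Fin 4 × Fin 2) F (ι → F)} (hb : Adapted Q U b)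
    (i : Fin 4) {u : ι → F} (hu : u ∈ U i) : rot b u ∈ U i := by
  have hu' := hu
  rw [hb.spn, Submodule.mem_span_pair] at hu'
  obtain ⟨s, t, rfl⟩ := hu'
  rw [map_add, map_smul, map_smul, rot_zero, rot_one]
  exact Submodule.add_mem _ (Submodule.smul_mem _ _ (hb.mem i 1)) (Submodule.smul_mem _ _
    (Submodule.sub_mem _ (Submodule.neg_mem _ (hb.mem i 0)) (hb.mem i 1)))

/-- on a plane, agreement on the basis is enough -/
theorem ext_plane {U : Fin 4 → Submodule F (ι → F)} {b : Basis (Fin 4 × Fin 2) F (ι → F)} (hb : Adapted Q U b)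
    {i : Fin 4} {f g : Module.End F (ι → F)} (hfg : ∀ k, f (b (i, k)) = g (b (i, k))) {u : ι → F} (hu : u ∈ U i) :
    f u = g u := by
  rw [hb.spn, Submodule.mem_span_pair] at hu
  obtain ⟨s, t, rfl⟩ := hu
  rw [map_add, map_add, map_smul, map_smul, map_smul, map_smul, hfg, hfg]

theorem rot_cube (b : Basis (Fin 4 × Fin 2) F (ι → F)) : rot b * rot b * rot b = 1 := by
  apply b.ext
  rintro ⟨i, k⟩
  fin_cases k
  · show rot b (rot b (rot b (b (i, 0)))) = b (i, 0)
    rw [rot_zero, rot_one, map_sub, map_neg, rot_zero, rot_one]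
    abel
  · show rot b (rot b (rot b (b (i, 1)))) = b (i, 1)
    rw [rot_one, map_sub, map_neg, rot_zero, rot_one, map_sub, map_neg, map_sub, map_neg, rot_zero, rot_one]
    abel

/-- the squares commute with the rotation -/
theorem sq_comm (h2 : (2 : F) ≠ 0) (h3 : (3 : F) ≠ 0) {U : Fin 4 → Submodule F (ι → F)}
    {b : Basis (Fin 4 × Fin 2) F (ι → F)} (hb : Adapted Q U b) (f : Module.End F (ι → F))
    (hB : ∀ u v, polarBilin Q (f u) (f v) = polarBilin Q u v) (hU : ∀ i, ∀ u ∈ U i, f u ∈ U i) :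
    (f * f) * rot b = rot b * (f * f) := by
  apply b.ext
  rintro ⟨i, k⟩
  show f (f (rot b (b (i, k)))) = rot b (f (f (b (i, k))))
  rcases dich h2 h3 hb f hB i (hU i) with h | h
  · have h' : ∀ u ∈ U i, f (rot b u) = rot b (f u) := fun u hu =>
      ext_plane hb (f := f * rot b) (g := rot b * f) h hu
    rw [h' _ (hb.mem i k), h' _ (hU i _ (hb.mem i k))]
  · have h' : ∀ u ∈ U i, f (rot b u) = rot b (rot b (f u)) := fun u hu =>
      ext_plane hb (f := f * rot b) (g := rot b * (rot b * f)) h hu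
    have hc : ∀ u, rot b (rot b (rot b u)) = u := fun u => LinearMap.congr_fun (rot_cube b) u
    have hm := hU i _ (hb.mem i k)
    rw [h' _ (hb.mem i k), h' _ (rot_mem hb i hm), h' _ hm, hc]

/-- endomorphisms commuting with the rotation commute -/
theorem comm_of {U : Fin 4 → Submodule F (ι → F)}
    {b : Basis (Fin 4 × Fin 2) F (ι → F)} (hb : Adapted Q U b) {f g : Module.End F (ι → F)}
    (hf : f * rot b = rot b * f) (hg : g * rot b = rot b * g) (hU : ∀ i, ∀ u ∈ U i, f u ∈ U i)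
    (hU' : ∀ i, ∀ u ∈ U i, g u ∈ U i) : f * g = g * f := by
  have hf' : ∀ u, f (rot b u) = rot b (f u) := fun u => LinearMap.congr_fun hf u
  have hg' : ∀ u, g (rot b u) = rot b (g u) := fun u => LinearMap.congr_fun hg u
  have key : ∀ i, f (g (b (i, 0))) = g (f (b (i, 0))) := by
    intro i
    have m0 := hU i _ (hb.mem i 0)
    have m1 := hU' i _ (hb.mem i 0)
    rw [hb.spn, Submodule.mem_span_pair] at m0 m1
    obtain ⟨s, t, h1⟩ := m0
    obtain ⟨s', t', h2⟩ := m1
    have hf1 : f (b (i, 1)) = rot b (f (b (i, 0))) := by rw [← rot_zero, hf']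
    have hg1 : g (b (i, 1)) = rot b (g (b (i, 0))) := by rw [← rot_zero, hg']
    simp only [← h1, ← h2, map_add, map_add, map_smul, map_smul, map_smul, map_smul, hf1, hg1, ← h1, ← h2, map_add,
      map_add, map_smul, map_smul, map_smul, map_smul, rot_zero, rot_one]
    module
  apply b.ext
  rintro ⟨i, k⟩
  fin_cases k
  · exact key i
  · show f (g (b (i, 1))) = g (f (b (i, 1)))
    rw [← rot_zero, hg', hf', key, ← hg', ← hf']

theorem solvable_of (h2 : (2 : F) ≠ 0) (h3 : (3 : F) ≠ 0) {U : Fin 4 → Submodule F (ι → F)}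
    {b : Basis (Fin 4 × Fin 2) F (ι → F)} (hb : Adapted Q U b) {K : Type*} [Group K]
    (ρ : K →* Module.End F (ι → F)) (hinj : Function.Injective ρ)
    (hB : ∀ k u v, polarBilin Q (ρ k u) (ρ k v) = polarBilin Q u v) (hU : ∀ k i, ∀ u ∈ U i, ρ k u ∈ U i) :
    Group.IsSolvable K := by
  let N : Subgroup K :=
    { carrier := {k | ρ k * rot b = rot b * ρ k}
      one_mem' := by
        show ρ 1 * rot b = rot b * ρ 1
        rw [map_one, one_mul, mul_one]
      mul_mem' := by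
        intro k l (hk : ρ k * rot b = rot b * ρ k) (hl : ρ l * rot b = rot b * ρ l)
        show ρ (k * l) * rot b = rot b * ρ (k * l)
        rw [map_mul, mul_assoc, hl, ← mul_assoc, hk, mul_assoc]
      inv_mem' := by
        intro k (hk : ρ k * rot b = rot b * ρ k)
        show ρ k⁻¹ * rot b = rot b * ρ k⁻¹
        have e1 : ρ k⁻¹ * ρ k = 1 := by rw [← map_mul, inv_mul_cancel, map_one]
        have e2 : ρ k * ρ k⁻¹ = 1 := by rw [← map_mul, mul_inv_cancel, map_one]
        calc ρ k⁻¹ * rot b = ρ k⁻¹ * rot b * (ρ k * ρ k⁻¹) := by rw [e2, mul_one]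
          _ = ρ k⁻¹ * (rot b * ρ k) * ρ k⁻¹ := by simp only [mul_assoc]
          _ = ρ k⁻¹ * (ρ k * rot b) * ρ k⁻¹ := by rw [hk]
          _ = (ρ k⁻¹ * ρ k) * rot b * ρ k⁻¹ := by simp only [mul_assoc]
          _ = rot b * ρ k⁻¹ := by rw [e1, one_mul] }
  have hsq : ∀ k : K, k * k ∈ N := by
    intro k
    show ρ (k * k) * rot b = rot b * ρ (k * k)
    rw [map_mul]
    exact sq_comm h2 h3 hb (ρ k) (hB k) (hU k)
  have hle : commutator K ≤ N := by
    rw [commutator_def, Subgroup.commutator_le]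
    intro g _ h _
    have e : ⁅g, h⁆ = (g * h) * (g * h) * ((h⁻¹ * g⁻¹ * h) * (h⁻¹ * g⁻¹ * h)) * (h⁻¹ * h⁻¹) := by
      rw [commutatorElement_def]; group
    rw [e]
    exact N.mul_mem (N.mul_mem (hsq _) (hsq _)) (hsq _)
  rw [Group.isSolvable_iff_subgroup_quotient (commutator K)]
  constructor
  · refine Group.isSolvable_of_comm fun x y => ?_
    apply Subtype.ext
    apply hinj
    show ρ (x.1 * y.1) = ρ (y.1 * x.1)
    rw [map_mul, map_mul]
    exact comm_of hb (hle x.2) (hle y.2) (hU _) (hU _)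
  · haveI : IsMulCommutative (K ⧸ commutator K) :=
      (Subgroup.Normal.quotient_commutative_iff_commutator_le (N := commutator K)).2 le_rfl
    exact Group.isSolvable_of_comm fun a b => mul_comm' a b

/-- the action on the four planes -/
@[instance_reducible]
noncomputable def actU (U : Fin 4 → Submodule F (ι → F)) : MulAction (StD Q U) (Set.range U) where
  smul g W := ⟨W.1.map (rep (inc (⇑Q)) g.1), by
    obtain ⟨W, i, rfl⟩ := W
    obtain ⟨j, hj⟩ := g.2.1 i
    exact ⟨j, hj.symm⟩⟩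
  one_smul W := Subtype.ext (by
    show W.1.map (rep (inc (⇑Q)) 1) = W.1
    rw [map_one]
    exact Submodule.map_id _)
  mul_smul g h W := Subtype.ext (by
    show W.1.map (rep (inc (⇑Q)) (g.1 * h.1)) = (W.1.map (rep (inc (⇑Q)) h.1)).map (rep (inc (⇑Q)) g.1)
    rw [map_mul, Module.End.mul_eq_comp, Submodule.map_comp])

/-- **BOX B2** -/
theorem boxB2 [Finite F] (h : Q8 Q) : BoxB2 Q := by
  intro U hU
  obtain ⟨b, hb⟩ := exists_basis h hU
  letI := actU (Q := Q) U
  let φ : StD Q U →* Equiv.Perm (Set.range U) := MulAction.toPermHom (StD Q U) (Set.range U)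
  haveI h1 : Group.IsSolvable (Equiv.Perm (Set.range U)) :=
    Cfsg.Agent.H76.PermFour.solvable_perm_of_card_le ((Finite.card_range_le U).trans (by simp))
  haveI h2 : Group.IsSolvable φ.ker := by
    refine solvable_of h.two h.three hb
      ((rep (inc (⇑Q))).comp ((StD Q U).subtype.comp φ.ker.subtype)) ?_ ?_ ?_
    · intro x y hxy
      apply Subtype.ext
      apply Subtype.ext
      exact rep_injective inc_injective hxy
    · intro k u v
      exact B_rep k.1.1 u v
    · intro k i u hu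
      have h3 : φ k.1 = 1 := k.2
      have h4 := congrArg (fun σ : Equiv.Perm (Set.range U) => (σ ⟨U i, i, rfl⟩).1) h3
      have h5 : (U i).map (rep (inc (⇑Q)) k.1.1) = U i := h4
      (simp +singlePass only [← h5])
      exact ⟨u, hu, rfl⟩
  exact Group.isSolvable_of_ker_le_range φ.ker.subtype φ (by rw [Subgroup.range_subtype])

end Cfsg.Agent.H551.D4
end

-- part: H561/D4/FinalA
section
/-!
# S4311, the row `PΩ₈⁺(q)` modulo BOX C2 (helper561)
-/

set_option autoImplicit false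

namespace Cfsg.Agent.H561.D4

open Cfsg Subgroup Cfsg.Agent.H561.RV

universe u

/-- **the `S`-row of `PΩ₈⁺(q)`** -/
theorem srow_d4_of {S : Type u} [Group S] {π : Set ℕ} (h2π : 2 ∈ π) (h3π : 3 ∈ π) {p : ℕ} (hp : p.Prime) (hpπ : p ∉ π) {F : Type}
    [Field F] [Finite F] [CharP F p] (hC2 : BoxC2 F) (e : S ≃* Cfsg.POmega F (Cfsg.quadFormPlus 4 F)) : SRow π S := by
  have h2 : (2 : F) ≠ 0 := by
    intro h
    have h1 : ((2 : ℕ) : F) = 0 := by exact_mod_cast h
    rw [CharP.cast_eq_zero_iff F p, Nat.prime_dvd_prime_iff_eq hp Nat.prime_two] at h1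
    exact hpπ (h1 ▸ h2π)
  have h3 : (3 : F) ≠ 0 := by
    intro h
    have h1 : ((3 : ℕ) : F) = 0 := by exact_mod_cast h
    rw [CharP.cast_eq_zero_iff F p, Nat.prime_dvd_prime_iff_eq hp Nat.prime_three] at h1
    exact hpπ (h1 ▸ h3π)
  have : Fintype F := Fintype.ofFinite F
  have hq : Q8 (Cfsg.Agent.LieClassical.OrthForms.plusForm 4 F) := H473.D4.q8_plus h2 h3
  have hN : BoxN (Cfsg.Agent.LieClassical.OrthForms.plusForm 4 F) := H473.D4.boxN hq
  have hZ : BoxZ (Cfsg.Agent.LieClassical.OrthForms.plusForm 4 F) := H473.D4.boxZ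
  have key : SRow π (Cfsg.POmega F (⇑(Cfsg.Agent.LieClassical.OrthForms.plusForm 4 F))) :=
    srow_of_boxes hq hN (H358.D4.boxA' hN) (H551.D4.boxB1 hq) (H551.D4.boxB2 hq)
      (boxC_of (H1.D4.boxC1 hZ) hC2 hN)
      (boxD_of hq hZ H286.RV.boxD2 (H982.DfPsi.boxD3 hN) (H778.D4.boxD4 hN hZ))
      (fun T _ _ f => H583.D4.boxD1 f) hp hpπ h2π h3π
  rw [Cfsg.Agent.LieClassical.OrthForms.coe_plusForm] at key
  exact srow_of_equiv e key

end Cfsg.Agent.H561.D4
end

private theorem dce_ec489ba82d8e : _root_.True := by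
  try have : _root_.True := by simp only [_root_.Cfsg.Agent.H551.D4.gram.eq_1]
  exact _root_.True.intro
end

-- part: H165/RV/NRowAll
section
prune_inst 0x614048402022120000180584910000203400049001000800800002400201a80020000040020020000000000000000060004c000000400000040000000001000010000000a0080000020008000080000000000000000000000000000000000000000000000
set_option linter.all false
open scoped Cfsg.Agent.FastGrp

-- part: H960/KGV/Defs
section
/-!
# k(G) < |V| for coprime linear groups: definitions and interfaces (project of helper960)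

`V` is a finite vector space over `ZMod p`, `G` a group of automorphisms of `V` of order prime
to `p`, `k(G) = Nat.card (ConjClasses G)`.

* `Lt n` : `k(G) < n` for all such `G` on spaces `V` of order `n`;
* `SD G` : the semidirect product `V ⋊ G`;
* `ind G W` : the group induced on the subspace `W` by its stabilizer in `G`;
* `Blk G W` : the subspaces `W i` form a direct decomposition of `V` permuted by `G`;
* `GammaOne H` : `H` is contained in a group `ΓL_1`;
* `SubBd H c` : `k(R) ≤ c` for all `R ⊴ R' ⊴ H`;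
* `HasRep T p f d` : a perfect central extension `E` of the simple group `T`, of order prime to `p`, has a
  faithful absolutely irreducible representation of degree `d` over the field with `p ^ f` elements;
* `Sit T p f d` : numerical consequences of `HasRep`;
* `Row T` : the inequality needed for the simple group `T`;
* `PCoreTriv q R` : `O_q(R) = 1`.
-/

set_option autoImplicit false

namespace Cfsg.Agent.H960.KGV

section Lin

variable {p : ℕ} {V : Type} [AddCommGroup V] [Module (ZMod p) V]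

/-- the subspaces `W i` form a direct decomposition of `V` (into nonzero subspaces) permuted by `G` -/
structure Blk (G : Subgroup (V ≃ₗ[ZMod p] V)) {ι : Type} (W : ι → Submodule (ZMod p) V) : Prop where
  /-- the sum is direct -/
  indep : iSupIndep W
  /-- the sum is `V` -/
  sup : iSup W = ⊤
  /-- the blocks are nonzero -/
  ne_bot : ∀ i, W i ≠ ⊥
  /-- the blocks are permuted by `G` -/
  perm : ∀ g ∈ G, ∀ i, ∃ j, (W i).map (g : V ≃ₗ[ZMod p] V).toLinearMap = W j

end Lin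

/-- a perfect central extension `E` of `T`, of order prime to `p`, with a faithful absolutely
irreducible representation of degree `d` over the field with `p ^ f` elements -/
def HasRep (T : Type) [Group T] (p f d : ℕ) : Prop :=
  ∃ (E : Type) (_ : Group E) (_ : Finite E) (F : Type) (_ : Field F) (_ : Finite F)
    (ρ : E →* GL (Fin d) F),
    commutator E = ⊤ ∧ Nonempty (E ⧸ Subgroup.center E ≃* T) ∧ ¬ p ∣ Nat.card E ∧
    Nat.card F = p ^ f ∧ Function.Injective ρ ∧
    (∀ U : Submodule F (Fin d → F), (∀ e : E, ∀ u ∈ U,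
      (ρ e : Matrix (Fin d) (Fin d) F).mulVec u ∈ U) → U = ⊥ ∨ U = ⊤) ∧
    (∀ M : Matrix (Fin d) (Fin d) F, (∀ e : E, M * (ρ e : Matrix (Fin d) (Fin d) F) =
      (ρ e : Matrix (Fin d) (Fin d) F) * M) → ∃ c : F, M = c • (1 : Matrix (Fin d) (Fin d) F))

/-- numerical consequences of `HasRep T p f d` (with `3 ≤ d`) for the simple group `T` -/
structure Sit (T : Type) [Group T] (p f d : ℕ) : Prop where
  /-- `p` is a prime -/
  prime : p.Prime
  /-- the field has more than one element -/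
  f_pos : 1 ≤ f
  /-- the degree is at least 3 -/
  three_le : 3 ≤ d
  /-- `p` does not divide the order of `T` -/
  coprime : ¬ p ∣ Nat.card T
  /-- the original datum -/
  rep : HasRep T p f d
  /-- Lagrange: `|T|` divides `|PGL_d(Q)|`, hence its `p'`-part -/
  dvd : Nat.card T ∣ ∏ i ∈ Finset.Icc 2 d, ((p ^ f) ^ i - 1)
  /-- counting the points of the projective space: a nontrivial orbit of `T` on them -/
  index : ∃ H : Subgroup T, H ≠ ⊤ ∧ H.index * (p ^ f - 1) < (p ^ f) ^ d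
  /-- a nontrivial irreducible complex character of `T` of degree less than `d ^ 2` (action on the
  `d × d` matrices modulo scalars) -/
  adj : ∃ χ : Cfsg.IrrCharacter T, (χ : T → ℂ) ≠ (fun _ => 1) ∧
    Cfsg.charDegree (χ : T → ℂ) ≤ d ^ 2 - 1

end Cfsg.Agent.H960.KGV
end

-- part: H491/KGV/DimTwo
section
/-!
# Degree 2 (helper491, task 2018 of helper960, TEAM KGV)

* `dim2` : a simple group with a `p'`-projective representation of degree 2 over a field of characteristic `p` is `A₅`;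
* `pgl2` : a `p'`-group `X` in `PGL₂` with a normal subgroup `A₅`, `C_X(A₅) = 1`, is `A₅`.
-/

set_option autoImplicit false

namespace Cfsg.Agent.H491.KGV

open Matrix Subgroup Cfsg.Agent.H960.KGV

/-! ### `p` divides the order of `PSL₂` and `PGL₂` -/

theorem upper_pow {K : Type*} [Field K] (a : K) (n : ℕ) :
    (!![1, a; 0, 1] : Matrix (Fin 2) (Fin 2) K) ^ n = !![1, n * a; 0, 1] := by
  induction n with
  | zero =>
    rw [pow_zero]
    ext i j
    (revert i j; simp only [_root_.Fin.forall_fin_succ, _root_.Nat.cast_zero, _root_.MulZeroClass.zero_mul, _root_.Matrix.of_apply, _root_.Matrix.cons_val', _root_.Matrix.cons_val_fin_one, Fin.isValue, _root_.Matrix.cons_val_zero, _root_.Matrix.cons_val_succ, _root_.IsEmpty.forall_iff, _root_.and_true, _root_.Matrix.one_apply_eq, Nat.reduceAdd, _root_.Fin.succ_zero_eq_one, _root_.ne_eq, _root_.zero_ne_one, _root_.not_false_eq_true, _root_.Matrix.one_apply_ne, _root_.and_self, _root_.Fin.succ_ne_zero,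 _root_.true_and])
  | succ n ih =>
    rw [pow_succ, ih]
    ext i j
    (revert i j; simp only [Matrix.mul_apply, Fin.sum_univ_two, _root_.Fin.forall_fin_succ, _root_.Matrix.of_apply, _root_.Matrix.cons_val', _root_.Matrix.cons_val_fin_one, Fin.isValue, _root_.Matrix.cons_val_zero, _root_.Matrix.cons_val_one, _root_.Nat.cast_add, _root_.Nat.cast_one, _root_.mul_one, _root_.MulZeroClass.mul_zero, _root_.add_zero, _root_.Matrix.cons_val_succ, _root_.forall_const, _root_.one_mul, _root_.MulZeroClass.zero_mul, _root_.zero_add, _root_.implies_true, _root_.and_true, _root_.true_and]) <;> (repeat' with_reducible apply And.intro)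
    ring

theorem dvd_card_psl {K : Type*} [Field K] [Finite K] {p : ℕ} [hp : Fact p.Prime] [CharP K p] :
    p ∣ Nat.card (ProjectiveSpecialLinearGroup (Fin 2) K) := by
  let u : _root_.Matrix.SpecialLinearGroup (Fin 2) K := ⟨!![1, 1; 0, 1], by simp⟩
  let x : ProjectiveSpecialLinearGroup (Fin 2) K := QuotientGroup.mk u
  have hx1 : x ≠ 1 := by
    intro h
    have h1 : u ∈ center (_root_.Matrix.SpecialLinearGroup (Fin 2) K) := (QuotientGroup.eq_one_iff u).1 h
    obtain ⟨c, -, hc⟩ := Matrix.SpecialLinearGroup.mem_center_iff.1 h1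
    have h2 := congrFun (congrFun hc 0) 1
    simp [u] at h2
  have hxp : x ^ p = 1 := by
    have h1 : u ^ p = 1 := by
      refine Subtype.ext ((Matrix.SpecialLinearGroup.coe_pow u p).trans ?_)
      show (!![1, 1; 0, 1] : Matrix (Fin 2) (Fin 2) K) ^ p = 1
      rw [upper_pow, CharP.cast_eq_zero K p, zero_mul]
      ext i j
      (revert i j; simp only [_root_.Fin.forall_fin_succ, _root_.Matrix.of_apply, _root_.Matrix.cons_val', _root_.Matrix.cons_val_fin_one, Fin.isValue, _root_.Matrix.cons_val_zero, _root_.Matrix.cons_val_succ, _root_.IsEmpty.forall_iff, _root_.and_true, _root_.Matrix.one_apply_eq, Nat.reduceAdd, _root_.Fin.succ_zero_eq_one, _root_.ne_eq, _root_.zero_ne_one, _root_.not_false_eq_true, _root_.Matrix.one_apply_ne, _root_.and_self, _root_.Fin.succ_ne_zero, _root_.true_and])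
    show (QuotientGroup.mk u : ProjectiveSpecialLinearGroup (Fin 2) K) ^ p = 1
    rw [← QuotientGroup.mk_pow, h1]
    rfl
  have h1 : orderOf x = p := orderOf_eq_prime hxp hx1
  rw [← h1]
  exact _root_.orderOf_dvd_natCard x

theorem dvd_card_pgl {K : Type*} [Field K] [Finite K] {p : ℕ} [hp : Fact p.Prime] [CharP K p] :
    p ∣ Nat.card (ProjGenLinGroup (Fin 2) K) := by
  have hfin : Finite (ProjGenLinGroup (Fin 2) K) :=
    Finite.of_surjective _ Matrix.ProjGenLinGroup.mk_surjective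
  exact (dvd_card_psl (K := K)).trans (Subgroup.card_dvd_of_injective _
    (Matrix.ProjectiveSpecialLinearGroup.toPGL_injective (n := Fin 2) (R := K)))

/-! ### `S₅` is not in `PGL₂` -/

/-- the fifth power of a `2 × 2` matrix -/
theorem pow_five {F : Type*} [Field F] (M : Matrix (Fin 2) (Fin 2) F) :
    M ^ 5 = (M.trace ^ 4 - 3 * M.trace ^ 2 * M.det + M.det ^ 2) • M -
      (M.trace ^ 3 * M.det - 2 * M.trace * M.det ^ 2) • (1 : Matrix (Fin 2) (Fin 2) F) := by
  have h2 : M * M = M.trace • M - M.det • (1 : Matrix (Fin 2) (Fin 2) F) := by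
    ext i j
    (revert i j; simp only [Matrix.mul_apply, Fin.sum_univ_two, Matrix.trace_fin_two, Matrix.det_fin_two, _root_.Fin.forall_fin_succ, Fin.isValue, _root_.Matrix.sub_apply, _root_.Matrix.smul_apply, _root_.smul_eq_mul, _root_.Fin.succ_zero_eq_one, _root_.IsEmpty.forall_iff, _root_.and_true, _root_.Matrix.one_apply_eq, _root_.mul_one, Nat.reduceAdd, _root_.ne_eq, _root_.zero_ne_one, _root_.not_false_eq_true, _root_.Matrix.one_apply_ne, _root_.MulZeroClass.mul_zero, _root_.sub_zero, _root_.Fin.succ_ne_zero]) <;> (repeat' with_reducible apply And.intro) <;> ring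
  have h4 : M ^ 5 = (M * M) * (M * M) * M := by
    rw [pow_succ, pow_succ, pow_succ, pow_succ, pow_one]
    simp only [mul_assoc]
  rw [h4, h2]
  generalize M.trace = t at h2 ⊢
  generalize M.det = D at h2 ⊢
  simp only [sub_mul, mul_sub, Matrix.smul_mul, Matrix.mul_smul, one_mul, mul_one, smul_smul, h2, smul_sub]
  module

end Cfsg.Agent.H491.KGV
end

-- part: H563/RV/PslTwo
section
/-!
# The `N`-row for `PSL_2(q)`, `q` odd, `p ∉ π` (helper563)

A `p'`-subgroup `H` of odd index of `PSL_2(q)` has `O_2(H) ≠ 1` or is isomorphic to `A_5` (Dickson). In the second case the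
traces of the preimages of the elements of `H` lie in the field generated by `√5`, so are fixed by field automorphisms of
odd order, and an automorphism of odd order centralising a Sylow 2-subgroup of `H` leaves `H` invariant.
-/

set_option autoImplicit false

namespace Cfsg.Agent.H563.RV

open Cfsg Matrix Subgroup

section Gen

variable {S : Type*} [Group S]

theorem HasTwo.of_equiv {H : Subgroup S} {D : Type*} [Group D] (e : H ≃* D) (M : Subgroup D) [hM : M.Normal]
    (h2 : IsPGroup 2 M) (h1 : M ≠ ⊥) : HasTwo H := by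
  refine ⟨(M.map (e.symm : D →* H)).map H.subtype, ?_, ?_, (h2.map _).map _, ?_⟩
  · intro h
    rw [Subgroup.map_eq_bot_iff_of_injective _ H.subtype_injective,
      Subgroup.map_eq_bot_iff_of_injective _ e.symm.injective] at h
    exact h1 h
  · rintro _ ⟨y, -, rfl⟩
    exact y.2
  · rintro h hh _ ⟨_, ⟨d, hd, rfl⟩, rfl⟩
    refine ⟨(e.symm : D →* H) (e ⟨h, hh⟩ * d * (e ⟨h, hh⟩)⁻¹), ⟨_, hM.conj_mem d hd _, rfl⟩, ?_⟩
    simp only [_root_.MonoidHom.coe_coe, _root_.map_mul, _root_.MulEquiv.symm_apply_apply, _root_.map_inv, _root_.Subgroup.subtype_apply, _root_.Subgroup.coe_mul, _root_.InvMemClass.coe_inv]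

theorem HasTwo.of_comm {H : Subgroup S} [Finite H] (hc : ∀ a b : H, a * b = b * a) (h2 : 2 ∣ Nat.card H) : HasTwo H := by
  obtain ⟨z, hz⟩ := exists_prime_orderOf_dvd_card' 2 h2
  have hn : (Subgroup.zpowers z).Normal := by
    refine ⟨fun n hn g => ?_⟩
    rw [hc g n, mul_inv_cancel_right]
    exact hn
  refine HasTwo.of_equiv (MulEquiv.refl H) (Subgroup.zpowers z) ?_ ?_
  · refine IsPGroup.of_card (n := 1) ?_
    rw [Nat.card_zpowers, hz, pow_one]
  · intro h
    rw [Subgroup.zpowers_eq_bot] at h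
    rw [h, orderOf_one] at hz
    norm_num at hz

theorem HasTwo.of_dihedral {H : Subgroup S} {k : ℕ} (e : H ≃* DihedralGroup k) (hk : Even k) (hk0 : k ≠ 0) :
    HasTwo H := by
  obtain ⟨m, hm⟩ := hk
  have hm0 : 0 < m := by omega
  have hmm : (m : ZMod k) + m = 0 := by
    have h1 : ((m + m : ℕ) : ZMod k) = 0 := by rw [← hm]; exact ZMod.natCast_self k
    rwa [Nat.cast_add] at h1
  have hneg : -(m : ZMod k) = m := by
    rw [neg_eq_iff_add_eq_zero]; exact hmm
  have hm1 : (m : ZMod k) ≠ 0 := by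
    intro h
    rw [ZMod.natCast_eq_zero_iff] at h
    have := Nat.le_of_dvd hm0 h
    omega
  let z : DihedralGroup k := DihedralGroup.r m
  have hc : ∀ g : DihedralGroup k, g * z * g⁻¹ = z := by
    intro g
    rw [mul_inv_eq_iff_eq_mul]
    rcases g with i | i
    · show DihedralGroup.r i * DihedralGroup.r (m : ZMod k) = DihedralGroup.r (m : ZMod k) * DihedralGroup.r i
      rw [DihedralGroup.r_mul_r, DihedralGroup.r_mul_r, add_comm]
    · show DihedralGroup.sr i * DihedralGroup.r (m : ZMod k) = DihedralGroup.r (m : ZMod k) * DihedralGroup.sr i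
      rw [DihedralGroup.sr_mul_r, DihedralGroup.r_mul_sr, sub_eq_add_neg, hneg]
  have hz2 : z * z = 1 := by
    show DihedralGroup.r (m : ZMod k) * DihedralGroup.r (m : ZMod k) = 1
    rw [DihedralGroup.r_mul_r, hmm]
    rfl
  have hz1 : z ≠ 1 := by
    intro h
    exact hm1 (DihedralGroup.r.inj h)
  have ho : orderOf z = 2 := orderOf_eq_prime (by rw [pow_two, hz2]) hz1
  have hn : (Subgroup.zpowers z).Normal := by
    refine ⟨fun n hn g => ?_⟩
    obtain ⟨j, rfl⟩ := Subgroup.mem_zpowers_iff.1 hn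
    rw [← conj_zpow, hc g]
    exact hn
  refine HasTwo.of_equiv e (Subgroup.zpowers z) ?_ ?_
  · refine IsPGroup.of_card (n := 1) ?_
    rw [Nat.card_zpowers, ho, pow_one]
  · intro h
    rw [Subgroup.zpowers_eq_bot] at h
    exact hz1 h

/-- the Klein four-group in `S_4` -/
def V4 : Subgroup (Equiv.Perm (Fin 4)) where
  carrier := {σ | σ * σ = 1 ∧ Equiv.Perm.sign σ = 1}
  mul_mem' {a b} := by
    revert a b
    (set_option synthInstance.maxSize 9000 in open scoped Cfsg.Agent.Lib.FastPerm in decide +kernel)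
  one_mem' := by decide
  inv_mem' {a} := by
    rintro ⟨h1, h2⟩
    refine ⟨?_, ?_⟩
    · rw [← _root_.mul_inv_rev, h1, inv_one]
    · rw [map_inv, h2, inv_one]

theorem V4_normal : V4.Normal := by
  refine ⟨fun n hn g => ?_⟩
  obtain ⟨h1, h2⟩ := hn
  refine ⟨?_, ?_⟩
  · have : g * n * g⁻¹ * (g * n * g⁻¹) = g * (n * n) * g⁻¹ := by group
    rw [this, h1, mul_one, mul_inv_cancel]
  · rw [map_mul, map_mul, map_inv, h2, mul_one, mul_inv_cancel]

theorem V4_two : IsPGroup 2 V4 := by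
  intro x
  refine ⟨1, Subtype.ext ?_⟩
  rw [Subgroup.coe_pow, pow_one, pow_two]
  exact x.2.1

theorem V4_mem : (Equiv.swap 0 1 * Equiv.swap 2 3 : Equiv.Perm (Fin 4)) ∈ V4 := by
  show _ ∧ _
  decide

theorem HasTwo.of_permFour {H : Subgroup S} (e : H ≃* Equiv.Perm (Fin 4)) : HasTwo H := by
  have := V4_normal
  refine HasTwo.of_equiv e V4 V4_two ?_
  intro h
  have h1 := V4_mem
  rw [h, Subgroup.mem_bot] at h1
  exact absurd h1 (by decide)

theorem HasTwo.of_altFour {H : Subgroup S} (e : H ≃* alternatingGroup (Fin 4)) : HasTwo H := by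
  have := V4_normal
  have hn : (V4.comap (alternatingGroup (Fin 4)).subtype).Normal := inferInstance
  refine HasTwo.of_equiv e (V4.comap (alternatingGroup (Fin 4)).subtype) ?_ ?_
  · exact V4_two.comap_of_injective _ (alternatingGroup (Fin 4)).subtype_injective
  · intro h
    have h1 : (⟨Equiv.swap 0 1 * Equiv.swap 2 3, by rw [Equiv.Perm.mem_alternatingGroup]; decide⟩ :
        alternatingGroup (Fin 4)) ∈ V4.comap (alternatingGroup (Fin 4)).subtype := V4_mem
    rw [h, Subgroup.mem_bot] at h1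
    have h2 := congrArg Subtype.val h1
    exact absurd h2 (by decide)

end Gen

section Dick

variable {F : Type} [Field F] [Fintype F]

theorem four_dvd (h2 : Odd (Fintype.card F)) : 4 ∣ Nat.card (ProjectiveSpecialLinearGroup (Fin 2) F) := by
  have h1 := Cfsg.Agent.H394.SqPsl2.card_psl (F := F)
  have h3 : Nat.gcd 2 (Fintype.card F - 1) = 2 := by
    refine Nat.gcd_eq_left ?_
    obtain ⟨k, hk⟩ := h2
    exact ⟨k, by omega⟩
  rw [h3] at h1
  have h4 : 8 ∣ Fintype.card F ^ 2 - 1 := Nat.eight_dvd_sq_sub_one_of_odd h2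
  obtain ⟨c, hc⟩ := h4
  refine ⟨Fintype.card F * c, ?_⟩
  have h5 : 2 * Nat.card (ProjectiveSpecialLinearGroup (Fin 2) F) = Fintype.card F * (8 * c) := by
    rw [h1, ← hc]
  linarith only [h5]

/-- **Dickson**: `O_2(H) ≠ 1` or `H ≅ A_5`. -/
theorem hasTwo_or_alt {p : ℕ} [hp : Fact p.Prime] [CharP F p] (hodd : Odd (Fintype.card F))
    (H : Subgroup (ProjectiveSpecialLinearGroup (Fin 2) F)) (h2 : ¬ 2 ∣ H.index) (hpH : ¬ p ∣ Nat.card H) :
    HasTwo H ∨ Nonempty (H ≃* alternatingGroup (Fin 5)) := by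
  have h4 : 4 ∣ Nat.card H := by
    have h5 : 4 ∣ Nat.card H * H.index := by
      rw [Subgroup.card_mul_index]
      exact four_dvd hodd
    have h6 : Nat.Coprime 4 H.index := by
      rw [show 4 = 2 ^ 2 from rfl]
      exact Nat.Coprime.pow_left 2 ((Nat.Prime.coprime_iff_not_dvd Nat.prime_two).2 h2)
    exact h6.dvd_of_dvd_mul_right h5
  rcases Cfsg.Agent.S0799.result (F := F) rfl p H with ⟨k, -, h | ⟨⟨e⟩⟩⟩ | ⟨P, K, hK, ⟨e⟩⟩ | ⟨⟨e⟩⟩ | ⟨⟨e⟩⟩ | h |
    ⟨K, _, _, m, hm, he⟩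
  · left
    have hc := h.1
    refine HasTwo.of_comm (fun a b => ?_) ((by norm_num : (2 : ℕ) ∣ 4).trans h4)
    let _ := hc.commGroup
    exact mul_comm a b
  · left
    rw [Nat.card_congr e.toEquiv, DihedralGroup.nat_card] at h4
    refine HasTwo.of_dihedral e ?_ ?_
    · obtain ⟨c, hc⟩ := h4
      exact ⟨c, by omega⟩
    · rintro rfl
      have : Finite (DihedralGroup 0) := Finite.of_equiv _ e.toEquiv
      exact (not_finite (DihedralGroup 0))
  · left
    refine HasTwo.of_comm (fun a b => ?_) ((by norm_num : (2 : ℕ) ∣ 4).trans h4)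
    have hpK : ¬ p ∣ Nat.card K := by rwa [← Nat.card_congr e.toEquiv]
    obtain ⟨k, hk⟩ := Cfsg.Agent.H947.Sy.commutator_mem P (hK (e a).2) (hK (e b).2)
    have h5 : e a * e b * (e a)⁻¹ * (e b)⁻¹ = 1 := by
      rw [← orderOf_eq_one_iff]
      have h6 : orderOf (e a * e b * (e a)⁻¹ * (e b)⁻¹) ∣ p ^ k := by
        apply orderOf_dvd_of_pow_eq_one
        apply Subtype.ext
        rw [Subgroup.coe_pow]
        exact hk
      have h7 : Nat.Coprime (p ^ k) (Nat.card K) := Nat.Coprime.pow_left k ((Nat.Prime.coprime_iff_not_dvd hp.out).2 hpK)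
      exact Nat.eq_one_of_dvd_coprimes h7 h6 (_root_.orderOf_dvd_natCard _)
    apply e.injective
    rw [map_mul, map_mul]
    rw [mul_inv_eq_one, mul_inv_eq_iff_eq_mul] at h5
    exact h5
  · exact Or.inl (HasTwo.of_altFour e)
  · exact Or.inl (HasTwo.of_permFour e)
  · exact Or.inr h
  · exfalso
    have hK : CharP K p := by
      obtain ⟨r, hr⟩ := CharP.exists K
      have hrp : r.Prime := CharP.char_is_prime K r
      obtain ⟨n, -, hn⟩ := FiniteField.card K r
      obtain ⟨l, -, hl⟩ := FiniteField.card F p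
      rw [hn, hl, ← pow_mul] at hm
      have h1 : p ∣ r ^ ((n : ℕ) * m) := by
        rw [hm]
        exact dvd_pow_self p l.2.ne'
      have h2 := (Nat.prime_dvd_prime_iff_eq hp.out hrp).1 (hp.out.dvd_of_dvd_pow h1)
      rw [h2]
      exact hr
    rcases he with ⟨⟨e⟩⟩ | ⟨⟨e⟩⟩
    · exact hpH (by rw [Nat.card_congr e.toEquiv]; exact Cfsg.Agent.H491.KGV.dvd_card_psl)
    · exact hpH (by rw [Nat.card_congr e.toEquiv]; exact Cfsg.Agent.H491.KGV.dvd_card_pgl)

end Dick

end Cfsg.Agent.H563.RV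
end

-- part: H563/RV/PslTwoB
section
/-!
# The `N`-row for `PSL_2(q)`: the case `H ≅ A_5` (helper563)
-/

set_option autoImplicit false

namespace Cfsg.Agent.H563.RV

open Cfsg Matrix Subgroup
open Cfsg.Agent.ClassicalGeometry.AutPSL.Root Cfsg.Agent.ClassicalGeometry.AutPSL.Auto

section Tr

variable {F : Type*} [Field F]

local notation "S2" => Matrix.SpecialLinearGroup (Fin 2) F
local notation "M2" => Matrix (Fin 2) (Fin 2) F

/-- powers of a matrix of determinant 1 -/
theorem sq_eq (M : M2) (h : M.det = 1) : M * M = M.trace • M - 1 := by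
  have h1 := Matrix.det_fin_two M
  rw [h] at h1
  ext i j
  (revert i j; simp only [Matrix.mul_apply, Fin.sum_univ_two, Matrix.trace_fin_two, _root_.Fin.forall_fin_succ, Fin.isValue, _root_.Matrix.sub_apply, _root_.Matrix.smul_apply, _root_.smul_eq_mul, _root_.Fin.succ_zero_eq_one, _root_.IsEmpty.forall_iff, _root_.and_true, _root_.Matrix.one_apply_eq, Nat.reduceAdd, _root_.ne_eq, _root_.zero_ne_one, _root_.not_false_eq_true, _root_.Matrix.one_apply_ne, _root_.sub_zero, _root_.Fin.succ_ne_zero]) <;> (repeat' with_reducible apply And.intro) <;> first | ring1 | linear_combination h1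

theorem trace_sq' (M : M2) (h : M.det = 1) : (M ^ 2).trace = M.trace ^ 2 - 2 := by
  rw [pow_two, sq_eq M h, trace_sub, trace_smul, trace_one, smul_eq_mul, Fintype.card_fin]
  push_cast
  ring

theorem trace_cube (M : M2) (h : M.det = 1) : (M ^ 3).trace = M.trace ^ 3 - 3 * M.trace := by
  have h2 : M ^ 3 = (M.trace ^ 2 - 1) • M - M.trace • (1 : M2) := by
    rw [pow_succ, pow_two, sq_eq M h, sub_mul, smul_mul_assoc, sq_eq M h, one_mul, smul_sub, smul_smul, sub_smul, one_smul,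
      ← pow_two]
    abel
  rw [h2, trace_sub, trace_smul, trace_smul, trace_one, smul_eq_mul, smul_eq_mul, Fintype.card_fin]
  push_cast
  ring

theorem trace_five (M : M2) (h : M.det = 1) : (M ^ 5).trace = M.trace ^ 5 - 5 * M.trace ^ 3 + 5 * M.trace := by
  have h1 := Cfsg.Agent.H491.KGV.pow_five M
  rw [h1, h, trace_sub, trace_smul, trace_smul, trace_one, smul_eq_mul, smul_eq_mul, Fintype.card_fin]
  push_cast
  ring

/-- the elements whose order modulo the centre is 1, 2, 3 or 5 have traces satisfying one of these -/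
theorem trace_cases {h : S2} {r : ℕ} (hr : r = 2 ∨ r = 3 ∨ r = 5) (hh : h ^ r = 1 ∨ h ^ r = -1) :
    (∃ n : ℤ, h.1.trace = n) ∨ h.1.trace * h.1.trace + h.1.trace = 1 ∨ h.1.trace * h.1.trace - h.1.trace = 1 := by
  have h0 : h.1.det = 1 := h.2
  set τ := h.1.trace with hτ
  have ht : (h.1 ^ r).trace = 2 ∨ (h.1 ^ r).trace = -2 := by
    rcases hh with h1 | h1
    · left
      have h2 : h.1 ^ r = 1 := congrArg Subtype.val h1
      rw [h2, trace_one]
      simp
    · right
      have h2 : h.1 ^ r = -1 := congrArg Subtype.val h1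
      rw [h2, trace_neg, trace_one]
      simp
  rcases hr with rfl | rfl | rfl
  · rw [trace_sq' _ h0, ← hτ] at ht
    left
    rcases ht with h1 | h1
    · have h2 : (τ - 2) * (τ + 2) = 0 := by linear_combination h1
      rcases mul_eq_zero.1 h2 with h3 | h3
      · exact ⟨2, by push_cast; linear_combination h3⟩
      · exact ⟨-2, by push_cast; linear_combination h3⟩
    · have h2 : τ ^ 2 = 0 := by linear_combination h1
      exact ⟨0, by push_cast; exact pow_eq_zero_iff two_ne_zero |>.1 h2⟩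
  · rw [trace_cube _ h0, ← hτ] at ht
    left
    rcases ht with h1 | h1
    · have h2 : (τ - 2) * (τ + 1) ^ 2 = 0 := by linear_combination h1
      rcases mul_eq_zero.1 h2 with h3 | h3
      · exact ⟨2, by push_cast; linear_combination h3⟩
      · exact ⟨-1, by push_cast; linear_combination pow_eq_zero_iff two_ne_zero |>.1 h3⟩
    · have h2 : (τ + 2) * (τ - 1) ^ 2 = 0 := by linear_combination h1
      rcases mul_eq_zero.1 h2 with h3 | h3
      · exact ⟨-2, by push_cast; linear_combination h3⟩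
      · exact ⟨1, by push_cast; linear_combination pow_eq_zero_iff two_ne_zero |>.1 h3⟩
  · rw [trace_five _ h0, ← hτ] at ht
    rcases ht with h1 | h1
    · have h2 : (τ - 2) * (τ ^ 2 + τ - 1) ^ 2 = 0 := by linear_combination h1
      rcases mul_eq_zero.1 h2 with h3 | h3
      · exact Or.inl ⟨2, by push_cast; linear_combination h3⟩
      · right; left
        linear_combination pow_eq_zero_iff two_ne_zero |>.1 h3
    · have h2 : (τ + 2) * (τ ^ 2 - τ - 1) ^ 2 = 0 := by linear_combination h1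
      rcases mul_eq_zero.1 h2 with h3 | h3
      · exact Or.inl ⟨-2, by push_cast; linear_combination h3⟩
      · right; right
        linear_combination pow_eq_zero_iff two_ne_zero |>.1 h3

/-- `Φ` multiplies traces by `σ` -/
theorem trace_act (A : GL (Fin 2) F) (σ : F ≃+* F) (x : S2) : ((cj A * fld σ : MulAut S2) x).1.trace = σ x.1.trace := by
  have h1 : ((cj A * fld σ : MulAut S2) x).1 = (A : M2) * (x.1.map σ) * ((A⁻¹ : GL (Fin 2) F) : M2) := rfl
  rw [h1, Matrix.trace_mul_comm, ← Matrix.mul_assoc, ← Units.val_mul, inv_mul_cancel, Units.val_one, Matrix.one_mul]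
  rw [Matrix.trace_fin_two, Matrix.trace_fin_two, map_add]
  rfl

/-- A root of `τ² + τ = 1` is fixed by `σ` if an odd power of `Φ` is trivial modulo the centre. -/
theorem fixed_root {σ : F ≃+* F} {Φ : MulAut S2} (hΦ : ∀ x : S2, (Φ x).1.trace = σ x.1.trace) {N : ℕ} (hN : Odd N)
    (hΦN : ∀ x : S2, (Φ ^ N) x = x ∨ (Φ ^ N) x = -x) {τ : F} (hτ : τ * τ + τ = 1) : σ τ = τ := by
  have h1 : σ τ * σ τ + σ τ = 1 := by rw [← map_mul, ← map_add, hτ, map_one]
  have h2 : (σ τ - τ) * (σ τ + τ + 1) = 0 := by linear_combination h1 - hτ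
  rcases mul_eq_zero.1 h2 with h3 | h3
  · exact sub_eq_zero.1 h3
  have h4 : σ τ = -1 - τ := by linear_combination h3
  have h5 : σ (-1 - τ) = τ := by
    rw [map_sub, map_neg, map_one, h4]; ring
  let x : S2 := ⟨!![τ, 1; -1, 0], by simp [Matrix.det_fin_two]⟩
  have hx : x.1.trace = τ := by simp [x, Matrix.trace_fin_two]
  have key : ∀ j : ℕ, ((Φ ^ (2 * j)) x).1.trace = τ ∧ ((Φ ^ (2 * j + 1)) x).1.trace = -1 - τ := by
    intro j
    induction j with
    | zero =>
      refine ⟨?_, ?_⟩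
      · simpa using hx
      · rw [mul_zero, zero_add, pow_one, hΦ, hx, h4]
    | succ j ih =>
      have h6 : ((Φ ^ (2 * (j + 1))) x).1.trace = τ := by
        rw [show 2 * (j + 1) = (2 * j + 1) + 1 from by ring, pow_succ', MulAut.mul_apply, hΦ, ih.2, h5]
      refine ⟨h6, ?_⟩
      rw [pow_succ', MulAut.mul_apply, hΦ, h6, h4]
  obtain ⟨j, hj⟩ := hN
  have h6 := (key j).2
  rw [← hj] at h6
  rcases hΦN x with h7 | h7
  · rw [h7, hx] at h6
    rw [h4]; exact h6.symm
  · exfalso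
    have h8 : ((Φ ^ N) x).1.trace = -τ := by
      rw [h7]
      have : (-x).1 = -x.1 := rfl
      rw [this, trace_neg, hx]
    rw [h8] at h6
    have : (1 : F) = 0 := by linear_combination h6
    exact one_ne_zero this

/-- the four matrices `1, a, b, ab` detect matrices by traces -/
theorem zero_of_traces (h2 : (2 : F) ≠ 0) {r s : F} (hrs : r * r + s * s = -1) (g : S2) (X : M2)
    (h0 : X.trace = 0) (ha : (X * (g.1 * !![0, 1; -1, 0] * (g⁻¹).1)).trace = 0)
    (hb : (X * (g.1 * !![r, s; s, -r] * (g⁻¹).1)).trace = 0)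
    (hab : (X * (g.1 * (!![0, 1; -1, 0] * !![r, s; s, -r]) * (g⁻¹).1)).trace = 0) : X = 0 := by
  have hg : g.1 * (g⁻¹).1 = 1 := congrArg Subtype.val (mul_inv_cancel g)
  have hg' : (g⁻¹).1 * g.1 = 1 := congrArg Subtype.val (inv_mul_cancel g)
  set Z : M2 := (g⁻¹).1 * X * g.1 with hZ
  have hX : X = g.1 * Z * (g⁻¹).1 := by
    rw [hZ]
    calc X = 1 * X * 1 := by rw [Matrix.one_mul, Matrix.mul_one]
      _ = (g.1 * (g⁻¹).1) * X * (g.1 * (g⁻¹).1) := by rw [hg]
      _ = _ := by simp only [Matrix.mul_assoc]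
  have htr : ∀ B : M2, (X * (g.1 * B * (g⁻¹).1)).trace = (Z * B).trace := by
    intro B
    rw [← Matrix.mul_assoc, Matrix.trace_mul_comm, hZ]
    simp only [Matrix.mul_assoc]
  rw [htr] at ha hb hab
  have h0' : Z.trace = 0 := by
    rw [hZ, Matrix.trace_mul_comm, ← Matrix.mul_assoc, hg, Matrix.one_mul, h0]
  simp only [Matrix.trace_fin_two, Matrix.mul_apply, Fin.sum_univ_two, Matrix.of_apply, Matrix.cons_val_zero,
    Matrix.cons_val_one, Matrix.cons_val', Matrix.empty_val', Matrix.cons_val_fin_one] at ha hb hab h0'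
  have e1 : Z 1 1 = - Z 0 0 := by linear_combination h0'
  have e2 : Z 1 0 = Z 0 1 := by linear_combination ha
  rw [e1, e2] at hb hab
  have e3 : (2 : F) * Z 0 0 = 0 := by linear_combination -r * hb - s * hab + 2 * (Z 0 0) * hrs
  have e4 : Z 0 0 = 0 := (mul_eq_zero.1 e3).resolve_left h2
  have e5 : (2 : F) * Z 0 1 = 0 := by
    rw [e4] at hb hab
    linear_combination -s * hb + r * hab + 2 * (Z 0 1) * hrs
  have e6 : Z 0 1 = 0 := (mul_eq_zero.1 e5).resolve_left h2
  have hZ0 : Z = 0 := by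
    ext i j
    fin_cases i <;> fin_cases j
    · exact e4
    · exact e6
    · exact e2.trans e6
    · show Z 1 1 = 0
      rw [e1, e4, neg_zero]
  rw [hX, hZ0, Matrix.mul_zero, Matrix.zero_mul]

end Tr

section Main

variable {F : Type} [Field F] [Fintype F]

local notation "S2" => Matrix.SpecialLinearGroup (Fin 2) F
local notation "M2" => Matrix (Fin 2) (Fin 2) F
local notation "P2" => Matrix.ProjectiveSpecialLinearGroup (Fin 2) F

theorem perm5_ord : ∀ σ : Equiv.Perm (Fin 5), Equiv.Perm.sign σ = 1 → σ ^ 2 = 1 ∨ σ ^ 3 = 1 ∨ σ ^ 5 = 1 := by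
  (set_option synthInstance.maxSize 9000 in open scoped Cfsg.Agent.Lib.FastPerm in decide +kernel)

theorem isPGroup_zpowers {G : Type*} [Group G] {x : G} (h : x * x = 1) : IsPGroup 2 (Subgroup.zpowers x) := by
  rintro ⟨y, k, rfl⟩
  refine ⟨1, Subtype.ext ?_⟩
  rw [Subgroup.coe_pow, pow_one]
  show (x ^ k) ^ 2 = 1
  rw [pow_two, ← (Commute.refl x).mul_zpow, h, _root_.one_zpow]

theorem card_alt5 : Nat.card (alternatingGroup (Fin 5)) = 60 := by
  have := two_mul_nat_card_alternatingGroup (α := Fin 5)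
  rw [Nat.card_perm, Nat.card_fin] at this
  have h2 : Nat.factorial 5 = 120 := rfl
  omega

theorem exists_rs {p : ℕ} [hp : Fact p.Prime] [CharP F p] : ∃ r s : F, r * r + s * s = -1 := by
  obtain ⟨a, b, hab⟩ := ZMod.sq_add_sq p (-1)
  let f : ZMod p →+* F := ZMod.castHom dvd_rfl F
  refine ⟨f a, f b, ?_⟩
  rw [← map_mul, ← map_mul, ← map_add, ← pow_two, ← pow_two, hab, map_neg, map_one]

/-- The case `H ≅ A_5`. -/
theorem nAt_alt {p : ℕ} [hp : Fact p.Prime] [CharP F p] (h2 : (2 : F) ≠ 0) (H : Subgroup P2)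
    (e : H ≃* alternatingGroup (Fin 5)) : H165.RV.NAt H := by
  intro P hPH φ hφ hfix
  have hne : H ≠ ⊥ := by
    intro h
    have h3 : Nat.card H = 60 := by rw [Nat.card_congr e.toEquiv]; exact card_alt5
    rw [h, Subgroup.card_bot] at h3
    norm_num at h3
  refine ⟨H, hne, le_rfl, fun h hh n hn => H.mul_mem (H.mul_mem hh hn) (H.inv_mem hh), ?_⟩
  obtain ⟨A, σ, hφA⟩ := Cfsg.Agent.ClassicalGeometry.AutPSL.Main.surj_two p φ
  set Φ : MulAut S2 := cj A * fld σ with hΦ
  have hpr : ∀ x : S2, φ (pr x) = pr (Φ x) := by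
    intro x
    rw [hφA]
    rfl
  have htr : ∀ x : S2, (Φ x).1.trace = σ x.1.trace := trace_act A σ
  have hprpow : ∀ (k : ℕ) (x : S2), (φ ^ k) (pr x) = pr ((Φ ^ k) x) := by
    intro k
    induction k with
    | zero => intro x; rfl
    | succ k ih =>
      intro x
      rw [pow_succ', pow_succ', MulAut.mul_apply, MulAut.mul_apply, ih, hpr]
  have hΦN : ∀ x : S2, (Φ ^ (orderOf φ)) x = x ∨ (Φ ^ (orderOf φ)) x = -x := by
    intro x
    have h3 := hprpow (orderOf φ) x
    rw [pow_orderOf_eq_one, MulAut.one_apply] at h3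
    exact Cfsg.Agent.H947.Sy.pr_eq_iff.1 h3
  -- traces are fixed
  have hfixtr : ∀ h : S2, pr h ∈ H → σ h.1.trace = h.1.trace := by
    intro h hh
    have h3 : ∃ r : ℕ, (r = 2 ∨ r = 3 ∨ r = 5) ∧ (pr h) ^ r = 1 := by
      have h4 := perm5_ord (e ⟨pr h, hh⟩ : alternatingGroup (Fin 5)).1
        (Equiv.Perm.mem_alternatingGroup.1 (e ⟨pr h, hh⟩).2)
      have h5 : ∀ r : ℕ, (e ⟨pr h, hh⟩ : alternatingGroup (Fin 5)).1 ^ r = 1 → (pr h) ^ r = 1 := by
        intro r hr
        have h6 : (e ⟨pr h, hh⟩) ^ r = 1 := Subtype.ext hr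
        rw [← map_pow, ← map_one e] at h6
        exact congrArg Subtype.val (e.injective h6)
      rcases h4 with h4 | h4 | h4
      · exact ⟨2, Or.inl rfl, h5 2 h4⟩
      · exact ⟨3, Or.inr (Or.inl rfl), h5 3 h4⟩
      · exact ⟨5, Or.inr (Or.inr rfl), h5 5 h4⟩
    obtain ⟨r, hr, hr1⟩ := h3
    have h4 : h ^ r = 1 ∨ h ^ r = -1 := by
      rw [← map_pow, ← map_one pr] at hr1
      rcases Cfsg.Agent.H947.Sy.pr_eq_iff.1 hr1 with h5 | h5
      · exact Or.inl h5.symm
      · right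
        rw [h5, neg_neg]
    rcases trace_cases hr h4 with ⟨n, hn⟩ | h5 | h5
    · rw [hn, map_intCast]
    · exact fixed_root htr hφ hΦN h5
    · have h6 : σ (-h.1.trace) = -h.1.trace := fixed_root htr hφ hΦN (by linear_combination h5)
      rw [map_neg] at h6
      exact neg_injective h6
  -- the explicit four-group
  obtain ⟨r, s, hrs⟩ := exists_rs (F := F) (p := p)
  let a0 : S2 := ⟨!![0, 1; -1, 0], by simp [Matrix.det_fin_two]⟩
  let b0 : S2 := ⟨!![r, s; s, -r], by
    rw [Matrix.det_fin_two]; simp; linear_combination -hrs⟩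
  have haa : a0 * a0 = -1 := by
    apply Subtype.ext
    show (!![0, 1; -1, 0] : M2) * !![0, 1; -1, 0] = -1
    ext i j
    (revert i j; simp only [Matrix.mul_apply, Fin.sum_univ_two, _root_.Fin.forall_fin_succ, _root_.Matrix.of_apply, _root_.Matrix.cons_val', _root_.Matrix.cons_val_fin_one, Fin.isValue, _root_.Matrix.cons_val_zero, _root_.Matrix.cons_val_one, _root_.Matrix.neg_apply, _root_.MulZeroClass.mul_zero, _root_.mul_neg, _root_.mul_one, _root_.zero_add, _root_.neg_inj, _root_.Matrix.cons_val_succ, _root_.add_zero, _root_.IsEmpty.forall_iff, _root_.and_true, _root_.Matrix.one_apply_eq, Nat.reduceAdd, _root_.Fin.succ_zero_eq_one, _root_.ne_eq, _root_.zero_ne_one, _root_.not_false_eq_true, _root_.Matrix.one_apply_ne, _root_.neg_zero, _root_.and_self, _root_.Fin.succ_ne_zero, _root_.true_and])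
  have hbb : b0 * b0 = -1 := by
    apply Subtype.ext
    show (!![r, s; s, -r] : M2) * !![r, s; s, -r] = -1
    ext i j
    fin_cases i <;> fin_cases j <;> simp only [Matrix.mul_apply, Fin.sum_univ_two, _root_.Fin.zero_eta, _root_.Fin.isValue, _root_.Matrix.of_apply, _root_.Matrix.cons_val', _root_.Matrix.cons_val_fin_one, _root_.Matrix.cons_val_zero, _root_.Matrix.cons_val_one, _root_.Matrix.neg_apply, _root_.Matrix.one_apply_eq, _root_.Fin.mk_one, _root_.mul_neg, _root_.Nat.reduceAdd, _root_.ne_eq, _root_.zero_ne_one, _root_.not_false_eq_true, _root_.Matrix.one_apply_ne, _root_.neg_zero, _root_.neg_mul, _root_.one_ne_zero, _root_.neg_neg]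
    · exact hrs
    · ring
    · ring
    · linear_combination hrs
  have hba : b0 * a0 = -(a0 * b0) := by
    apply Subtype.ext
    show (!![r, s; s, -r] : M2) * !![0, 1; -1, 0] = -(!![0, 1; -1, 0] * !![r, s; s, -r])
    ext i j
    (revert i j; simp only [Matrix.mul_apply, Fin.sum_univ_two, _root_.Fin.forall_fin_succ, _root_.Matrix.of_apply, _root_.Matrix.cons_val', _root_.Matrix.cons_val_fin_one, Fin.isValue, _root_.Matrix.cons_val_zero, _root_.Matrix.cons_val_one, _root_.Matrix.cons_mul, _root_.Nat.succ_eq_add_one, Nat.reduceAdd, _root_.Matrix.vecMul_cons, _root_.Matrix.head_cons, _root_.zero_smul, _root_.Matrix.tail_cons, _root_.one_smul, _root_.Matrix.empty_vecMul, _root_.add_zero, _root_.zero_add, _root_.neg_smul, _root_.Matrix.neg_cons, _root_.Matrix.neg_empty, _root_.Matrix.empty_mul, _root_.Equiv.symm_apply_apply, _root_.Matrix.neg_apply, _root_.MulZeroClass.mul_zero, _root_.mul_neg, _root_.mul_one, _root_.Matrix.cons_val_succ, _root_.forall_const,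 _root_.true_and, _root_.neg_neg, _root_.implies_true, _root_.and_self])
  have hneg : ∀ x : S2, (pr (-x) : P2) = pr x := fun x =>
    Cfsg.Agent.H947.Sy.pr_eq_iff.2 (Or.inr (by rw [neg_neg]))
  have hpaa : (pr a0 : P2) * pr a0 = 1 := by rw [← map_mul, haa, hneg, map_one]
  have hpbb : (pr b0 : P2) * pr b0 = 1 := by rw [← map_mul, hbb, hneg, map_one]
  have hpba : (pr b0 : P2) * pr a0 = pr a0 * pr b0 := by rw [← map_mul, hba, hneg, map_mul]
  obtain ⟨g, hga, hgb⟩ : ∃ g : S2, (pr (g * a0 * g⁻¹) : P2) ∈ P ∧ (pr (g * b0 * g⁻¹) : P2) ∈ P := by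
    have hsup : IsPGroup 2 ((Subgroup.zpowers (pr a0 : P2)) ⊔ (Subgroup.zpowers (pr b0 : P2)) : Subgroup P2) := by
      refine (isPGroup_zpowers hpaa).to_sup_of_normal_right' (isPGroup_zpowers hpbb) ?_
      have hc : Commute (pr a0 : P2) (pr b0) := hpba.symm
      rw [Subgroup.zpowers_le, Subgroup.mem_normalizer_iff]
      intro n
      constructor
      · intro hn
        obtain ⟨k, rfl⟩ := Subgroup.mem_zpowers_iff.1 hn
        rw [(hc.zpow_right k).eq, mul_inv_cancel_right]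
        exact hn
      · intro hn
        obtain ⟨k, hk⟩ := Subgroup.mem_zpowers_iff.1 hn
        have h3 : n = (pr b0 : P2) ^ k := by
          have h4 : n = (pr a0 : P2)⁻¹ * (pr a0 * n * (pr a0)⁻¹) * pr a0 := by group
          rw [h4, ← hk, ((hc.symm.zpow_left k).inv_right).symm.eq, mul_assoc, inv_mul_cancel, mul_one]
        rw [h3]
        exact Subgroup.zpow_mem _ (Subgroup.mem_zpowers _) k
    obtain ⟨Q, hQ⟩ := hsup.exists_le_sylow
    obtain ⟨g, hg⟩ := MulAction.exists_smul_eq P2 Q P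
    obtain ⟨g, rfl⟩ := pr_surjective g
    have key : ∀ x : S2, pr x ∈ Q → pr (g * x * g⁻¹) ∈ P := by
      intro x hx
      rw [← hg, map_mul, map_mul, map_inv]
      exact ⟨pr x, hx, rfl⟩
    exact ⟨g, key _ (hQ (le_sup_left (a := Subgroup.zpowers (pr a0 : P2)) (Subgroup.mem_zpowers _))),
      key _ (hQ (le_sup_right (b := Subgroup.zpowers (pr b0 : P2)) (Subgroup.mem_zpowers _)))⟩
  set a : S2 := g * a0 * g⁻¹ with ha
  set b : S2 := g * b0 * g⁻¹ with hb
  have cc : ∀ x y : S2, g * x * g⁻¹ * (g * y * g⁻¹) = g * (x * y) * g⁻¹ := by intro x y; group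
  have cneg : ∀ x : S2, g * (-x) * g⁻¹ = -(g * x * g⁻¹) := by intro x; rw [mul_neg, neg_mul]
  have haa' : a * a = -1 := by rw [ha, cc, haa, cneg, mul_one, mul_inv_cancel]
  have hbb' : b * b = -1 := by rw [hb, cc, hbb, cneg, mul_one, mul_inv_cancel]
  have hba' : b * a = -(a * b) := by rw [ha, hb, cc, hba, cneg, cc]
  have hainv : a⁻¹ = -a := by
    rw [inv_eq_iff_mul_eq_one, mul_neg, haa', neg_neg]
  have hbinv : b⁻¹ = -b := by
    rw [inv_eq_iff_mul_eq_one, mul_neg, hbb', neg_neg]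
  have habm : a * b * a = b := by rw [mul_assoc, hba', mul_neg, ← mul_assoc, haa', neg_mul, one_mul, neg_neg]
  have hbab : b * a * b = a := by rw [hba', neg_mul, mul_assoc, hbb', mul_neg, mul_one, neg_neg]
  have hΦa : Φ a = a ∨ Φ a = -a := by
    have h3 := hfix _ hga
    rw [hpr] at h3
    rcases Cfsg.Agent.H947.Sy.pr_eq_iff.1 h3 with h4 | h4
    · exact Or.inl h4.symm
    · exact Or.inr (neg_eq_iff_eq_neg.1 h4.symm)
  have hΦb : Φ b = b ∨ Φ b = -b := by
    have h3 := hfix _ hgb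
    rw [hpr] at h3
    rcases Cfsg.Agent.H947.Sy.pr_eq_iff.1 h3 with h4 | h4
    · exact Or.inl h4.symm
    · exact Or.inr (neg_eq_iff_eq_neg.1 h4.symm)
  have haH : pr a ∈ H := hPH hga
  have hbH : pr b ∈ H := hPH hgb
  obtain ⟨u, huH, hua, hub⟩ : ∃ u : S2, pr u ∈ H ∧ Φ a = u⁻¹ * a * u ∧ Φ b = u⁻¹ * b * u := by
    rcases hΦa with h3 | h3 <;> rcases hΦb with h4 | h4
    · exact ⟨1, by rw [map_one]; exact H.one_mem, by rw [h3]; simp, by rw [h4]; simp⟩
    · refine ⟨a, haH, by rw [h3]; simp, ?_⟩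
      rw [h4, hainv, neg_mul, neg_mul, habm]
    · refine ⟨b, hbH, ?_, by rw [h4]; simp⟩
      rw [h3, hbinv, neg_mul, neg_mul, hbab]
    · refine ⟨a * b, by rw [map_mul]; exact H.mul_mem haH hbH, ?_, ?_⟩
      · have h5 : (a * b)⁻¹ * a * (a * b) = b⁻¹ * a * b := by group
        rw [h3, h5, hbinv, neg_mul, neg_mul, hbab]
      · have h5 : (a * b)⁻¹ * b * (a * b) = b⁻¹ * (a⁻¹ * b * a) * b := by group
        rw [h4, h5, hainv, neg_mul, neg_mul, habm, mul_neg, neg_mul, inv_mul_cancel, one_mul]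
  -- the main point
  have main : ∀ h : S2, pr h ∈ H → Φ h = u⁻¹ * h * u := by
    intro h hh
    have tr2 : ∀ y : S2, pr y ∈ H → Φ y = u⁻¹ * y * u →
        (((Φ h).1 - (u⁻¹ * h * u).1) * (Φ y).1).trace = 0 := by
      intro y hy hy1
      rw [Matrix.sub_mul, Matrix.trace_sub, sub_eq_zero]
      have h5 : ((Φ h).1 * (Φ y).1).trace = (h * y).1.trace := by
        have h6 : (Φ h).1 * (Φ y).1 = (Φ (h * y)).1 := by rw [map_mul]; rfl
        rw [h6, htr, hfixtr _ (by rw [map_mul]; exact H.mul_mem hh hy)]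
      have h7 : ((u⁻¹ * h * u).1 * (Φ y).1).trace = (h * y).1.trace := by
        have h8 : (u⁻¹ * h * u).1 * (Φ y).1 = (u⁻¹ * (h * y) * u).1 := by
          rw [hy1]
          have h9 : u⁻¹ * h * u * (u⁻¹ * y * u) = u⁻¹ * (h * y) * u := by group
          exact congrArg Subtype.val h9
        have h10 : (u⁻¹ * (h * y) * u).1 = (u⁻¹).1 * (h * y).1 * u.1 := rfl
        have h11 : u.1 * (u⁻¹).1 = 1 := congrArg Subtype.val (mul_inv_cancel u)
        rw [h8, h10, Matrix.trace_mul_comm, ← Matrix.mul_assoc, h11, Matrix.one_mul]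
      rw [h5, h7]
    have hab1 : Φ (a * b) = u⁻¹ * (a * b) * u := by
      rw [map_mul, hua, hub]; group
    have e0 := tr2 1 (by rw [map_one]; exact H.one_mem) (by rw [map_one]; group)
    have ea := tr2 a haH hua
    have eb := tr2 b hbH hub
    have eab := tr2 (a * b) (by rw [map_mul]; exact H.mul_mem haH hbH) hab1
    have z := zero_of_traces h2 hrs (u⁻¹ * g) ((Φ h).1 - (u⁻¹ * h * u).1) ?_ ?_ ?_ ?_
    · exact Subtype.ext (sub_eq_zero.1 z)
    · rw [map_one] at e0
      have : ((1 : S2)).1 = (1 : M2) := rfl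
      rw [this, Matrix.mul_one] at e0
      exact e0
    · have h5 : (Φ a).1 = (u⁻¹ * g).1 * !![0, 1; -1, 0] * ((u⁻¹ * g)⁻¹).1 := by
        rw [hua, ha]
        have h6 : u⁻¹ * (g * a0 * g⁻¹) * u = (u⁻¹ * g) * a0 * (u⁻¹ * g)⁻¹ := by group
        exact congrArg Subtype.val h6
      rw [h5] at ea
      exact ea
    · have h5 : (Φ b).1 = (u⁻¹ * g).1 * !![r, s; s, -r] * ((u⁻¹ * g)⁻¹).1 := by
        rw [hub, hb]
        have h6 : u⁻¹ * (g * b0 * g⁻¹) * u = (u⁻¹ * g) * b0 * (u⁻¹ * g)⁻¹ := by group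
        exact congrArg Subtype.val h6
      rw [h5] at eb
      exact eb
    · have h5 : (Φ (a * b)).1 = (u⁻¹ * g).1 * (!![0, 1; -1, 0] * !![r, s; s, -r]) * ((u⁻¹ * g)⁻¹).1 := by
        rw [hab1, ha, hb]
        have h6 : u⁻¹ * (g * a0 * g⁻¹ * (g * b0 * g⁻¹)) * u = (u⁻¹ * g) * (a0 * b0) * (u⁻¹ * g)⁻¹ := by group
        exact congrArg Subtype.val h6
      rw [h5] at eab
      exact eab
  have hle : H.map (φ : P2 ≃* P2).toMonoidHom ≤ H := by
    rintro _ ⟨y, hy, rfl⟩
    obtain ⟨h, rfl⟩ := pr_surjective y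
    have h3 : (φ : P2 ≃* P2).toMonoidHom (pr h) = (pr u)⁻¹ * pr h * pr u := by
      show φ (pr h) = _
      rw [hpr, main h hy, map_mul, map_mul, map_inv]
    rw [h3]
    exact H.mul_mem (H.mul_mem (H.inv_mem huH) hy) huH
  refine Subgroup.eq_of_le_of_card_ge hle ?_
  exact (Nat.card_congr (H.equivMapOfInjective _ φ.injective).toEquiv).le

end Main

section Row

theorem NAt.of_equiv {S : Type*} {S' : Type*} [Group S] [Group S'] [Finite S] (e : S ≃* S') {H : Subgroup S}
    (h : H165.RV.NAt (H.map e.toMonoidHom)) : H165.RV.NAt H := by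
  intro P hPH φ hφ hfix
  let P' : Sylow 2 S' := P.mapSurjective (f := e.toMonoidHom) e.surjective
  let φ' : MulAut S' := MulAut.congr e φ
  have hφ' : Odd (orderOf φ') := by
    have : orderOf φ' = orderOf φ := MulEquiv.orderOf_eq (MulAut.congr e) φ
    rwa [this]
  have hP' : (P' : Subgroup S') = (P : Subgroup S).map e.toMonoidHom := rfl
  have happ : ∀ x : S, φ' (e x) = e (φ x) := by
    intro x
    show e (φ (e.symm (e x))) = _
    rw [e.symm_apply_apply]
  obtain ⟨N, h1, h2, h3, h4⟩ := h P' (by rw [hP']; exact Subgroup.map_mono hPH) φ' hφ' (by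
    rintro x hx
    have hx' : x ∈ (P : Subgroup S).map e.toMonoidHom := hx
    obtain ⟨y, hy, rfl⟩ := hx'
    show φ' (e y) = e y
    rw [happ, hfix y hy])
  refine ⟨N.comap e.toMonoidHom, ?_, ?_, ?_, ?_⟩
  · intro h0
    apply h1
    rw [eq_bot_iff]
    intro n hn
    obtain ⟨m, rfl⟩ := e.surjective n
    have : m ∈ N.comap e.toMonoidHom := hn
    rw [h0, Subgroup.mem_bot] at this
    rw [this, map_one]
    exact Subgroup.mem_bot.2 rfl
  · intro x hx
    obtain ⟨y, hy, hyx⟩ := h2 hx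
    have : y = x := e.injective hyx
    rwa [← this]
  · intro x hx n hn
    have := h3 (e x) ⟨x, hx, rfl⟩ (e n) hn
    show e (x * n * x⁻¹) ∈ N
    rw [map_mul, map_mul, map_inv]
    exact this
  · ext x
    constructor
    · rintro ⟨y, hy, rfl⟩
      show e (φ y) ∈ N
      rw [← happ, ← h4]
      exact ⟨e y, hy, rfl⟩
    · intro hx
      have hx' : e x ∈ N := hx
      rw [← h4] at hx'
      obtain ⟨n, hn, hnx⟩ := hx'
      obtain ⟨m, rfl⟩ := e.surjective n
      have h5 : e (φ m) = e x := by rw [← happ]; exact hnx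
      exact ⟨m, hn, e.injective h5⟩

theorem IsPiHall.map_equiv {S : Type*} {S' : Type*} [Group S] [Group S'] (e : S ≃* S') {π : Set ℕ} {H : Subgroup S}
    (h : Cfsg.IsPiHall π H) : Cfsg.IsPiHall π (H.map e.toMonoidHom) := by
  refine ⟨?_, ?_⟩
  · intro p hp hd
    refine h.1 p hp ?_
    rwa [← Nat.card_congr (H.equivMapOfInjective e.toMonoidHom e.injective).toEquiv] at hd
  · intro p hp hpπ hd
    refine h.2 p hp hpπ ?_
    have h1 : (H.map e.toMonoidHom).index = H.index := Subgroup.index_map_equiv H e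
    rwa [h1] at hd

theorem NRow.of_equiv {S : Type*} {S' : Type*} [Group S] [Group S'] [Finite S] (e : S ≃* S') {π : Set ℕ}
    (h : H165.RV.NRow π S') : H165.RV.NRow π S :=
  fun _ hH => NAt.of_equiv e (h _ (IsPiHall.map_equiv e hH))

/-- **`NRow` for `PSL_2(q)`, `q` odd, `p ∉ π`, `2 ∈ π`.** -/
theorem nRow_psl2 {S : Type*} [Group S] [Finite S] {F : Type} [Field F] [Fintype F]
    (e : S ≃* Matrix.ProjectiveSpecialLinearGroup (Fin 2) F) {p : ℕ} [hpp : Fact p.Prime] [CharP F p] {π : Set ℕ}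
    (h2 : 2 ∈ π) (hp : p ∉ π) : H165.RV.NRow π S := by
  refine NRow.of_equiv e ?_
  intro H hH
  have hp2 : p ≠ 2 := by rintro rfl; exact hp h2
  have hodd : Odd (Fintype.card F) := by
    obtain ⟨n, -, hn⟩ := FiniteField.card F p
    rw [hn]
    exact (hpp.out.odd_of_ne_two hp2).pow
  have htwo : (2 : F) ≠ 0 := by
    intro h
    have h1 : ((2 : ℕ) : F) = 0 := by exact_mod_cast h
    rw [CharP.cast_eq_zero_iff F p] at h1
    rcases (Nat.dvd_prime Nat.prime_two).1 h1 with h3 | h3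
    · exact hpp.out.one_lt.ne' h3
    · exact hp2 h3
  rcases hasTwo_or_alt (p := p) hodd H (hH.2 2 Nat.prime_two h2) (fun hd => hp (hH.1 p hpp.out hd)) with h | ⟨⟨e'⟩⟩
  · exact h.nAt
  · exact nAt_alt (p := p) htwo H e'

end Row

end Cfsg.Agent.H563.RV
end

-- part: H165/RV/NRowAll
section
/-!
# TEAM RV: the `N`-row of all simple groups, assembly (helper165)

`NBoxes π` : the rows which are not used from a landed file by name (hypotheses of the assembly).
-/

set_option autoImplicit false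

namespace Cfsg.Agent.H165.RV

open Subgroup Cfsg

universe u

/-- the boxes of the assembly of `NRow` -/
structure NBoxes (π : Set ℕ) : Prop where
  /-- `A_n`, sporadic, Tits -/
  alt : ∀ (S : Type u) [Group S] [Finite S] [IsSimpleGroup S], IsAlternating S → NRow π S
  spor : ∀ (S : Type u) [Group S] [Finite S] [IsSimpleGroup S], IsSporadicGroup S → NRow π S
  tits : ∀ (S : Type u) [Group S] [Finite S] [IsSimpleGroup S], Lie.IsoTits S → NRow π S
  /-- characteristic `2` -/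
  two : ∀ (S : Type u) [Group S] [Finite S] [IsSimpleGroup S], ¬ IsMulCommutative S → IsLieTypeChar 2 S → NRow π S
  /-- own characteristic -/
  own : ∀ (S : Type u) [Group S] [Finite S] [IsSimpleGroup S], ¬ IsMulCommutative S → ∀ p : ℕ, p.Prime → p ≠ 2 → p ∈ π →
    IsLieTypeChar p S → NRow π S
  /-- orthogonal groups, `p ∉ π` -/
  oOdd : ∀ (S : Type u) [Group S] [Finite S] [IsSimpleGroup S], ∀ p : ℕ, p.Prime → p ∉ π → IsPOmegaOddChar p S → NRow π S
  oPlus : ∀ (S : Type u) [Group S] [Finite S] [IsSimpleGroup S], ∀ p : ℕ, p.Prime → p ∉ π → IsPOmegaPlusChar p S → NRow π S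
  oMinus : ∀ (S : Type u) [Group S] [Finite S] [IsSimpleGroup S], ∀ p : ℕ, p.Prime → p ∉ π → IsPOmegaMinusChar p S → NRow π S
  /-- exceptional groups, `p ∉ π` -/
  exc : ∀ (S : Type u) [Group S] [Finite S] [IsSimpleGroup S], ∀ p : ℕ, p.Prime → p ∉ π → IsExceptionalChevChar p S → NRow π S
  tw : ∀ (S : Type u) [Group S] [Finite S] [IsSimpleGroup S], ∀ p : ℕ, p.Prime → p ∉ π → IsTwistedE6D4Char p S → NRow π S
  ree : ∀ (S : Type u) [Group S] [Finite S] [IsSimpleGroup S], 3 ∉ π → Lie.IsoRee S → NRow π S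

variable {π : Set ℕ} {S : Type u} [Group S] [Finite S] [IsSimpleGroup S]

end Cfsg.Agent.H165.RV
end
end
end
end
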